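import Cfsg.Agent.EqLemmas
import Cfsg.Agent.Lib.Cores.Subnormal
import Cfsg.Agent.Lib.Solvable.Basic
import Cfsg.Agent.Lib.ZStar.Apply
import Cfsg.Agent.Lib.ZStarPrimePower.Proved
import Cfsg.Agent.S1225

/-!
# Group theoretic preparations for `PSL₃(4)` type Sylow 2-subgroups (S3198)

* `Factor N K` : `K` is a simple nonabelian normal subgroup of `N`; `exists_factor`, `Factor.eq_of_forall`
* `false_of_isolated`, `exists_conj_ne` : isolated involutions in simple groups
* `one_class` : a group with a strongly embedded subgroup has one class of involutions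
* `eq_top_of_central` : a central Sylow 2-subgroup in a core-free group is everything
-/

set_option autoImplicit false

open Cfsg

namespace Cfsg.Agent.L34Sylow

universe u

variable {G : Type u} [Group G]

theorem map_conj_mem {H : Subgroup G} {g x : G} (hx : x ∈ H) :
    g * x * g⁻¹ ∈ H.map (MulAut.conj g).toMonoidHom := ⟨x, hx, rfl⟩

/-- A simple nonabelian normal subgroup of `N`. -/
structure Factor (N K : Subgroup G) : Prop where
  le : K ≤ N
  norm : N ≤ Subgroup.normalizer (K : Set G)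
  simple : IsSimpleGroup K
  nonab : ¬ IsMulCommutative K

theorem Factor.ne_bot {N K : Subgroup G} (h : Factor N K) : K ≠ ⊥ := by
  intro e
  exact h.nonab ⟨⟨fun a b => Subtype.ext (by
    have ha := a.2
    have hb := b.2
    simp only [e, Subgroup.mem_bot] at ha hb
    simp [ha, hb])⟩⟩

theorem Factor.center {N K : Subgroup G} (h : Factor N K) {x : G} (hx : x ∈ K)
    (hc : ∀ k ∈ K, k * x = x * k) : x = 1 := by
  haveI := h.simple
  rcases (inferInstance : (Subgroup.center K).Normal).eq_bot_or_eq_top with e | e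
  · have : (⟨x, hx⟩ : K) ∈ Subgroup.center K :=
      Subgroup.mem_center_iff.2 fun k => Subtype.ext (hc k k.2)
    rw [e, Subgroup.mem_bot] at this
    exact congrArg Subtype.val this
  · exact absurd ⟨⟨fun a b => Subgroup.mem_center_iff.1 (e ▸ Subgroup.mem_top b : b ∈ Subgroup.center K) a⟩⟩
      h.nonab

theorem Factor.conj {N K : Subgroup G} [N.Normal] (h : Factor N K) (g : G) :
    Factor N (K.map (MulAut.conj g).toMonoidHom) := by
  refine ⟨?_, ?_, ?_, ?_⟩
  · rintro _ ⟨k, hk, rfl⟩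
    exact ‹N.Normal›.conj_mem k (h.le hk) g
  · intro n hn
    refine Subgroup.mem_normalizer_iff.2 fun x => ?_
    have hm : g⁻¹ * n * g ∈ Subgroup.normalizer (K : Set G) :=
      h.norm (by simpa using ‹N.Normal›.conj_mem n hn g⁻¹)
    rw [Subgroup.mem_map_equiv, Subgroup.mem_map_equiv, MulAut.conj_symm_apply, MulAut.conj_symm_apply,
      Subgroup.mem_normalizer_iff.1 hm]
    rw [show g⁻¹ * n * g * (g⁻¹ * x * g) * (g⁻¹ * n * g)⁻¹ = g⁻¹ * (n * x * n⁻¹) * g by group]
  · haveI := h.simple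
    exact (K.equivMapOfInjective (MulAut.conj g).toMonoidHom (MulAut.conj g).injective).isSimpleGroup_congr.1 h.simple
  · intro hc
    refine h.nonab ⟨⟨fun a b => ?_⟩⟩
    apply (K.equivMapOfInjective (MulAut.conj g).toMonoidHom (MulAut.conj g).injective).injective
    rw [map_mul, map_mul]
    exact hc.is_comm.comm _ _

theorem Factor.le_of_inf_ne {N K L : Subgroup G} (hK : Factor N K) (hL : Factor N L) (h : K ⊓ L ≠ ⊥) :
    K ≤ L := by
  haveI := hK.simple
  have hn : ((K ⊓ L).subgroupOf K).Normal := ⟨fun x hx k => by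
    rw [Subgroup.mem_subgroupOf] at hx ⊢
    exact ⟨(k * x * k⁻¹ : K).2,
      (Subgroup.mem_normalizer_iff.1 (hL.norm (hK.le k.2)) _).1 hx.2⟩⟩
  rcases hn.eq_bot_or_eq_top with e | e
  · refine absurd ((Subgroup.eq_bot_iff_forall _).2 fun x hx => ?_) h
    have : (⟨x, hx.1⟩ : K) ∈ (K ⊓ L).subgroupOf K := hx
    rw [e, Subgroup.mem_bot] at this
    exact congrArg Subtype.val this
  · exact fun x hx => (e.ge (Subgroup.mem_top (⟨x, hx⟩ : K)) : x ∈ K ⊓ L).2

theorem Factor.eq_of_mem {N K L : Subgroup G} (hK : Factor N K) (hL : Factor N L) {x : G} (h1 : x ≠ 1)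
    (hxK : x ∈ K) (hxL : x ∈ L) : K = L := by
  have h : K ⊓ L ≠ ⊥ := fun e => h1 ((Subgroup.eq_bot_iff_forall _).1 e x ⟨hxK, hxL⟩)
  exact le_antisymm (hK.le_of_inf_ne hL h) (hL.le_of_inf_ne hK (by rwa [inf_comm]))

theorem Factor.commute {N K L : Subgroup G} (hK : Factor N K) (hL : Factor N L) (h : K ≠ L) {k l : G}
    (hk : k ∈ K) (hl : l ∈ L) : k * l = l * k := by
  by_contra hne
  refine h (hK.eq_of_mem hL (x := k * l * k⁻¹ * l⁻¹) ?_ ?_ ?_)
  · intro e
    rw [mul_inv_eq_one, mul_inv_eq_iff_eq_mul] at e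
    exact hne e
  · rw [show k * l * k⁻¹ * l⁻¹ = k * (l * k⁻¹ * l⁻¹) by group]
    exact K.mul_mem hk ((Subgroup.mem_normalizer_iff.1 (hK.norm (hL.le hl)) _).1 (K.inv_mem hk))
  · exact L.mul_mem ((Subgroup.mem_normalizer_iff.1 (hL.norm (hK.le hk)) _).1 hl) (L.inv_mem hl)

/-- A subgroup covered by the factors lies in one factor. -/
theorem Factor.eq_of_forall {N : Subgroup G} {H : Subgroup G}
    (hH : ∀ x ∈ H, x ≠ 1 → ∃ K, Factor N K ∧ x ∈ K) {K L : Subgroup G} (hK : Factor N K) (hL : Factor N L)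
    {a b : G} (ha : a ∈ H) (ha1 : a ≠ 1) (haK : a ∈ K) (hb : b ∈ H) (hb1 : b ≠ 1) (hbL : b ∈ L) : K = L := by
  by_contra hne
  by_cases hab : a * b = 1
  · exact hne (hK.eq_of_mem hL ha1 haK ((eq_inv_of_mul_eq_one_left hab) ▸ L.inv_mem hbL))
  obtain ⟨M, hM, habM⟩ := hH _ (H.mul_mem ha hb) hab
  by_cases hMK : M = K
  · subst hMK
    exact hne (hK.eq_of_mem hL hb1 ((Subgroup.mul_mem_cancel_left _ haK).1 habM) hbL)
  refine ha1 (hK.center haK fun k hk => ?_)
  have h1 : k * (a * b) = a * b * k := hK.commute hM (Ne.symm hMK) hk habM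
  have h2 : k * b = b * k := hK.commute hL hne hk hbL
  rw [mul_assoc, ← h2, ← mul_assoc a k b, ← mul_assoc k a b] at h1
  exact mul_right_cancel h1

/-- A minimal normal subgroup which is nonabelian has a simple factor. -/
theorem exists_factor [Finite G] {N : Subgroup G} [hNn : N.Normal] (hN0 : N ≠ ⊥)
    (hmin : ∀ M : Subgroup G, M.Normal → M ≤ N → M = ⊥ ∨ M = N) (hna : ¬ IsMulCommutative N) :
    ∃ K, Factor N K := by
  set s := {R : Subgroup G | R ≠ ⊥ ∧ R ≤ N ∧ N ≤ Subgroup.normalizer (R : Set G)} with hs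
  obtain ⟨K, ⟨hK0, hKN, hKn⟩, hKmin⟩ :=
    (Set.toFinite s).exists_minimal ⟨N, hN0, le_rfl, Subgroup.le_normalizer⟩
  have hmem : ∀ g : G, K.map (MulAut.conj g).toMonoidHom ∈ s := by
    intro g
    refine ⟨fun e => hK0 ((Subgroup.map_eq_bot_iff_of_injective _ (MulAut.conj g).injective).1 e), ?_, ?_⟩
    · rintro _ ⟨k, hk, rfl⟩
      exact hNn.conj_mem k (hKN hk) g
    · intro n hn
      refine Subgroup.mem_normalizer_iff.2 fun x => ?_
      have hm : g⁻¹ * n * g ∈ Subgroup.normalizer (K : Set G) :=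
        hKn (by simpa using hNn.conj_mem n hn g⁻¹)
      rw [Subgroup.mem_map_equiv, Subgroup.mem_map_equiv, MulAut.conj_symm_apply, MulAut.conj_symm_apply,
        Subgroup.mem_normalizer_iff.1 hm]
      rw [show g⁻¹ * n * g * (g⁻¹ * x * g) * (g⁻¹ * n * g)⁻¹ = g⁻¹ * (n * x * n⁻¹) * g by group]
  have hgen : ∀ P : Subgroup G, (∀ g : G, K.map (MulAut.conj g).toMonoidHom ≤ P) → N ≤ P := by
    intro P hP
    rcases hmin (Subgroup.normalClosure (K : Set G)) inferInstance
      (Subgroup.normalClosure_le_normal hKN) with e | e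
    · exact absurd (le_bot_iff.1 ((Subgroup.le_normalClosure).trans e.le)) hK0
    · rw [← e, Subgroup.normalClosure, Subgroup.closure_le]
      intro x hx
      obtain ⟨k, hk, hc⟩ := Group.mem_conjugatesOfSet_iff.1 hx
      obtain ⟨g, rfl⟩ := isConj_iff.1 hc
      exact hP g (map_conj_mem hk)
  have heq : ∀ g : G, ∀ k ∈ K, ∀ l ∈ K.map (MulAut.conj g).toMonoidHom,
      K.map (MulAut.conj g).toMonoidHom = K ∨ k * l = l * k := by
    intro g k hk l hl
    set L := K.map (MulAut.conj g).toMonoidHom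
    obtain ⟨-, hLN, hLn⟩ := hmem g
    by_cases hc : k * l = l * k
    · exact Or.inr hc
    left
    have hI : K ⊓ L ∈ s := by
      refine ⟨fun e => hc ?_, inf_le_left.trans hKN, fun n hn => ?_⟩
      · have : k * l * k⁻¹ * l⁻¹ ∈ K ⊓ L := by
          refine ⟨?_, L.mul_mem ((Subgroup.mem_normalizer_iff.1 (hLn (hKN hk)) _).1 hl) (L.inv_mem hl)⟩
          rw [show k * l * k⁻¹ * l⁻¹ = k * (l * k⁻¹ * l⁻¹) by group]
          exact K.mul_mem hk ((Subgroup.mem_normalizer_iff.1 (hKn (hLN hl)) _).1 (K.inv_mem hk))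
        rw [e, Subgroup.mem_bot, mul_inv_eq_one, mul_inv_eq_iff_eq_mul] at this
        exact this
      · refine Subgroup.mem_normalizer_iff.2 fun x => ?_
        simp only [Subgroup.mem_inf]
        rw [Subgroup.mem_normalizer_iff.1 (hKn hn) x, Subgroup.mem_normalizer_iff.1 (hLn hn) x]
    have hKL : K ≤ L := (hKmin hI inf_le_left).trans inf_le_right
    exact (Subgroup.eq_of_le_of_card_ge hKL
      (Subgroup.card_map_of_injective (MulAut.conj g).injective).le).symm
  have hna' : ¬ IsMulCommutative K := by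
    intro hc
    have hgg : ∀ g h : G, ∀ x ∈ K.map (MulAut.conj g).toMonoidHom,
        ∀ y ∈ K.map (MulAut.conj h).toMonoidHom, x * y = y * x := by
      intro g h x hx y hy
      obtain ⟨k, hk, rfl⟩ := hx
      obtain ⟨k', hk', rfl⟩ := hy
      have hl : g⁻¹ * h * k' * (g⁻¹ * h)⁻¹ ∈ K.map (MulAut.conj (g⁻¹ * h)).toMonoidHom := map_conj_mem hk'
      have : k * (g⁻¹ * h * k' * (g⁻¹ * h)⁻¹) = g⁻¹ * h * k' * (g⁻¹ * h)⁻¹ * k := by
        rcases heq _ k hk _ hl with e | e
        · rw [e] at hl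
          exact congrArg Subtype.val (hc.is_comm.comm ⟨k, hk⟩ ⟨_, hl⟩)
        · exact e
      show g * k * g⁻¹ * (h * k' * h⁻¹) = h * k' * h⁻¹ * (g * k * g⁻¹)
      calc g * k * g⁻¹ * (h * k' * h⁻¹) = g * (k * (g⁻¹ * h * k' * (g⁻¹ * h)⁻¹)) * g⁻¹ := by group
        _ = g * (g⁻¹ * h * k' * (g⁻¹ * h)⁻¹ * k) * g⁻¹ := by rw [this]
        _ = _ := by group
    have hNC : N ≤ Subgroup.centralizer (N : Set G) := hgen _ fun g x hx =>
      Subgroup.mem_centralizer_iff.2 fun y hy => by
        have : N ≤ Subgroup.centralizer ({x} : Set G) := hgen _ fun h z hz =>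
          Subgroup.mem_centralizer_singleton_iff.2 (hgg h g z hz x hx)
        exact Subgroup.mem_centralizer_singleton_iff.1 (this hy)
    exact hna ⟨⟨fun a b => Subtype.ext (Subgroup.mem_centralizer_iff.1 (hNC b.2) a a.2)⟩⟩
  haveI : Nontrivial K := (Subgroup.nontrivial_iff_ne_bot K).2 hK0
  refine ⟨K, hKN, hKn, ⟨fun R hR => or_iff_not_imp_left.2 fun hR0 => ?_⟩, hna'⟩
  set R' := R.map K.subtype
  have hR'K : R' ≤ K := Subgroup.map_subtype_le R
  have hR'mem : R' ∈ s := by
    refine ⟨fun e => hR0 ((Subgroup.map_eq_bot_iff_of_injective _ K.subtype_injective).1 e),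
      hR'K.trans hKN, hgen _ fun g => ?_⟩
    intro x hx
    by_cases hg : K.map (MulAut.conj g).toMonoidHom = K
    · rw [hg] at hx
      refine Subgroup.mem_normalizer_iff.2 fun y => ⟨?_, ?_⟩
      · rintro ⟨r, hr, rfl⟩
        exact ⟨⟨x, hx⟩ * r * ⟨x, hx⟩⁻¹, hR.conj_mem r hr _, rfl⟩
      · rintro ⟨r, hr, he⟩
        refine ⟨⟨x, hx⟩⁻¹ * r * ⟨x, hx⟩, by simpa using hR.conj_mem r hr (⟨x, hx⟩ : K)⁻¹, ?_⟩
        show x⁻¹ * (r : G) * x = y
        rw [show (r : G) = x * y * x⁻¹ from he]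
        group
    · refine Subgroup.centralizer_le_normalizer _ (Subgroup.mem_centralizer_iff.2 fun y hy => ?_)
      exact (heq g y (hR'K hy) x hx).resolve_left hg
  refine eq_top_iff.2 fun y _ => ?_
  obtain ⟨r, hr, he⟩ := hKmin hR'mem hR'K y.2
  exact K.subtype_injective he ▸ hr

variable [Finite G]

theorem eq_bot_of_odd (hO : Cfsg.oddCore G = ⊥) {N : Subgroup G} (hN : N.Normal) (h : Odd (Nat.card N)) :
    N = ⊥ :=
  le_bot_iff.1 (hO ▸ Cores.le_pPrimeCore hN (Nat.coprime_two_right.2 h))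

theorem exists_involution_of_normal (hO : Cfsg.oddCore G = ⊥) {N : Subgroup G} (hN : N.Normal) (h : N ≠ ⊥) :
    ∃ t ∈ N, orderOf t = 2 := by
  haveI : Fact (Nat.Prime 2) := ⟨Nat.prime_two⟩
  have h2 : 2 ∣ Nat.card N := by
    by_contra hc
    exact h (eq_bot_of_odd hO hN (Nat.not_even_iff_odd.1 fun he => hc (even_iff_two_dvd.1 he)))
  obtain ⟨t, ht⟩ := exists_prime_orderOf_dvd_card' 2 h2
  exact ⟨t, t.2, by rwa [Subgroup.orderOf_coe]⟩

/-- An abelian minimal normal subgroup has exponent two. -/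
theorem sq_of_abelian_minimal (hO : Cfsg.oddCore G = ⊥) {N : Subgroup G} [hN : N.Normal] (h : N ≠ ⊥)
    (hmin : ∀ M : Subgroup G, M.Normal → M ≤ N → M = ⊥ ∨ M = N) (hc : IsMulCommutative N) {x : G}
    (hx : x ∈ N) : x * x = 1 := by
  have hcm : ∀ a ∈ N, ∀ b ∈ N, a * b = b * a := fun a ha b hb =>
    congrArg Subtype.val (hc.is_comm.comm ⟨a, ha⟩ ⟨b, hb⟩)
  let I : Subgroup G :=
    { carrier := {x | x ∈ N ∧ x * x = 1}
      one_mem' := ⟨one_mem N, one_mul 1⟩
      mul_mem' := by
        rintro x y ⟨hx, hx2⟩ ⟨hy, hy2⟩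
        refine ⟨N.mul_mem hx hy, ?_⟩
        calc x * y * (x * y) = x * (y * x) * y := by group
          _ = x * (x * y) * y := by rw [hcm y hy x hx]
          _ = 1 := by rw [← mul_assoc x x y, hx2, one_mul, hy2]
      inv_mem' := by
        rintro x ⟨hx, hx2⟩
        exact ⟨N.inv_mem hx, by rw [inv_eq_of_mul_eq_one_right hx2]; exact hx2⟩ }
  have hI : I.Normal := ⟨fun x hx g => ⟨hN.conj_mem x hx.1 g, by
    rw [show g * x * g⁻¹ * (g * x * g⁻¹) = g * (x * x) * g⁻¹ by group, hx.2, mul_one, mul_inv_cancel]⟩⟩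
  obtain ⟨t, ht, ht2⟩ := exists_involution_of_normal hO hN h
  have htI : t ∈ I := ⟨ht, by rw [← pow_two, ← ht2, pow_orderOf_eq_one]⟩
  rcases hmin I hI (fun y hy => hy.1) with e | e
  · rw [e, Subgroup.mem_bot] at htI
    rw [htI, orderOf_one] at ht2
    omega
  · exact (e.ge hx).2

/-- A normal 2-subgroup lies in every Sylow 2-subgroup. -/
theorem le_sylow_of_normal {N : Subgroup G} [hN : N.Normal] (hp : IsPGroup 2 N) (S : Sylow 2 G) :
    N ≤ (S : Subgroup G) := by
  haveI : Fact (Nat.Prime 2) := ⟨Nat.prime_two⟩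
  exact (Cores.le_pCore hN hp).trans (Cores.pCore_le_sylow S)

/-- A central Sylow 2-subgroup in a group without odd core is the whole group. -/
theorem eq_top_of_central (hO : Cfsg.oddCore G = ⊥) (S : Sylow 2 G)
    (hc : (S : Subgroup G) ≤ Subgroup.center G) : (S : Subgroup G) = ⊤ := by
  haveI : Fact (Nat.Prime 2) := ⟨Nat.prime_two⟩
  have hP : Subgroup.normalizer ((S : Subgroup G) : Set G) ≤ Subgroup.centralizer ((S : Subgroup G) : Set G) :=
    fun g _ => Subgroup.mem_centralizer_iff.2 fun s hs => (Subgroup.mem_center_iff.1 (hc hs) g).symm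
  have hK : (MonoidHom.transferSylow S hP).ker = ⊥ := eq_bot_of_odd hO inferInstance
    (Nat.not_even_iff_odd.1 fun he =>
      MonoidHom.not_dvd_card_ker_transferSylow S hP (even_iff_two_dvd.1 he))
  have h := (MonoidHom.ker_transferSylow_isComplement' S hP).sup_eq_top
  rwa [hK, bot_sup_eq] at h

theorem pPrimeCore_eq_bot_of_simple {K : Subgroup G} (hs : IsSimpleGroup K) (h2 : 2 ∣ Nat.card K) :
    Cfsg.pPrimeCore 2 K = ⊥ := by
  haveI : Fact (Nat.Prime 2) := ⟨Nat.prime_two⟩
  haveI := hs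
  haveI := Cores.pPrimeCore_normal 2 K
  refine (Subgroup.Normal.eq_bot_or_eq_top inferInstance).resolve_right fun e => ?_
  have := Cores.coprime_card_pPrimeCore (G := K) 2
  rw [e, Subgroup.card_top] at this
  exact Nat.prime_two.coprime_iff_not_dvd.1 this.symm h2

/-- No involution of a simple nonabelian subgroup is isolated in it. -/
theorem false_of_isolated {N K : Subgroup G} (hK : Factor N K) {x : K} (hx : IsIsolatedInvolution x) :
    False := by
  have h2 : 2 ∣ Nat.card K := hx.1 ▸ orderOf_dvd_natCard x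
  have hc := ZStar.isolated_mem_center ZStarPrimePower.uniqueInvolutionZStar_proved hx
    (pPrimeCore_eq_bot_of_simple hK.simple h2)
  have h1 := hK.center x.2 fun k hk => congrArg Subtype.val (Subgroup.mem_center_iff.1 hc ⟨k, hk⟩)
  have := hx.1
  rw [show x = 1 from Subtype.ext h1, orderOf_one] at this
  omega

/-- An involution normalising but not centralising a factor has a second conjugate commuting with it. -/
theorem exists_conj_ne {N K : Subgroup G} (hK : Factor N K) (h2 : 2 ∣ Nat.card K) {z : G}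
    (hz : orderOf z = 2) (hzK : z ∈ Subgroup.normalizer (K : Set G)) (hne : ∃ k ∈ K, z * k ≠ k * z) :
    ∃ k ∈ K, z * (k * z * k⁻¹) = k * z * k⁻¹ * z ∧ k * z * k⁻¹ ≠ z := by
  have hz2 : z * z = 1 := by rw [← pow_two, ← hz, pow_orderOf_eq_one]
  have hzi : z⁻¹ = z := inv_eq_of_mul_eq_one_right hz2
  have hzk : ∀ k ∈ K, z * k * z ∈ K := fun k hk => by
    have := (Subgroup.mem_normalizer_iff.1 hzK k).1 hk
    rwa [hzi] at this
  let L : Subgroup G :=
    { carrier := {x | x ∈ K ∨ x * z ∈ K}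
      one_mem' := Or.inl K.one_mem
      mul_mem' := by
        rintro a b (ha | ha) (hb | hb)
        · exact Or.inl (K.mul_mem ha hb)
        · exact Or.inr (by rw [mul_assoc]; exact K.mul_mem ha hb)
        · refine Or.inr ?_
          rw [show a * b * z = a * z * (z⁻¹ * b * z) by group, hzi]
          exact K.mul_mem ha (hzk b hb)
        · refine Or.inl ?_
          rw [show a * b = a * z * (z⁻¹ * (b * z) * z⁻¹) by group, hzi]
          exact K.mul_mem ha (hzk _ hb)
      inv_mem' := by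
        rintro a (ha | ha)
        · exact Or.inl (K.inv_mem ha)
        · refine Or.inr ?_
          rw [show a⁻¹ * z = z * (z⁻¹ * a⁻¹) * z by group, show z⁻¹ * a⁻¹ = (a * z)⁻¹ by group]
          exact hzk _ (K.inv_mem ha) }
  have hKL : K ≤ L := fun x hx => Or.inl hx
  set zL : L := ⟨z, Or.inr (by rw [hz2]; exact K.one_mem)⟩
  have hzLo : orderOf zL = 2 := (Subgroup.orderOf_mk z _).trans hz
  have hOL : Cfsg.pPrimeCore 2 L = ⊥ := by
    refine (Subgroup.eq_bot_iff_forall _).2 fun o ho => ?_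
    have hodd : Odd (orderOf o) := by
      have h := (Cores.coprime_card_pPrimeCore (G := L) 2)
      exact (Nat.coprime_two_right.1 h).of_dvd_nat (Subgroup.orderOf_dvd_natCard _ ho)
    obtain ⟨m, hm⟩ := hodd
    have hsq : ((o * o : L) : G) ∈ K := by
      rcases o.2 with h | h
      · exact K.mul_mem h h
      · show (o : G) * o ∈ K
        rw [show (o : G) * o = (o : G) * z * (z⁻¹ * ((o : G) * z) * z⁻¹) by group, hzi]
        exact K.mul_mem h (hzk _ h)
    have hoK : (o : G) ∈ K := by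
      have e : o = (o * o) ^ (m + 1) := by
        rw [← pow_two, ← pow_mul, show 2 * (m + 1) = orderOf o + 1 by omega, pow_add, pow_orderOf_eq_one,
          one_mul, pow_one]
      rw [e, SubgroupClass.coe_pow]
      exact K.pow_mem hsq _
    haveI := Cores.pPrimeCore_normal 2 L
    haveI hn : ((Cfsg.pPrimeCore 2 L).comap (Subgroup.inclusion hKL)).Normal := Subgroup.Normal.comap inferInstance _
    have hmem : (⟨o, hoK⟩ : K) ∈ (Cfsg.pPrimeCore 2 L).comap (Subgroup.inclusion hKL) := ho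
    haveI := hK.simple
    rcases hn.eq_bot_or_eq_top with e | e
    · rw [e, Subgroup.mem_bot] at hmem
      exact Subtype.ext (congrArg (fun x : K => (x : G)) hmem)
    · exfalso
      haveI : Fact (Nat.Prime 2) := ⟨Nat.prime_two⟩
      have hd : Nat.card K ∣ Nat.card (Cfsg.pPrimeCore 2 L) := by
        have hle : (⊤ : Subgroup K).map (Subgroup.inclusion hKL) ≤ Cfsg.pPrimeCore 2 L :=
          Subgroup.map_le_iff_le_comap.2 e.ge
        have := Subgroup.card_dvd_of_le hle
        rwa [Subgroup.card_map_of_injective (Subgroup.inclusion_injective hKL), Subgroup.card_top] at this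
      exact Cores.not_dvd_card_pPrimeCore (h2.trans hd)
  by_contra hcon
  push Not at hcon
  have hiso : IsIsolatedInvolution zL := by
    refine ⟨hzLo, fun l hc => Subtype.ext ?_⟩
    have hc' : z * ((l : G) * z * (l : G)⁻¹) = (l : G) * z * (l : G)⁻¹ * z := congrArg Subtype.val hc.eq
    show (l : G) * z * (l : G)⁻¹ = z
    rcases l.2 with h | h
    · exact hcon _ h hc'
    · have e : (l : G) * z * (l : G)⁻¹ = (l : G) * z * z * ((l : G) * z)⁻¹ := by group
      rw [e] at hc' ⊢
      exact hcon _ h hc'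
  have hcen := ZStar.isolated_mem_center ZStarPrimePower.uniqueInvolutionZStar_proved hiso hOL
  obtain ⟨k, hk, hne⟩ := hne
  exact hne (congrArg Subtype.val (Subgroup.mem_center_iff.1 hcen ⟨k, hKL hk⟩)).symm

/-- A simple group with a strongly embedded subgroup has one class of involutions. -/
theorem one_class {H : Subgroup G} (hH : Cfsg.IsStronglyEmbedded H) {a b : G} (ha : orderOf a = 2)
    (hb : orderOf b = 2) : IsConj a b := by
  haveI : Fact (Nat.Prime 2) := ⟨Nat.prime_two⟩
  obtain ⟨hne, hev, hodd⟩ := hH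
  obtain ⟨s, hs⟩ := exists_prime_orderOf_dvd_card' 2 (even_iff_two_dvd.1 hev)
  obtain ⟨u, hu, huH⟩ : ∃ u : G, orderOf u = 2 ∧ u ∉ H := by
    by_contra hcon
    push Not at hcon
    obtain ⟨g, hg⟩ : ∃ g, g ∉ H := by
      by_contra h
      push Not at h
      exact hne (eq_top_iff.2 fun x _ => h x)
    have hmem : (s : G) ∈ H ⊓ H.map (MulAut.conj g).toMonoidHom := by
      refine ⟨s.2, g⁻¹ * s * g, hcon _ ?_, ?_⟩
      · have := Involution.orderOf_conj g⁻¹ (s : G)
        rw [inv_inv] at this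
        rw [this, Subgroup.orderOf_coe, hs]
      · show g * (g⁻¹ * s * g) * g⁻¹ = s
        group
    have hd := Subgroup.orderOf_dvd_natCard _ hmem
    rw [Subgroup.orderOf_coe, hs] at hd
    exact (Nat.not_even_iff_odd.2 (hodd g hg)) (even_iff_two_dvd.2 hd)
  exact (Cfsg.Agent.S1225.result H ⟨hne, hev, hodd⟩ u hu huH s s (by rwa [Subgroup.orderOf_coe]) s.2
    (by rwa [Subgroup.orderOf_coe]) s.2).2 a b ha hb

end Cfsg.Agent.L34Sylow
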