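import Cfsg.Agent.EqLemmas
import Cfsg.Agent.Lib.SU32.Basic

/-!
# The Sylow 2-subgroup of `PSL₃(4)` as a Heisenberg group over the field with four elements (S3198)

* `H3` : the group, `swap`, `shear μ` : two automorphisms
* `H3.sq_iff`, `H3.comm_iff`, `H3.mem_center_iff` : its shape
* `tau β` : the action of `⟨0, β, 0⟩` on the coordinates of `{b = 0}`
-/

set_option autoImplicit false

namespace Cfsg.Agent.L34Sylow

open Cfsg.Agent.SU32 (K4)

/-- The elements `1 + a e₁₂ + b e₂₃ + c e₁₃`. -/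
@[ext]
structure H3 where
  a : K4
  b : K4
  c : K4
  deriving DecidableEq

namespace H3

/-- As triples. -/
def equivProd : H3 ≃ K4 × K4 × K4 where
  toFun x := (x.a, x.b, x.c)
  invFun t := ⟨t.1, t.2.1, t.2.2⟩
  left_inv _ := rfl
  right_inv _ := rfl

instance instFintypeH3 : Fintype H3 := Fintype.ofEquiv _ equivProd.symm

instance instMulH3 : Mul H3 := ⟨fun x y => ⟨x.a + y.a, x.b + y.b, x.c + y.c + x.a * y.b⟩⟩
instance instOneH3 : One H3 := ⟨⟨0, 0, 0⟩⟩
instance instInvH3 : Inv H3 := ⟨fun x => ⟨x.a, x.b, x.c + x.a * x.b⟩⟩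

theorem mul_def (x y : H3) : x * y = ⟨x.a + y.a, x.b + y.b, x.c + y.c + x.a * y.b⟩ := rfl
@[simp] theorem mul_a (x y : H3) : (x * y).a = x.a + y.a := rfl
@[simp] theorem mul_b (x y : H3) : (x * y).b = x.b + y.b := rfl
@[simp] theorem mul_c (x y : H3) : (x * y).c = x.c + y.c + x.a * y.b := rfl
@[simp] theorem one_a : (1 : H3).a = 0 := rfl
@[simp] theorem one_b : (1 : H3).b = 0 := rfl
@[simp] theorem one_c : (1 : H3).c = 0 := rfl
@[simp] theorem inv_a (x : H3) : x⁻¹.a = x.a := rfl
@[simp] theorem inv_b (x : H3) : x⁻¹.b = x.b := rfl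
@[simp] theorem inv_c (x : H3) : x⁻¹.c = x.c + x.a * x.b := rfl

/-- Addition is of exponent two. -/
theorem add_self : ∀ k : K4, k + k = 0 := by decide

theorem frob : ∀ k l : K4, (k + l) * (k + l) = k * k + l * l := by decide

instance instGroupH3 : Group H3 where
  mul_assoc x y z := by ext <;> simp <;> ring
  one_mul x := by ext <;> simp
  mul_one x := by ext <;> simp
  inv_mul_cancel x := by
    ext <;> simp only [mul_a, mul_b, mul_c, inv_a, inv_b, inv_c, one_a, one_b, one_c]
    · exact add_self _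
    · exact add_self _
    · rw [show x.c + x.a * x.b + x.c + x.a * x.b = (x.c + x.c) + (x.a * x.b + x.a * x.b) by ring,
        add_self, add_self, add_zero]

theorem card_eq : Nat.card H3 = 64 := by
  rw [Nat.card_congr equivProd, Nat.card_prod, Nat.card_prod, Nat.card_eq_fintype_card, K4.card_eq]

theorem ext_iff' {x y : H3} : x = y ↔ x.a = y.a ∧ x.b = y.b ∧ x.c = y.c := H3.ext_iff

theorem sq_iff (x : H3) : x * x = 1 ↔ x.a = 0 ∨ x.b = 0 := by
  simp [ext_iff', add_self]

theorem comm_iff (x y : H3) : x * y = y * x ↔ x.a * y.b = y.a * x.b := by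
  simp only [ext_iff', mul_a, mul_b, mul_c, add_comm x.a, add_comm x.b, true_and]
  constructor
  · intro h
    rw [add_comm y.c x.c] at h
    exact add_left_cancel h
  · intro h
    rw [h, add_comm x.c]

theorem mem_center_iff (x : H3) : x ∈ Subgroup.center H3 ↔ x.a = 0 ∧ x.b = 0 := by
  rw [Subgroup.mem_center_iff]
  constructor
  · intro h
    have h1 := (comm_iff _ _).1 (h ⟨1, 0, 0⟩)
    have h2 := (comm_iff _ _).1 (h ⟨0, 1, 0⟩)
    exact ⟨by simpa using h2.symm, by simpa using h1⟩
  · intro h y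
    exact (comm_iff _ _).2 (by simp [h.1, h.2])

/-- The element `⟨a, 0, c⟩`. -/
def inA (v : K4 × K4) : H3 := ⟨v.2, 0, v.1⟩

theorem inA_add (v w : K4 × K4) : inA (v + w) = inA v * inA w := by
  ext <;> simp [inA]

theorem inA_zero : inA 0 = 1 := rfl

theorem inA_injective : Function.Injective inA := fun v w h =>
  Prod.ext (congrArg H3.c h) (congrArg H3.a h)

/-- Exchanging the two abelian subgroups. -/
def swap : H3 ≃* H3 where
  toFun x := ⟨x.b, x.a, x.c + x.a * x.b⟩
  invFun x := ⟨x.b, x.a, x.c + x.a * x.b⟩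
  left_inv x := by
    ext <;> simp only
    rw [show x.c + x.a * x.b + x.b * x.a = x.c + (x.a * x.b + x.a * x.b) by ring, add_self, add_zero]
  right_inv x := by
    ext <;> simp only
    rw [show x.c + x.a * x.b + x.b * x.a = x.c + (x.a * x.b + x.a * x.b) by ring, add_self, add_zero]
  map_mul' x y := by
    ext <;> simp only [mul_a, mul_b, mul_c]
    rw [show x.c + y.c + x.a * y.b + (x.a + y.a) * (x.b + y.b) =
      x.c + x.a * x.b + (y.c + y.a * y.b) + x.b * y.a + (x.a * y.b + x.a * y.b) by ring, add_self, add_zero]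

/-- Changing the complement of the centre in `{b = 0}`. -/
def shear (μ : K4) : H3 ≃* H3 where
  toFun x := ⟨x.a, x.b, x.c + μ * (x.a * x.a)⟩
  invFun x := ⟨x.a, x.b, x.c + μ * (x.a * x.a)⟩
  left_inv x := by
    ext <;> simp only
    rw [add_assoc, add_self, add_zero]
  right_inv x := by
    ext <;> simp only
    rw [add_assoc, add_self, add_zero]
  map_mul' x y := by
    ext <;> simp only [mul_a, mul_b, mul_c]
    rw [frob]
    ring

@[simp] theorem swap_a (x : H3) : (swap x).a = x.b := rfl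
@[simp] theorem swap_b (x : H3) : (swap x).b = x.a := rfl
@[simp] theorem shear_a (μ : K4) (x : H3) : (shear μ x).a = x.a := rfl
@[simp] theorem shear_b (μ : K4) (x : H3) : (shear μ x).b = x.b := rfl

theorem shear_inA (μ : K4) (v : K4 × K4) :
    shear μ (inA v) = inA (v.1 + μ * (v.2 * v.2), v.2) := rfl

end H3

/-- The action of `⟨0, β, 0⟩` on `{b = 0}`. -/
def tau (β : K4) (v : K4 × K4) : K4 × K4 := (v.1 + v.2 * β, v.2)

theorem inA_tau (β : K4) (v : K4 × K4) :
    (⟨0, β, 0⟩ : H3) * H3.inA v * (⟨0, β, 0⟩ : H3)⁻¹ = H3.inA (tau β v) := by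
  ext <;> simp [H3.inA, tau, H3.add_self]

theorem tau_add (β : K4) (v w : K4 × K4) : tau β (v + w) = tau β v + tau β w := by
  ext <;> simp [tau] <;> ring

theorem tau_tau (β γ : K4) (v : K4 × K4) : tau β (tau γ v) = tau (β + γ) v := by
  ext <;> simp [tau] <;> ring

end Cfsg.Agent.L34Sylow
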