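import Cfsg.Agent.EqLemmas
import Cfsg.Agent.S0076
import Cfsg.Agent.Lib.L34Sylow.Model

/-!
# Groups with Sylow 2-subgroups of type `PSL₃(4)`: the two elementary abelian subgroups (S3198)

* `Frm G` : coordinates on a Sylow 2-subgroup; `Frm.A`, `Frm.B`, `Frm.Z`, `Frm.comp`, `Frm.swap`
* `Frm.eq_or` : `A` and `B` are the only elementary subgroups of order 16 of `S`
* `Frm.not_conj`, `Frm.weakly_closed`, `Frm.control` : `N(A)` controls fusion in `A`
* `Frm.Small` : no element of `Z` is fused into `A \ Z`; `Frm.mem_Z_of_small`, `Frm.mem_A_of_small`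
-/

set_option autoImplicit false

open Cfsg
open scoped Pointwise

namespace Cfsg.Agent.L34Sylow

open Cfsg.Agent.SU32 (K4)

theorem mem_map_conj {G : Type*} [Group G] {H : Subgroup G} {g x : G} :
    x ∈ H.map (MulAut.conj g).toMonoidHom ↔ g⁻¹ * x * g ∈ H := by
  rw [Subgroup.mem_map_equiv, MulAut.conj_symm_apply]

theorem map_conj_map {G : Type*} [Group G] (H : Subgroup G) (g h : G) :
    (H.map (MulAut.conj h).toMonoidHom).map (MulAut.conj g).toMonoidHom = H.map (MulAut.conj (g * h)).toMonoidHom := by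
  ext x
  simp only [mem_map_conj, mul_inv_rev, mul_assoc]

theorem map_conj_one {G : Type*} [Group G] (H : Subgroup G) : H.map (MulAut.conj (1 : G)).toMonoidHom = H := by
  ext x
  simp [mem_map_conj]

theorem smul_sylow_eq {G : Type*} [Group G] {p : ℕ} (g : G) (P : Sylow p G) :
    ((g • P : Sylow p G) : Subgroup G) = (P : Subgroup G).map (MulAut.conj g).toMonoidHom := rfl

namespace H3

/-- `{b = 0}`. -/
def subA : Subgroup H3 where
  carrier := {x | x.b = 0}
  one_mem' := rfl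
  mul_mem' := fun {x y} (hx : x.b = 0) (hy : y.b = 0) => by simp [hx, hy]
  inv_mem' := fun {x} (hx : x.b = 0) => by simpa using hx

/-- `{a = 0}`. -/
def subB : Subgroup H3 where
  carrier := {x | x.a = 0}
  one_mem' := rfl
  mul_mem' := fun {x y} (hx : x.a = 0) (hy : y.a = 0) => by simp [hx, hy]
  inv_mem' := fun {x} (hx : x.a = 0) => by simpa using hx

theorem mem_subA {x : H3} : x ∈ subA ↔ x.b = 0 := Iff.rfl
theorem mem_subB {x : H3} : x ∈ subB ↔ x.a = 0 := Iff.rfl

theorem card_subA : Nat.card subA = 16 := by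
  have e : subA ≃ K4 × K4 :=
    { toFun := fun x => (x.1.c, x.1.a)
      invFun := fun v => ⟨inA v, rfl⟩
      left_inv := fun x => Subtype.ext (H3.ext rfl x.2.symm rfl)
      right_inv := fun v => rfl }
  rw [Nat.card_congr e, Nat.card_prod, Nat.card_eq_fintype_card, K4.card_eq]

theorem card_subAB : Nat.card ↥(subA ⊓ subB) = 4 := by
  have e : ↥(subA ⊓ subB) ≃ K4 :=
    { toFun := fun x => x.1.c
      invFun := fun c => ⟨⟨0, 0, c⟩, rfl, rfl⟩
      left_inv := fun x => Subtype.ext (H3.ext x.2.2.symm x.2.1.symm rfl)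
      right_inv := fun v => rfl }
  rw [Nat.card_congr e, Nat.card_eq_fintype_card, K4.card_eq]

end H3

/-- Coordinates on a Sylow 2-subgroup. -/
structure Frm (G : Type*) [Group G] where
  /-- The Sylow 2-subgroup. -/
  S : Sylow 2 G
  /-- The coordinates. -/
  ι : H3 →* G
  inj : Function.Injective ι
  range_eq : ι.range = (S : Subgroup G)

namespace Frm

variable {G : Type*} [Group G] (F : Frm G)

/-- New coordinates. -/
def comp (σ : H3 ≃* H3) : Frm G where
  S := F.S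
  ι := F.ι.comp σ.toMonoidHom
  inj := F.inj.comp σ.injective
  range_eq := by
    rw [MonoidHom.range_comp, MonoidHom.range_eq_top.2 σ.surjective, ← MonoidHom.range_eq_map, F.range_eq]

@[simp] theorem comp_ι (σ : H3 ≃* H3) (x : H3) : (F.comp σ).ι x = F.ι (σ x) := rfl
@[simp] theorem comp_S (σ : H3 ≃* H3) : (F.comp σ).S = F.S := rfl

/-- The coordinates with `a` and `b` exchanged. -/
def swap : Frm G := F.comp H3.swap

/-- The first elementary abelian subgroup. -/
def A : Subgroup G := H3.subA.map F.ι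
/-- The second elementary abelian subgroup. -/
def B : Subgroup G := H3.subB.map F.ι
/-- The centre of `S`. -/
def Z : Subgroup G := (H3.subA ⊓ H3.subB).map F.ι

theorem mem_S {x : G} : x ∈ (F.S : Subgroup G) ↔ ∃ h, F.ι h = x := by
  rw [← F.range_eq]; rfl

theorem ι_mem (h : H3) : F.ι h ∈ (F.S : Subgroup G) := F.mem_S.2 ⟨h, rfl⟩

theorem ι_mem_A {h : H3} : F.ι h ∈ F.A ↔ h.b = 0 := Subgroup.mem_map_iff_mem F.inj
theorem ι_mem_B {h : H3} : F.ι h ∈ F.B ↔ h.a = 0 := Subgroup.mem_map_iff_mem F.inj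
theorem ι_mem_Z {h : H3} : F.ι h ∈ F.Z ↔ h.b = 0 ∧ h.a = 0 := Subgroup.mem_map_iff_mem F.inj

theorem A_le : F.A ≤ (F.S : Subgroup G) := by rintro _ ⟨h, -, rfl⟩; exact F.ι_mem h
theorem B_le : F.B ≤ (F.S : Subgroup G) := by rintro _ ⟨h, -, rfl⟩; exact F.ι_mem h
theorem Z_le_A : F.Z ≤ F.A := Subgroup.map_mono inf_le_left
theorem Z_le_B : F.Z ≤ F.B := Subgroup.map_mono inf_le_right
theorem Z_eq : F.Z = F.A ⊓ F.B := Subgroup.map_inf _ _ _ F.inj

theorem card_S : Nat.card (F.S : Subgroup G) = 64 := by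
  rw [← F.range_eq, ← Nat.card_congr (MonoidHom.ofInjective F.inj).toEquiv, H3.card_eq]

theorem card_A : Nat.card F.A = 16 := (Subgroup.card_map_of_injective F.inj).trans H3.card_subA
theorem card_Z : Nat.card F.Z = 4 := (Subgroup.card_map_of_injective F.inj).trans H3.card_subAB

theorem swap_A : F.swap.A = F.B := by
  ext x
  constructor
  · rintro ⟨h, hh, rfl⟩; exact F.ι_mem_B.2 (by simpa using H3.mem_subA.1 hh)
  · rintro ⟨h, hh, rfl⟩
    refine ⟨H3.swap.symm h, ?_, by simp [swap]⟩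
    have := (H3.swap_a (H3.swap.symm h))
    rw [MulEquiv.apply_symm_apply, (H3.mem_subB.1 hh)] at this
    exact this.symm

theorem swap_Z : F.swap.Z = F.Z := by
  ext x
  constructor
  · rintro ⟨h, ⟨h1, h2⟩, rfl⟩
    exact F.ι_mem_Z.2 ⟨by simpa using H3.mem_subB.1 h2, by simpa using H3.mem_subA.1 h1⟩
  · rintro ⟨h, ⟨h1, h2⟩, rfl⟩
    refine ⟨H3.swap.symm h, ⟨?_, ?_⟩, by simp [swap]⟩
    · have := (H3.swap_a (H3.swap.symm h))
      rw [MulEquiv.apply_symm_apply, (H3.mem_subB.1 h2)] at this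
      exact this.symm
    · have := (H3.swap_b (H3.swap.symm h))
      rw [MulEquiv.apply_symm_apply, (H3.mem_subA.1 h1)] at this
      exact this.symm

theorem swap_B : F.swap.B = F.A := by
  ext x
  constructor
  · rintro ⟨h, hh, rfl⟩; exact F.ι_mem_A.2 (by simpa using H3.mem_subB.1 hh)
  · rintro ⟨h, hh, rfl⟩
    refine ⟨H3.swap.symm h, ?_, by simp [swap]⟩
    have := (H3.swap_b (H3.swap.symm h))
    rw [MulEquiv.apply_symm_apply, (H3.mem_subA.1 hh)] at this
    exact this.symm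

theorem sq_A {x : G} (hx : x ∈ F.A) : x * x = 1 := by
  obtain ⟨h, hh, rfl⟩ := hx
  rw [← map_mul, (H3.sq_iff h).2 (Or.inr hh), map_one]

theorem comm_A {x y : G} (hx : x ∈ F.A) (hy : y ∈ F.A) : x * y = y * x := by
  obtain ⟨h, hh, rfl⟩ := hx
  obtain ⟨k, hk, rfl⟩ := hy
  rw [← map_mul, ← map_mul, (H3.comm_iff h k).2 (by rw [H3.mem_subA.1 hh, H3.mem_subA.1 hk]; ring)]

theorem comm_Z {x y : G} (hx : x ∈ F.Z) (hy : y ∈ (F.S : Subgroup G)) : x * y = y * x := by
  obtain ⟨h, ⟨h1, h2⟩, rfl⟩ := hx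
  obtain ⟨k, rfl⟩ := F.mem_S.1 hy
  rw [← map_mul, ← map_mul, (H3.comm_iff h k).2 (by rw [H3.mem_subA.1 h1, H3.mem_subB.1 h2]; ring)]

theorem isMulCommutative_A : IsMulCommutative F.A :=
  ⟨⟨fun a b => Subtype.ext (F.comm_A a.2 b.2)⟩⟩

theorem isElementaryAbelian_A : Cfsg.IsElementaryAbelian 2 F.A :=
  ⟨F.isMulCommutative_A, fun x hx => by rw [pow_two]; exact F.sq_A hx⟩

/-- The involutions of `S` lie in `A` or in `B`. -/
theorem mem_or {x : G} (hx : x ∈ (F.S : Subgroup G)) (h2 : x * x = 1) : x ∈ F.A ∨ x ∈ F.B := by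
  obtain ⟨h, rfl⟩ := F.mem_S.1 hx
  rw [← map_mul, ← map_one F.ι] at h2
  rcases (H3.sq_iff h).1 (F.inj h2) with e | e
  · exact Or.inr (F.ι_mem_B.2 e)
  · exact Or.inl (F.ι_mem_A.2 e)

/-- An elementary subgroup of `S` lies in `A` or in `B`. -/
theorem le_or {H : Subgroup G} (hH : H ≤ (F.S : Subgroup G)) (h2 : ∀ x ∈ H, x * x = 1) :
    H ≤ F.A ∨ H ≤ F.B := by
  by_contra hcon
  rw [not_or, SetLike.not_le_iff_exists, SetLike.not_le_iff_exists] at hcon
  obtain ⟨⟨a, ha, haA⟩, b, hb, hbB⟩ := hcon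
  have haB := (F.mem_or (hH ha) (h2 a ha)).resolve_left haA
  have hbA := (F.mem_or (hH hb) (h2 b hb)).resolve_right hbB
  rcases F.mem_or (hH (H.mul_mem ha hb)) (h2 _ (H.mul_mem ha hb)) with h | h
  · exact haA ((Subgroup.mul_mem_cancel_right _ hbA).1 h)
  · exact hbB ((Subgroup.mul_mem_cancel_left _ haB).1 h)

theorem card_B : Nat.card F.B = 16 := by rw [← F.swap_A]; exact F.swap.card_A

theorem eq_or [Finite G] {H : Subgroup G} (hH : H ≤ (F.S : Subgroup G)) (h2 : ∀ x ∈ H, x * x = 1)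
    (hc : Nat.card H = 16) : H = F.A ∨ H = F.B := by
  rcases F.le_or hH h2 with h | h
  · exact Or.inl (Subgroup.eq_of_le_of_card_ge h (by rw [F.card_A, hc]))
  · exact Or.inr (Subgroup.eq_of_le_of_card_ge h (by rw [F.card_B, hc]))

theorem mem_A_of_comm {x s : G} (hx : x ∈ F.A) (hxZ : x ∉ F.Z) (hs : s ∈ (F.S : Subgroup G))
    (h : s * x = x * s) : s ∈ F.A := by
  obtain ⟨a, ha, rfl⟩ := hx
  obtain ⟨k, rfl⟩ := F.mem_S.1 hs
  rw [← map_mul, ← map_mul] at h
  have e := (H3.comm_iff k a).1 (F.inj h)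
  rw [H3.mem_subA.1 ha, mul_zero] at e
  refine F.ι_mem_A.2 ((mul_eq_zero.1 e.symm).resolve_left fun e' => hxZ ?_)
  exact F.ι_mem_Z.2 ⟨ha, e'⟩

theorem conj_mem_A {s x : G} (hs : s ∈ (F.S : Subgroup G)) (hx : x ∈ F.A) : s * x * s⁻¹ ∈ F.A := by
  obtain ⟨a, ha, rfl⟩ := hx
  obtain ⟨k, rfl⟩ := F.mem_S.1 hs
  rw [← map_mul, ← map_inv, ← map_mul]
  refine F.ι_mem_A.2 ?_
  simp [H3.mem_subA.1 ha, H3.add_self]

theorem map_conj_A {s : G} (hs : s ∈ (F.S : Subgroup G)) : F.A.map (MulAut.conj s).toMonoidHom = F.A := by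
  ext x
  rw [mem_map_conj]
  constructor
  · intro h
    have := F.conj_mem_A hs h
    rwa [show s * (s⁻¹ * x * s) * s⁻¹ = x by group] at this
  · intro h
    have := F.conj_mem_A ((F.S : Subgroup G).inv_mem hs) h
    rwa [inv_inv] at this

theorem S_le_normalizer : (F.S : Subgroup G) ≤ Subgroup.normalizer (F.A : Set G) := fun _ hs =>
  Subgroup.mem_normalizer_iff_map_conj_eq.2 (F.map_conj_A hs)

variable [Finite G]

theorem mem_S_of_normalizer {n : G} (hn : n ∈ Subgroup.normalizer ((F.S : Subgroup G) : Set G))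
    (h2 : ∃ k : ℕ, orderOf n = 2 ^ k) : n ∈ (F.S : Subgroup G) := by
  obtain ⟨k, hk⟩ := h2
  have h := (IsPGroup.of_card (n := k) (by rw [Nat.card_zpowers, hk]) :
    IsPGroup 2 (Subgroup.zpowers n)).inf_normalizer_sylow F.S
  exact (h.le ⟨Subgroup.mem_zpowers n, hn⟩).2

/-- `A` and `B` are not conjugate. -/
theorem not_conj (g : G) : F.A.map (MulAut.conj g).toMonoidHom ≠ F.B := by
  intro hg
  have hS : ∀ H : Subgroup G, H ≤ (F.S : Subgroup G) → (∀ s ∈ (F.S : Subgroup G), H.map (MulAut.conj s).toMonoidHom = H) →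
      ∀ x ∈ (F.S : Subgroup G), (fun y => x * y * x⁻¹) '' (H : Set G) = H := by
    intro H _ hH x hx
    exact congrArg (fun K : Subgroup G => (K : Set G)) (hH x hx)
  have hB : ∀ s ∈ (F.S : Subgroup G), F.B.map (MulAut.conj s).toMonoidHom = F.B := by
    intro s hs
    rw [← F.swap_A]; exact F.swap.map_conj_A hs
  obtain ⟨n, hn, hnA⟩ := Cfsg.Agent.S0076.result F.S (F.A : Set G) (F.B : Set G) F.A_le F.B_le
    (hS _ F.A_le fun s hs => F.map_conj_A hs) (hS _ F.B_le hB) g
    (congrArg (fun K : Subgroup G => (K : Set G)) hg)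
  have hnA' : F.A.map (MulAut.conj n).toMonoidHom = F.B := SetLike.coe_injective hnA
  have hne : F.A ≠ F.B := by
    intro e
    have h := F.Z_eq
    rw [e, inf_idem] at h
    have h4 := F.card_Z
    rw [h, ← e, F.card_A] at h4
    omega
  have hnB : F.B.map (MulAut.conj n).toMonoidHom = F.A := by
    refine (F.eq_or ?_ ?_ ?_).resolve_right fun e => hne ?_
    · intro x hx
      rw [mem_map_conj] at hx
      have := (Subgroup.mem_normalizer_iff.1 hn _).1 (F.B_le hx)
      rwa [show n * (n⁻¹ * x * n) * n⁻¹ = x by group] at this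
    · rintro _ ⟨y, hy, rfl⟩
      rw [← map_mul, show y * y = 1 from F.swap.sq_A (F.swap_A.symm ▸ hy), map_one]
    · rw [Subgroup.card_map_of_injective (MulAut.conj n).injective, F.card_B]
    · exact Subgroup.map_injective (MulAut.conj n).injective (hnA'.trans e.symm)
  have key : ∀ i : ℕ, F.A.map (MulAut.conj (n ^ i)).toMonoidHom = (if Even i then F.A else F.B) := by
    intro i
    induction i with
    | zero => rw [pow_zero, map_conj_one, if_pos Even.zero]
    | succ i ih =>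
      rw [pow_succ', ← map_conj_map, ih]
      by_cases hi : Even i
      · rw [if_pos hi, if_neg (fun h => Nat.even_add_one.1 h hi), hnA']
      · rw [if_neg hi, if_pos (Nat.even_add_one.2 hi), hnB]
  obtain ⟨k, m, hm, ho⟩ := Nat.exists_eq_two_pow_mul_odd (orderOf_pos n).ne'
  have hmS : n ^ m ∈ (F.S : Subgroup G) := F.mem_S_of_normalizer (pow_mem hn m)
    ⟨k, by rw [orderOf_pow' n hm.pos.ne', ho, Nat.gcd_mul_left_left, Nat.mul_div_cancel _ hm.pos]⟩
  have := key m
  rw [F.map_conj_A hmS, if_neg (Nat.not_even_iff_odd.2 hm)] at this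
  exact hne this

/-- Two conjugates of `A` in a common 2-subgroup are equal. -/
theorem eq_of_two_group {P : Subgroup G} (hP : IsPGroup 2 P) {g h : G}
    (hg : F.A.map (MulAut.conj g).toMonoidHom ≤ P) (hh : F.A.map (MulAut.conj h).toMonoidHom ≤ P) :
    F.A.map (MulAut.conj g).toMonoidHom = F.A.map (MulAut.conj h).toMonoidHom := by
  haveI : Fact (Nat.Prime 2) := ⟨Nat.prime_two⟩
  obtain ⟨Q, hQ⟩ := hP.exists_le_sylow
  obtain ⟨k, rfl⟩ := MulAction.exists_smul_eq G F.S Q
  have key : ∀ u : G, F.A.map (MulAut.conj u).toMonoidHom ≤ P →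
      F.A.map (MulAut.conj u).toMonoidHom = F.A.map (MulAut.conj k).toMonoidHom := by
    intro u hu
    have h1 : F.A.map (MulAut.conj (k⁻¹ * u)).toMonoidHom ≤ (F.S : Subgroup G) := by
      rw [← map_conj_map]
      intro x hx
      rw [mem_map_conj, inv_inv] at hx
      have := hQ (hu hx)
      rw [smul_sylow_eq, mem_map_conj] at this
      rwa [show k⁻¹ * (k * x * k⁻¹) * k = x by group] at this
    have h2 : F.A.map (MulAut.conj (k⁻¹ * u)).toMonoidHom = F.A := by
      refine (F.eq_or h1 ?_ ?_).resolve_right (F.not_conj _)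
      · rintro _ ⟨y, hy, rfl⟩
        rw [← map_mul, F.sq_A hy, map_one]
      · rw [Subgroup.card_map_of_injective (MulAut.conj _).injective, F.card_A]
    conv_rhs => rw [← h2, map_conj_map, mul_inv_cancel_left]
  rw [key g hg, key h hh]

/-- `A` is weakly closed. -/
theorem weakly_closed {P : Subgroup G} (hP : IsPGroup 2 P) (hA : F.A ≤ P) {g : G}
    (hg : F.A.map (MulAut.conj g).toMonoidHom ≤ P) : g ∈ Subgroup.normalizer (F.A : Set G) := by
  rw [Subgroup.mem_normalizer_iff_map_conj_eq]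
  exact (F.eq_of_two_group hP hg (h := 1) (by rwa [map_conj_one])).trans (map_conj_one _)

/-- `N(A)` controls fusion in `A`. -/
theorem control {x : G} (hx : x ∈ F.A) {g : G} (hg : g * x * g⁻¹ ∈ F.A) :
    ∃ n ∈ Subgroup.normalizer (F.A : Set G), n * x * n⁻¹ = g * x * g⁻¹ := by
  haveI : Fact (Nat.Prime 2) := ⟨Nat.prime_two⟩
  set y := g * x * g⁻¹ with hy
  set C := Subgroup.centralizer ({y} : Set G)
  have hAC : F.A ≤ C := fun a ha => Subgroup.mem_centralizer_singleton_iff.2 (F.comm_A ha hg)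
  have hgC : F.A.map (MulAut.conj g).toMonoidHom ≤ C := by
    rintro _ ⟨a, ha, rfl⟩
    refine Subgroup.mem_centralizer_singleton_iff.2 ?_
    show g * a * g⁻¹ * y = y * (g * a * g⁻¹)
    calc g * a * g⁻¹ * y = g * (a * x) * g⁻¹ := by rw [hy]; group
      _ = g * (x * a) * g⁻¹ := by rw [F.comm_A ha hx]
      _ = _ := by rw [hy]; group
  have hA2 : IsPGroup 2 F.A := IsPGroup.of_card (n := 4) (by rw [F.card_A]; norm_num)
  obtain ⟨P, hP⟩ := (hA2.comap_subtype (K := C)).exists_le_sylow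
  obtain ⟨Q, hQ⟩ := ((hA2.map (MulAut.conj g).toMonoidHom).comap_subtype (K := C)).exists_le_sylow
  obtain ⟨c, hc⟩ := MulAction.exists_smul_eq C Q P
  refine ⟨c * g, F.weakly_closed (P.isPGroup'.map C.subtype) (fun a ha => ⟨⟨a, hAC ha⟩, hP ha, rfl⟩) ?_, ?_⟩
  · intro u hu
    have hu' : (c : G)⁻¹ * u * c ∈ F.A.map (MulAut.conj g).toMonoidHom := by
      rw [mem_map_conj] at hu ⊢
      rwa [show g⁻¹ * ((c : G)⁻¹ * u * c) * g = ((c : G) * g)⁻¹ * u * (c * g) by group]
    refine ⟨c * ⟨_, hgC hu'⟩ * c⁻¹, ?_, ?_⟩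
    · rw [← hc]
      show c * ⟨_, hgC hu'⟩ * c⁻¹ ∈ ((c • Q : Sylow 2 C) : Subgroup C)
      rw [smul_sylow_eq, mem_map_conj, show c⁻¹ * (c * ⟨_, hgC hu'⟩ * c⁻¹) * c = ⟨_, hgC hu'⟩ by group]
      exact hQ (Subgroup.mem_comap.2 hu')
    · show (c : G) * ((c : G)⁻¹ * u * c) * (c : G)⁻¹ = u
      group
  · have hcy : (c : G) * y = y * c := Subgroup.mem_centralizer_singleton_iff.1 c.2
    calc (c : G) * g * x * ((c : G) * g)⁻¹ = (c : G) * y * (c : G)⁻¹ := by rw [hy]; group
      _ = y := by rw [hcy]; group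

/-- No element of `Z` is fused into `A \ Z`. -/
def Small : Prop := ∀ g : G, ∀ z ∈ F.Z, g * z * g⁻¹ ∈ F.A → g * z * g⁻¹ ∈ F.Z

/-- If both are small, `Z` is strongly closed. -/
theorem mem_Z_of_small (hA : F.Small) (hB : F.swap.Small) {g z : G} (hz : z ∈ F.Z)
    (hg : g * z * g⁻¹ ∈ (F.S : Subgroup G)) : g * z * g⁻¹ ∈ F.Z := by
  rcases F.mem_or hg (by rw [conj_mul, F.sq_A (F.Z_le_A hz), mul_one, mul_inv_cancel]) with h | h
  · exact hA g z hz h
  · rw [← F.swap_Z] at hz ⊢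
    exact hB g z hz (F.swap_A.symm ▸ h)

/-- If `B` is small, `A` is strongly closed. -/
theorem mem_A_of_small (hB : F.swap.Small) {g x : G} (hx : x ∈ F.A)
    (hg : g * x * g⁻¹ ∈ (F.S : Subgroup G)) : g * x * g⁻¹ ∈ F.A := by
  haveI : Fact (Nat.Prime 2) := ⟨Nat.prime_two⟩
  refine (F.mem_or hg (by rw [conj_mul, F.sq_A hx, mul_one, mul_inv_cancel])).elim id fun hyB => ?_
  set y := g * x * g⁻¹ with hy
  by_contra hyA
  have hyZ : y ∉ F.Z := fun h => hyA (F.Z_le_A h)
  -- neither element is conjugate into `Z`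
  have hnot : ∀ u : G, u * y * u⁻¹ ∉ F.Z := fun u hu => hyZ (by
    have := hB u⁻¹ (u * y * u⁻¹) (F.swap_Z.symm ▸ hu) (by
      rw [show u⁻¹ * (u * y * u⁻¹) * u⁻¹⁻¹ = y by group, F.swap_A]; exact hyB)
    rwa [show u⁻¹ * (u * y * u⁻¹) * u⁻¹⁻¹ = y by group, F.swap_Z] at this)
  -- the 2-subgroups of the centraliser are small
  have key : ∀ F' : Frm G, ∀ u : G, u ∈ F'.A → (∀ v : G, v * u * v⁻¹ ∉ F'.Z) →
      ∀ P : Sylow 2 (Subgroup.centralizer ({u} : Set G)), Nat.card (P : Subgroup (Subgroup.centralizer ({u} : Set G))) = 16 := by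
    intro F' u hu hnu
    set C := Subgroup.centralizer ({u} : Set G)
    intro P
    have hAC : F'.A ≤ C := fun a ha => Subgroup.mem_centralizer_singleton_iff.2 (F'.comm_A ha hu)
    obtain ⟨P', hP'⟩ := ((IsPGroup.of_card (n := 4) (by rw [F'.card_A]; norm_num) :
      IsPGroup 2 F'.A).comap_subtype (K := C)).exists_le_sylow
    obtain ⟨Q, hQ⟩ := (P'.isPGroup'.map C.subtype).exists_le_sylow
    obtain ⟨k, rfl⟩ := MulAction.exists_smul_eq G F'.S Q
    have hAk : F'.A = F'.A.map (MulAut.conj k).toMonoidHom := by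
      refine (map_conj_one _).symm.trans (F'.eq_of_two_group (k • F'.S).isPGroup' ?_ ?_)
      · rw [map_conj_one]; exact fun a ha => hQ ⟨⟨a, hAC ha⟩, hP' ha, rfl⟩
      · rw [smul_sylow_eq]; exact Subgroup.map_mono F'.A_le
    have hu' : k⁻¹ * u * k ∈ F'.A := by rwa [← mem_map_conj, ← hAk]
    have hle : (P' : Subgroup C).map C.subtype ≤ F'.A := by
      intro w hw
      have hwS := hQ hw
      rw [smul_sylow_eq, mem_map_conj] at hwS
      have hwu : w * u = u * w := Subgroup.mem_centralizer_singleton_iff.1 (Subgroup.map_subtype_le _ hw)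
      have h1 := F'.mem_A_of_comm hu' (by simpa using hnu k⁻¹) hwS (by
        calc k⁻¹ * w * k * (k⁻¹ * u * k) = k⁻¹ * (w * u) * k := by group
          _ = _ := by rw [hwu]; group)
      rwa [← mem_map_conj, ← hAk] at h1
    have heq : (P' : Subgroup C).map C.subtype = F'.A :=
      le_antisymm hle fun a ha => ⟨⟨a, hAC ha⟩, hP' ha, rfl⟩
    obtain ⟨c, hc⟩ := MulAction.exists_smul_eq C P' P
    have hc' : (P : Subgroup C) = (P' : Subgroup C).map (MulAut.conj c).toMonoidHom :=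
      (congrArg (fun R : Sylow 2 C => (R : Subgroup C)) hc).symm.trans (smul_sylow_eq c P')
    rw [hc', Subgroup.card_map_of_injective (MulAut.conj c).injective,
      ← Subgroup.card_map_of_injective C.subtype_injective, heq, F'.card_A]
  set C := Subgroup.centralizer ({y} : Set G)
  have hgA : F.A.map (MulAut.conj g).toMonoidHom ≤ C := by
    rintro _ ⟨a, ha, rfl⟩
    refine Subgroup.mem_centralizer_singleton_iff.2 ?_
    show g * a * g⁻¹ * y = y * (g * a * g⁻¹)
    calc g * a * g⁻¹ * y = g * (a * x) * g⁻¹ := by rw [hy]; group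
      _ = g * (x * a) * g⁻¹ := by rw [F.comm_A ha hx]
      _ = _ := by rw [hy]; group
  have hyB' : y ∈ F.swap.A := F.swap_A.symm ▸ hyB
  have hBC : F.swap.A ≤ C := fun a ha => Subgroup.mem_centralizer_singleton_iff.2 (F.swap.comm_A ha hyB')
  have h2 : ∀ H : Subgroup G, Nat.card H = 16 → IsPGroup 2 H := fun H hH =>
    IsPGroup.of_card (n := 4) (by rw [hH]; norm_num)
  obtain ⟨P, hP⟩ := ((h2 _ F.swap.card_A).comap_subtype (K := C)).exists_le_sylow
  obtain ⟨Q, hQ⟩ := ((h2 (F.A.map (MulAut.conj g).toMonoidHom) (by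
    rw [Subgroup.card_map_of_injective (MulAut.conj g).injective, F.card_A])).comap_subtype
    (K := C)).exists_le_sylow
  have hPc := key F.swap y hyB' (fun u => by rw [F.swap_Z]; exact hnot u)
  have hPeq : (P : Subgroup C).map C.subtype = F.swap.A :=
    (Subgroup.eq_of_le_of_card_ge
      (show F.swap.A ≤ (P : Subgroup C).map C.subtype from fun a ha => ⟨⟨a, hBC ha⟩, hP ha, rfl⟩)
      (by rw [Subgroup.card_map_of_injective C.subtype_injective, hPc, F.swap.card_A])).symm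
  have hQeq : (Q : Subgroup C).map C.subtype = F.A.map (MulAut.conj g).toMonoidHom :=
    (Subgroup.eq_of_le_of_card_ge
      (show F.A.map (MulAut.conj g).toMonoidHom ≤ (Q : Subgroup C).map C.subtype from
        fun a ha => ⟨⟨a, hgA ha⟩, hQ ha, rfl⟩)
      (by rw [Subgroup.card_map_of_injective C.subtype_injective, hPc,
        Subgroup.card_map_of_injective (MulAut.conj g).injective, F.card_A])).symm
  obtain ⟨c, hc⟩ := MulAction.exists_smul_eq C Q P
  refine F.not_conj (c * g) ?_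
  rw [← F.swap_A, ← hPeq, ← map_conj_map, ← hQeq, ← hc, smul_sylow_eq, Subgroup.map_map, Subgroup.map_map]
  congr 1

end Frm

end Cfsg.Agent.L34Sylow
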