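import Cfsg.Agent.EqLemmas
import Cfsg.Agent.Lib.L34Sylow.Model

/-!
# The certificate for a second conjugate of the four group of transvections (S3198)

* `dichotomy` : if `U₁`, `U_w` are the conjugates of `tau 1`, `tau w` by an additive bijection, then
  they are linear after a change of coordinates, or `U₁` commutes with every `tau` without being one,
  or a short word in the four maps has order 4
-/

set_option autoImplicit false

namespace Cfsg.Agent.L34Sylow

open Cfsg.Agent.SU32 (K4)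

/-- The coordinates. -/
abbrev V2 : Type := K4 × K4

/-- Multiplication by the generator. -/
def om (v : V2) : V2 := (K4.w * v.1, K4.w * v.2)

/-- The map changing coordinates. -/
def shift (μ : K4) (v : V2) : V2 := (v.1 + μ * (v.2 * v.2), v.2)

/-- Codes of scalars. -/
def enc : K4 → ℕ
  | .z => 0
  | .o => 1
  | .w => 2
  | .w2 => 3

/-- Codes of vectors. -/
def encV (v : V2) : ℕ := enc v.1 + 4 * enc v.2

namespace Cert

/-- A table of sixteen values below 16. -/
def app (c x : ℕ) : ℕ := (c >>> (4 * x)) % 16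

/-- `tau 1`. -/
def t1 (x : ℕ) : ℕ := x ^^^ (x / 4)

/-- `tau w`. -/
def tw (x : ℕ) : ℕ := x ^^^ app 0x1320 (x / 4)

/-- `om`. -/
def omN (x : ℕ) : ℕ := app 0x1320 (x % 4) + 4 * app 0x1320 (x / 4)

/-- `shift`. -/
def shN (μ x : ℕ) : ℕ := x ^^^ app ((([0, 0x2310, 0x3120, 0x1230] : List ℕ)).getD μ 0) (x / 4)

/-- A combination of four vectors. -/
def comb (a b c d k : ℕ) : ℕ :=
  (if k % 2 = 1 then a else 0) ^^^ (if k / 2 % 2 = 1 then b else 0) ^^^
    (if k / 4 % 2 = 1 then c else 0) ^^^ (if k / 8 % 2 = 1 then d else 0)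

/-- The table of the linear map sending `p q r s` to `a b c d`. -/
def build (p q r s a b c d : ℕ) : ℕ :=
  (List.range 16).foldl (fun acc k => acc ||| (comb a b c d k <<< (4 * comb p q r s k))) 0

/-- `q` is the least element of its coset. -/
def red (p1 p2 q : ℕ) : Bool :=
  decide (q ≤ q ^^^ p1) && decide (q ≤ q ^^^ p2) && decide (q ≤ q ^^^ (p1 ^^^ p2))

/-- The four vectors form a basis. -/
def basis (p q r s : ℕ) : Bool :=
  (List.range 16).foldl (fun acc k => acc ||| (1 <<< comb p q r s k)) 0 == 65535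

/-- A word in the four maps. -/
def run (u1 uw : ℕ) : List ℕ → ℕ → ℕ
  | [], x => x
  | i :: l, x =>
    if i = 0 then t1 (run u1 uw l x)
    else if i = 1 then tw (run u1 uw l x)
    else if i = 2 then app u1 (run u1 uw l x)
    else app uw (run u1 uw l x)

/-- The words. -/
def words : List (List ℕ) := [[1, 2], [2, 1, 3, 1, 2, 1], [0, 2], [2, 1, 0], [3, 1]]

/-- A word has order 4. -/
def ord4 (u1 uw : ℕ) (l : List ℕ) : Bool :=
  (List.range 16).any (fun x => run u1 uw l (run u1 uw l x) != x) &&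
    (List.range 16).all (fun x => run u1 uw l (run u1 uw l (run u1 uw l (run u1 uw l x))) == x)

/-- The table is linear after the change of coordinates. -/
def linAt (μ u : ℕ) : Bool :=
  (List.range 16).all (fun x => shN μ (app u (shN μ (omN x))) == omN (shN μ (app u (shN μ x))))

/-- The table commutes with `tau` and is no `tau`. -/
def extra (u : ℕ) : Bool :=
  (List.range 16).all (fun x => app u (t1 x) == t1 (app u x) && app u (tw x) == tw (app u x)) &&
    (List.range 16).any (fun x => app u x != x) &&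
    (List.range 16).any (fun x => app u x != t1 x) &&
    (List.range 16).any (fun x => app u x != tw x) &&
    (List.range 16).any (fun x => app u x != t1 (tw x))

/-- The table has the prescribed values. -/
def okTable (u p q r s a b c d : ℕ) : Bool :=
  (List.range 16).all (fun k => app u (comb p q r s k) == comb a b c d k)

/-- The check at one quadruple. -/
def good (p1 p2 q1 q2 : ℕ) : Bool :=
  if red p1 p2 q1 && red p1 p2 q2 && basis p1 p2 q1 q2 then
    (fun u1 uw => okTable u1 p1 p2 q1 q2 p1 p2 (q1 ^^^ p1) (q2 ^^^ p2) &&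
      okTable uw p1 p2 q1 q2 p1 p2 (q1 ^^^ p2) (q2 ^^^ (p1 ^^^ p2)) &&
      ((List.range 4).any (fun μ => linAt μ u1 && linAt μ uw) || extra u1 ||
        words.any (ord4 u1 uw)))
      (build p1 p2 q1 q2 p1 p2 (q1 ^^^ p1) (q2 ^^^ p2))
      (build p1 p2 q1 q2 p1 p2 (q1 ^^^ p2) (q2 ^^^ (p1 ^^^ p2)))
  else true

theorem good_all : ∀ p1 : Fin 16, ∀ p2 : Fin 16, ∀ q1 : Fin 16, ∀ q2 : Fin 16,
    good p1.1 p2.1 q1.1 q2.1 = true := by
  decide +kernel

theorem red_exists : ∀ p1 : Fin 16, ∀ p2 : Fin 16, ∀ q : Fin 16,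
    red p1.1 p2.1 q.1 = true ∨ red p1.1 p2.1 (q.1 ^^^ p1.1) = true ∨
      red p1.1 p2.1 (q.1 ^^^ p2.1) = true ∨ red p1.1 p2.1 (q.1 ^^^ (p1.1 ^^^ p2.1)) = true := by
  decide +kernel

end Cert

theorem encV_lt : ∀ v : V2, encV v < 16 := by decide +kernel

theorem encV_injective : ∀ v w : V2, encV v = encV w → v = w := by decide +kernel

theorem encV_add : ∀ v w : V2, encV (v + w) = encV v ^^^ encV w := by decide +kernel

theorem encV_surj : ∀ n : Fin 16, ∃ v : V2, encV v = n.1 := by decide +kernel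

theorem encV_tau1 : ∀ v : V2, encV (tau 1 v) = Cert.t1 (encV v) := by decide +kernel

theorem encV_tauw : ∀ v : V2, encV (tau K4.w v) = Cert.tw (encV v) := by decide +kernel

theorem encV_om : ∀ v : V2, encV (om v) = Cert.omN (encV v) := by decide +kernel

theorem encV_shift : ∀ (μ : K4) (v : V2), encV (shift μ v) = Cert.shN (enc μ) (encV v) := by decide +kernel

theorem tau_cases : ∀ β : K4, (β = 0 ∨ β = 1 ∨ β = K4.w) ∨ β = 1 + K4.w := by decide

theorem exists_enc : ∀ n : Fin 4, ∃ μ : K4, enc μ = n.1 := by decide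

/-- Sixteen combinations of the standard basis. -/
def stdComb (k : ℕ) : V2 :=
  (if k % 2 = 1 then (1, 0) else 0) + (if k / 2 % 2 = 1 then (K4.w, 0) else 0) +
    (if k / 4 % 2 = 1 then (0, 1) else 0) + (if k / 8 % 2 = 1 then (0, K4.w) else 0)

theorem stdComb_surj : ∀ v : V2, ∃ k : Fin 16, stdComb k.1 = v := by decide +kernel

/-- The composition of a word in four maps. -/
def runMaps (U₁ Uw : V2 → V2) : List ℕ → V2 → V2
  | [], x => x
  | i :: l, x =>
    if i = 0 then tau 1 (runMaps U₁ Uw l x)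
    else if i = 1 then tau K4.w (runMaps U₁ Uw l x)
    else if i = 2 then U₁ (runMaps U₁ Uw l x)
    else Uw (runMaps U₁ Uw l x)

/-- The certificate, translated. -/
theorem dichotomy (f U₁ Uw : V2 → V2) (hf : Function.Bijective f) (hadd : ∀ v w, f (v + w) = f v + f w)
    (h1 : ∀ v, U₁ (f v) = f (tau 1 v)) (hw : ∀ v, Uw (f v) = f (tau K4.w v)) :
    (∃ μ : K4, (∀ v, shift μ (U₁ (shift μ (om v))) = om (shift μ (U₁ (shift μ v)))) ∧
      ∀ v, shift μ (Uw (shift μ (om v))) = om (shift μ (Uw (shift μ v)))) ∨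
    ((∀ v, U₁ (tau 1 v) = tau 1 (U₁ v)) ∧ (∀ v, U₁ (tau K4.w v) = tau K4.w (U₁ v)) ∧
      ∀ β : K4, ∃ v, U₁ v ≠ tau β v) ∨
    ∃ l ∈ Cert.words, (∃ v, runMaps U₁ Uw l (runMaps U₁ Uw l v) ≠ v) ∧
      ∀ v, runMaps U₁ Uw l (runMaps U₁ Uw l (runMaps U₁ Uw l (runMaps U₁ Uw l v))) = v := by
  have hf0 : f 0 = 0 := by
    have h := hadd 0 0
    rw [add_zero] at h
    exact (left_eq_add.1 h)
  set p1 := encV (f (1, 0))
  set p2 := encV (f (K4.w, 0))
  -- representatives of the two cosets
  have hrep : ∀ e : V2, e.1 = 0 → ∃ z : K4, Cert.red p1 p2 (encV (f ((z, 0) + e))) = true := by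
    intro e _
    have e1 : ∀ z : K4, encV (f ((z, 0) + e)) = encV (f (z, 0)) ^^^ encV (f e) := fun z => by
      rw [hadd, encV_add]
    rcases Cert.red_exists ⟨p1, encV_lt _⟩ ⟨p2, encV_lt _⟩ ⟨encV (f e), encV_lt _⟩ with h | h | h | h
    · exact ⟨0, by rw [show ((0 : K4), (0 : K4)) = (0 : V2) from rfl, zero_add]; exact h⟩
    · exact ⟨1, by rw [e1, Nat.xor_comm]; exact h⟩
    · exact ⟨K4.w, by rw [e1, Nat.xor_comm]; exact h⟩
    · refine ⟨1 + K4.w, ?_⟩
      rw [e1, show ((1 + K4.w, 0) : V2) = (1, 0) + (K4.w, 0) from rfl, hadd, encV_add, Nat.xor_comm]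
      exact h
  obtain ⟨z1, hz1⟩ := hrep (0, 1) rfl
  obtain ⟨z2, hz2⟩ := hrep (0, K4.w) rfl
  set g : V2 → V2 := fun v => f v
  set q1 := encV (f ((z1, 0) + (0, 1)))
  set q2 := encV (f ((z2, 0) + (0, K4.w)))
  -- the basis
  let e : ℕ → V2 := fun k =>
    (if k % 2 = 1 then (1, 0) else 0) + (if k / 2 % 2 = 1 then (K4.w, 0) else 0) +
      (if k / 4 % 2 = 1 then (z1, 0) + (0, 1) else 0) + (if k / 8 % 2 = 1 then (z2, 0) + (0, K4.w) else 0)
  have henc0 : encV 0 = 0 := rfl
  have hcomb : ∀ k, encV (f (e k)) = Cert.comb p1 p2 q1 q2 k := by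
    intro k
    simp only [e, hadd, encV_add, Cert.comb]
    split_ifs <;> simp [hf0, henc0, p1, p2, q1, q2]
  have hes : ∀ v : V2, ∃ k < 16, e k = v := by
    have key : ∀ a b : K4, ∀ v : V2, ∃ k : Fin 16,
        (if k.1 % 2 = 1 then ((1, 0) : V2) else 0) + (if k.1 / 2 % 2 = 1 then (K4.w, 0) else 0) +
          (if k.1 / 4 % 2 = 1 then (a, 0) + (0, 1) else 0) +
          (if k.1 / 8 % 2 = 1 then (b, 0) + (0, K4.w) else 0) = v := by decide +kernel
    intro v
    obtain ⟨k, hk⟩ := key z1 z2 v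
    exact ⟨k.1, k.2, hk⟩
  have hg := Cert.good_all ⟨p1, encV_lt _⟩ ⟨p2, encV_lt _⟩ ⟨q1, encV_lt _⟩ ⟨q2, encV_lt _⟩
  have hbasis : Cert.basis p1 p2 q1 q2 = true := by
    have key : ∀ l : List ℕ, ∀ acc n : ℕ, (l.foldl (fun acc k => acc ||| (1 <<< Cert.comb p1 p2 q1 q2 k)) acc).testBit n
        = (acc.testBit n || l.any (fun k => decide (Cert.comb p1 p2 q1 q2 k = n))) := by
      intro l
      induction l with
      | nil => simp
      | cons a l ih =>
        intro acc n
        rw [List.foldl_cons, ih, Nat.testBit_or, List.any_cons, Nat.one_shiftLeft, Nat.testBit_two_pow,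
          Bool.or_assoc]
    rw [Cert.basis, beq_iff_eq]
    refine Nat.eq_of_testBit_eq fun n => ?_
    rw [key, Nat.zero_testBit, Bool.false_or, show (65535 : ℕ) = 2 ^ 16 - 1 from rfl,
      Nat.testBit_two_pow_sub_one]
    by_cases hn : n < 16
    · rw [decide_eq_true hn, List.any_eq_true]
      obtain ⟨v, hv⟩ := encV_surj ⟨n, hn⟩
      obtain ⟨u, hu⟩ := hf.2 v
      obtain ⟨k, hk, hke⟩ := hes u
      refine ⟨k, List.mem_range.2 hk, decide_eq_true ?_⟩
      rw [← hcomb, hke, hu, hv]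
    · rw [decide_eq_false hn, List.any_eq_false]
      intro k _
      rw [decide_eq_true_eq]
      intro hkn
      exact hn (by rw [← hkn, ← hcomb]; exact encV_lt _)
  simp only [Cert.good, hz1, hz2, hbasis, Bool.and_self, if_true, Bool.and_eq_true, Bool.or_eq_true] at hg
  obtain ⟨⟨ht1, htw⟩, hcase⟩ := hg
  set u1 := Cert.build p1 p2 q1 q2 p1 p2 (q1 ^^^ p1) (q2 ^^^ p2)
  set uw := Cert.build p1 p2 q1 q2 p1 p2 (q1 ^^^ p2) (q2 ^^^ (p1 ^^^ p2))
  have hfadd : ∀ a b : V2, encV (f (a + b)) = encV (f a) ^^^ encV (f b) := fun a b => by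
    rw [hadd, encV_add]
  have hU1 : ∀ v, encV (U₁ v) = Cert.app u1 (encV v) := by
    intro v
    obtain ⟨u, rfl⟩ := hf.2 v
    obtain ⟨k, hk, rfl⟩ := hes u
    have hk' := List.all_eq_true.1 ht1 k (List.mem_range.2 hk)
    rw [beq_iff_eq] at hk'
    rw [h1, hcomb, hk']
    have e1 : tau 1 ((1 : K4), (0 : K4)) = (1, 0) := by decide
    have e2 : tau 1 (K4.w, (0 : K4)) = (K4.w, 0) := by decide
    have e3 : ∀ z : K4, tau 1 ((z, 0) + (0, 1)) = (z, 0) + (0, 1) + (1, 0) := by decide
    have e4 : ∀ z : K4, tau 1 ((z, 0) + (0, K4.w)) = (z, 0) + (0, K4.w) + (K4.w, 0) := by decide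
    have e0 : tau 1 (0 : V2) = 0 := by decide
    simp only [e, tau_add, apply_ite (tau 1), e0, e1, e2, e3, e4, hfadd, apply_ite f, apply_ite encV,
      hf0, henc0, Cert.comb, p1, p2, q1, q2]
  have hUw : ∀ v, encV (Uw v) = Cert.app uw (encV v) := by
    intro v
    obtain ⟨u, rfl⟩ := hf.2 v
    obtain ⟨k, hk, rfl⟩ := hes u
    have hk' := List.all_eq_true.1 htw k (List.mem_range.2 hk)
    rw [beq_iff_eq] at hk'
    rw [hw, hcomb, hk']
    have e1 : tau K4.w ((1 : K4), (0 : K4)) = (1, 0) := by decide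
    have e2 : tau K4.w (K4.w, (0 : K4)) = (K4.w, 0) := by decide
    have e3 : ∀ z : K4, tau K4.w ((z, 0) + (0, 1)) = (z, 0) + (0, 1) + (K4.w, 0) := by decide
    have e4 : ∀ z : K4, tau K4.w ((z, 0) + (0, K4.w)) =
        (z, 0) + (0, K4.w) + ((1, 0) + (K4.w, 0)) := by decide
    have e0 : tau K4.w (0 : V2) = 0 := by decide
    simp only [e, tau_add, apply_ite (tau K4.w), e0, e1, e2, e3, e4, hfadd, apply_ite f, apply_ite encV,
      hf0, henc0, Cert.comb, p1, p2, q1, q2]
  rcases hcase with (hμ | hx) | hword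
  · left
    obtain ⟨n, hn, hn'⟩ := List.any_eq_true.1 hμ
    obtain ⟨μ, hμn⟩ := exists_enc ⟨n, List.mem_range.1 hn⟩
    rw [Bool.and_eq_true] at hn'
    refine ⟨μ, fun v => ?_, fun v => ?_⟩
    · have := List.all_eq_true.1 hn'.1 (encV v) (List.mem_range.2 (encV_lt v))
      rw [beq_iff_eq] at this
      apply encV_injective
      simp only [encV_shift, hU1, encV_om, hμn]
      exact this
    · have := List.all_eq_true.1 hn'.2 (encV v) (List.mem_range.2 (encV_lt v))
      rw [beq_iff_eq] at this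
      apply encV_injective
      simp only [encV_shift, hUw, encV_om, hμn]
      exact this
  · right; left
    simp only [Cert.extra, Bool.and_eq_true, List.all_eq_true, List.any_eq_true, beq_iff_eq,
      bne_iff_ne] at hx
    obtain ⟨⟨⟨⟨hc, h0⟩, h11⟩, hww⟩, h12⟩ := hx
    refine ⟨fun v => ?_, fun v => ?_, fun β => ?_⟩
    · apply encV_injective
      rw [hU1, encV_tau1, encV_tau1, hU1]
      exact (hc _ (List.mem_range.2 (encV_lt v))).1
    · apply encV_injective
      rw [hU1, encV_tauw, encV_tauw, hU1]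
      exact (hc _ (List.mem_range.2 (encV_lt v))).2
    · have key : ∀ (g : ℕ → ℕ), (∀ v : V2, encV (tau β v) = g (encV v)) →
          (∃ x ∈ List.range 16, Cert.app u1 x ≠ g x) → ∃ v, U₁ v ≠ tau β v := by
        rintro g hg ⟨x, hx, hne⟩
        obtain ⟨v, hv⟩ := encV_surj ⟨x, List.mem_range.1 hx⟩
        refine ⟨v, fun he => hne ?_⟩
        have := congrArg encV he
        rw [hU1, hg, hv] at this
        exact this
      rcases tau_cases β with (rfl | rfl | rfl) | rfl
      · exact key id (fun v => by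
          have : ∀ v : V2, tau 0 v = v := by decide
          rw [this]; rfl) h0
      · exact key Cert.t1 encV_tau1 h11
      · exact key Cert.tw encV_tauw hww
      · exact key (fun x => Cert.t1 (Cert.tw x))
          (fun v => by rw [← encV_tauw, ← encV_tau1, tau_tau]) h12
  · right; right
    obtain ⟨l, hl, hl4⟩ := List.any_eq_true.1 hword
    have hrun : ∀ (l : List ℕ) (v : V2), encV (runMaps U₁ Uw l v) = Cert.run u1 uw l (encV v) := by
      intro l
      induction l with
      | nil => intro v; rfl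
      | cons i l ih =>
        intro v
        simp only [runMaps, Cert.run]
        split_ifs <;> simp [encV_tau1, encV_tauw, hU1, hUw, ih]
    simp only [Cert.ord4, Bool.and_eq_true, List.all_eq_true, List.any_eq_true, beq_iff_eq,
      bne_iff_ne] at hl4
    obtain ⟨⟨x, hx, hne⟩, h4⟩ := hl4
    obtain ⟨v, hv⟩ := encV_surj ⟨x, List.mem_range.1 hx⟩
    refine ⟨l, hl, ⟨v, fun he => hne ?_⟩, fun v => encV_injective _ _ ?_⟩
    · have := congrArg encV he
      rw [hrun, hrun, hv] at this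
      exact this
    · rw [hrun, hrun, hrun, hrun]
      exact h4 _ (List.mem_range.2 (encV_lt v))

end Cfsg.Agent.L34Sylow
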