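import Cfsg.Agent.EqLemmas
import Cfsg.Agent.Lib.L34Sylow.Basic
import Cfsg.Agent.Lib.L34Sylow.Cert

/-!
# The action of `N(A)` on the coordinates of `A` (S3198)

* `Frm.act` : the action, `Frm.X` its image; `Frm.tauPerm_mem`
* `Frm.not_eight_dvd`, `Frm.sq_eq_one_of_four`, `Frm.mem_tau_of_commute` : its Sylow 2-subgroup is
  the group of the `tau`
* `Frm.exists_moves` : if `F` is not small, `X` moves the line of `Z`
-/

set_option autoImplicit false

open Cfsg

namespace Cfsg.Agent.L34Sylow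

open Cfsg.Agent.SU32 (K4)

namespace Frm

variable {G : Type*} [Group G] (F : Frm G)

/-- The elements of `A` by coordinates. -/
def pA (v : V2) : G := F.ι (H3.inA v)

theorem pA_mem (v : V2) : F.pA v ∈ F.A := F.ι_mem_A.2 rfl

theorem pA_add (v w : V2) : F.pA (v + w) = F.pA v * F.pA w := by simp [pA, H3.inA_add]

theorem pA_injective : Function.Injective F.pA := F.inj.comp H3.inA_injective

theorem exists_pA {x : G} (hx : x ∈ F.A) : ∃ v, F.pA v = x := by
  obtain ⟨h, hh, rfl⟩ := hx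
  exact ⟨(h.c, h.a), congrArg F.ι (H3.ext rfl (H3.mem_subA.1 hh).symm rfl)⟩

theorem pA_mem_Z {v : V2} : F.pA v ∈ F.Z ↔ v.2 = 0 := by
  rw [pA, F.ι_mem_Z]
  exact ⟨fun h => h.2, fun h => ⟨rfl, h⟩⟩

theorem pA_zero : F.pA 0 = 1 := by rw [pA, H3.inA_zero, map_one]

/-- The coordinates as a bijection. -/
noncomputable def eA : V2 ≃ F.A :=
  Equiv.ofBijective (fun v => ⟨F.pA v, F.pA_mem v⟩)
    ⟨fun _ _ h => F.pA_injective (congrArg Subtype.val h), fun x => by
      obtain ⟨v, hv⟩ := F.exists_pA x.2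
      exact ⟨v, Subtype.ext hv⟩⟩

theorem eA_coe (v : V2) : ((F.eA v : F.A) : G) = F.pA v := rfl

theorem pA_symm (x : F.A) : F.pA (F.eA.symm x) = x := by
  rw [← F.eA_coe, Equiv.apply_symm_apply]

theorem conj_mem_of_normalizer {n x : G} (hn : n ∈ Subgroup.normalizer (F.A : Set G)) (hx : x ∈ F.A) :
    n * x * n⁻¹ ∈ F.A := (Subgroup.mem_normalizer_iff.1 hn x).1 hx

/-- The action of an element of `N(A)` on the coordinates. -/
noncomputable def actFun (n : Subgroup.normalizer (F.A : Set G)) (v : V2) : V2 :=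
  F.eA.symm ⟨n * F.pA v * (n : G)⁻¹, F.conj_mem_of_normalizer n.2 (F.pA_mem v)⟩

theorem pA_actFun (n : Subgroup.normalizer (F.A : Set G)) (v : V2) :
    F.pA (F.actFun n v) = n * F.pA v * (n : G)⁻¹ := F.pA_symm _

theorem actFun_one (v : V2) : F.actFun 1 v = v := F.pA_injective (by rw [F.pA_actFun]; simp)

theorem actFun_mul (m n : Subgroup.normalizer (F.A : Set G)) (v : V2) :
    F.actFun (m * n) v = F.actFun m (F.actFun n v) := by
  apply F.pA_injective
  rw [F.pA_actFun, F.pA_actFun, F.pA_actFun]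
  push_cast
  group

/-- The action of `N(A)` on the coordinates. -/
noncomputable def act : Subgroup.normalizer (F.A : Set G) →* Equiv.Perm V2 where
  toFun n :=
    { toFun := F.actFun n
      invFun := F.actFun n⁻¹
      left_inv := fun v => by rw [← F.actFun_mul, inv_mul_cancel, F.actFun_one]
      right_inv := fun v => by rw [← F.actFun_mul, mul_inv_cancel, F.actFun_one] }
  map_one' := Equiv.ext F.actFun_one
  map_mul' m n := Equiv.ext (F.actFun_mul m n)

theorem pA_act (n : Subgroup.normalizer (F.A : Set G)) (v : V2) :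
    F.pA (F.act n v) = n * F.pA v * (n : G)⁻¹ := F.pA_actFun n v

theorem act_eq_iff (n : Subgroup.normalizer (F.A : Set G)) (v w : V2) :
    F.act n v = w ↔ (n : G) * F.pA v * (n : G)⁻¹ = F.pA w := by
  rw [← F.pA_act]
  exact ⟨fun h => congrArg F.pA h, fun h => F.pA_injective h⟩

theorem act_add (n : Subgroup.normalizer (F.A : Set G)) (v w : V2) :
    F.act n (v + w) = F.act n v + F.act n w := by
  apply F.pA_injective
  rw [F.pA_act, F.pA_add, F.pA_add, F.pA_act, F.pA_act, conj_mul]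

/-- The image of `N(A)`. -/
noncomputable def X : Subgroup (Equiv.Perm V2) := F.act.range

theorem X_add {f : Equiv.Perm V2} (hf : f ∈ F.X) (v w : V2) : f (v + w) = f v + f w := by
  obtain ⟨n, rfl⟩ := hf
  exact F.act_add n v w

theorem X_zero {f : Equiv.Perm V2} (hf : f ∈ F.X) : f 0 = 0 := by
  have h := F.X_add hf 0 0
  rw [add_zero] at h
  exact left_eq_add.1 h

end Frm

theorem tau_zero (v : V2) : tau 0 v = v := by ext <;> simp [tau]

/-- `tau β` as a permutation. -/
def tauPerm (β : K4) : Equiv.Perm V2 where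
  toFun := tau β
  invFun := tau β
  left_inv v := by rw [tau_tau, H3.add_self, tau_zero]
  right_inv v := by rw [tau_tau, H3.add_self, tau_zero]

@[simp] theorem tauPerm_apply (β : K4) (v : V2) : tauPerm β v = tau β v := rfl

theorem tauPerm_mul (β γ : K4) : tauPerm β * tauPerm γ = tauPerm (β + γ) :=
  Equiv.ext fun v => tau_tau β γ v

theorem tauPerm_zero : tauPerm 0 = 1 := Equiv.ext tau_zero

/-- The group of the `tau`. -/
def T0 : Subgroup (Equiv.Perm V2) where
  carrier := Set.range tauPerm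
  one_mem' := ⟨0, tauPerm_zero⟩
  mul_mem' := by rintro _ _ ⟨β, rfl⟩ ⟨γ, rfl⟩; exact ⟨β + γ, (tauPerm_mul β γ).symm⟩
  inv_mem' := by
    rintro _ ⟨β, rfl⟩
    exact ⟨β, (inv_eq_of_mul_eq_one_right (by rw [tauPerm_mul, H3.add_self, tauPerm_zero])).symm⟩

theorem tauPerm_injective : Function.Injective tauPerm := fun β γ h => by
  have := congrArg Prod.fst (DFunLike.congr_fun h ((0, 1) : V2))
  simpa [tau] using this

theorem card_T0 : Nat.card T0 = 4 := by
  rw [← SetLike.coe_sort_coe, show (T0 : Set (Equiv.Perm V2)) = Set.range tauPerm from rfl,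
    ← Nat.card_congr (Equiv.ofInjective _ tauPerm_injective), Nat.card_eq_fintype_card, K4.card_eq]

theorem T0_sq {f : Equiv.Perm V2} (hf : f ∈ T0) : f * f = 1 := by
  obtain ⟨β, rfl⟩ := hf
  rw [tauPerm_mul, H3.add_self, tauPerm_zero]

namespace Frm

variable {G : Type*} [Group G] (F : Frm G)

/-- The element of `B` inducing `tau β`. -/
def bEl (β : K4) : Subgroup.normalizer (F.A : Set G) :=
  ⟨F.ι ⟨0, β, 0⟩, F.S_le_normalizer (F.ι_mem _)⟩

theorem act_bEl (β : K4) : F.act (F.bEl β) = tauPerm β :=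
  Equiv.ext fun v => (F.act_eq_iff _ _ _).2 (by
    simp [bEl, pA, ← map_inv, ← map_mul, inA_tau])

theorem tauPerm_mem (β : K4) : tauPerm β ∈ F.X := ⟨F.bEl β, F.act_bEl β⟩

theorem T0_le : T0 ≤ F.X := by rintro _ ⟨β, rfl⟩; exact F.tauPerm_mem β

variable [Finite G]

theorem not_eight_dvd : ¬ 8 ∣ Nat.card F.X := by
  intro h8
  set N := Subgroup.normalizer (F.A : Set G)
  have hker : F.A.subgroupOf N ≤ F.act.ker := by
    intro a ha
    refine MonoidHom.mem_ker.2 (Equiv.ext fun v => (F.act_eq_iff _ _ _).2 ?_)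
    rw [show (1 : Equiv.Perm V2) v = v from rfl, F.comm_A (Subgroup.mem_subgroupOf.1 ha) (F.pA_mem v),
      mul_inv_cancel_right]
  have h16 : 16 ∣ Nat.card F.act.ker := by
    refine dvd_trans ?_ (Subgroup.card_dvd_of_le hker)
    rw [Nat.card_congr (Subgroup.subgroupOfEquivOfLe Subgroup.le_normalizer).toEquiv, F.card_A]
  have hN : Nat.card N = Nat.card F.X * Nat.card F.act.ker := by
    rw [← F.act.ker.card_mul_index, mul_comm, Subgroup.index_ker]
    rfl
  have h128 : 2 ^ 7 ∣ Nat.card G :=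
    ((hN ▸ Nat.mul_dvd_mul h8 h16 : 8 * 16 ∣ Nat.card N)).trans (Subgroup.card_subgroup_dvd_card N)
  haveI : Fact (Nat.Prime 2) := ⟨Nat.prime_two⟩
  have h := F.S.pow_dvd_card_of_pow_dvd_card h128
  rw [F.card_S] at h
  norm_num at h

/-- An elementary abelian subgroup of `X` through `T0` is `T0`. -/
theorem mem_tau_of_commute {f : Equiv.Perm V2} (hf : f ∈ F.X) (hf2 : f * f = 1)
    (hc : ∀ β, f * tauPerm β = tauPerm β * f) : f ∈ T0 := by
  by_contra hfT
  let H : Subgroup (Equiv.Perm V2) :=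
    { carrier := {g | g ∈ T0 ∨ g * f ∈ T0}
      one_mem' := Or.inl T0.one_mem
      mul_mem' := by
        intro a b ha hb
        have hcT : ∀ t ∈ T0, f * t = t * f := by rintro _ ⟨β, rfl⟩; exact hc β
        have hb' : b * f = f * b := by
          rcases hb with hb | hb
          · exact (hcT b hb).symm
          · have h1 := hcT _ hb
            calc b * f = f * (f * (b * f)) := by rw [← mul_assoc, hf2, one_mul]
              _ = f * (b * f * f) := by rw [h1]
              _ = f * b := by rw [mul_assoc b, hf2, mul_one]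
        rcases ha with ha | ha <;> rcases hb with hb | hb
        · exact Or.inl (T0.mul_mem ha hb)
        · exact Or.inr (by rw [mul_assoc]; exact T0.mul_mem ha hb)
        · exact Or.inr (by rw [mul_assoc, hb', ← mul_assoc]; exact T0.mul_mem ha hb)
        · refine Or.inl ?_
          have := T0.mul_mem ha hb
          rwa [hb', mul_assoc, ← mul_assoc f f, hf2, one_mul] at this
      inv_mem' := by
        intro a ha
        rcases ha with ha | ha
        · exact Or.inl (T0.inv_mem ha)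
        · refine Or.inr ?_
          obtain ⟨β, hβ⟩ := ha
          have ha' : a = tauPerm β * f := by rw [hβ, mul_assoc, hf2, mul_one]
          have hfi : f⁻¹ = f := inv_eq_of_mul_eq_one_right hf2
          refine ⟨β, ?_⟩
          rw [ha', mul_inv_rev, hfi, inv_eq_of_mul_eq_one_right (T0_sq ⟨β, rfl⟩), mul_assoc, ← hc,
            ← mul_assoc, hf2, one_mul] }
  have hHX : H ≤ F.X := fun g hg => hg.elim (fun h => F.T0_le h) fun h =>
    (Subgroup.mul_mem_cancel_right F.X hf).1 (F.T0_le h)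
  haveI : Fact (Nat.Prime 2) := ⟨Nat.prime_two⟩
  have hH2 : IsPGroup 2 H := by
    intro g
    refine ⟨1, Subtype.ext ?_⟩
    rw [pow_one, SubgroupClass.coe_pow, pow_two, Subgroup.coe_one]
    rcases g.2 with hg | hg
    · exact T0_sq hg
    · obtain ⟨β, hβ⟩ := hg
      have hg' : (g : Equiv.Perm V2) = tauPerm β * f := by rw [hβ, mul_assoc, hf2, mul_one]
      rw [hg', mul_assoc, ← mul_assoc f, hc, mul_assoc (tauPerm β) f f, hf2, mul_one, T0_sq ⟨β, rfl⟩]
  obtain ⟨k, hk⟩ := IsPGroup.iff_card.1 hH2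
  have hle : T0 ≤ H := fun g hg => Or.inl hg
  have hlt : 4 < Nat.card H := by
    rw [← card_T0]
    refine lt_of_not_ge fun h => hfT ?_
    exact (Subgroup.eq_of_le_of_card_ge hle h).ge (Or.inr (by rw [hf2]; exact T0.one_mem))
  rw [hk] at hlt
  have h3 : 3 ≤ k := by
    by_contra h
    have := Nat.pow_le_pow_right (show 1 ≤ 2 by norm_num) (show k ≤ 2 by omega)
    omega
  exact F.not_eight_dvd ((hk ▸ (pow_dvd_pow 2 h3) : 8 ∣ Nat.card H).trans (Subgroup.card_dvd_of_le hHX))

/-- `X` has no element of order 4. -/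
theorem sq_eq_one_of_four {f : Equiv.Perm V2} (hf : f ∈ F.X) (h4 : f ^ 4 = 1) : f * f = 1 := by
  haveI : Fact (Nat.Prime 2) := ⟨Nat.prime_two⟩
  have hT : IsPGroup 2 T0 := IsPGroup.of_card (n := 2) (by rw [card_T0]; norm_num)
  have hidx : ¬ 2 ∣ (T0.subgroupOf F.X).index := by
    intro h2
    apply F.not_eight_dvd
    rw [← (T0.subgroupOf F.X).card_mul_index,
      Nat.card_congr (Subgroup.subgroupOfEquivOfLe F.T0_le).toEquiv, card_T0]
    exact Nat.mul_dvd_mul_left 4 h2
  set P : Sylow 2 F.X := (hT.comap_subtype (K := F.X)).toSylow hidx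
  have hg : IsPGroup 2 (Subgroup.zpowers (⟨f, hf⟩ : F.X)) := by
    intro ⟨g, hg⟩
    obtain ⟨i, rfl⟩ := Subgroup.mem_zpowers_iff.1 hg
    refine ⟨2, Subtype.ext (Subtype.ext ?_)⟩
    push_cast
    rw [← zpow_natCast (f ^ i), ← zpow_mul, mul_comm, zpow_mul]
    norm_num [show f ^ (4 : ℤ) = 1 from h4]
  obtain ⟨Q, hQ⟩ := hg.exists_le_sylow
  obtain ⟨k, rfl⟩ := MulAction.exists_smul_eq F.X P Q
  have hm := hQ (Subgroup.mem_zpowers _)
  rw [smul_sylow_eq, mem_map_conj] at hm
  have hT' : (k : Equiv.Perm V2)⁻¹ * f * k ∈ T0 := Subgroup.mem_subgroupOf.1 hm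
  have := T0_sq hT'
  rw [show (k : Equiv.Perm V2)⁻¹ * f * k * ((k : Equiv.Perm V2)⁻¹ * f * k) =
    (k : Equiv.Perm V2)⁻¹ * (f * f) * k by group] at this
  calc f * f = (k : Equiv.Perm V2) * ((k : Equiv.Perm V2)⁻¹ * (f * f) * k) * (k : Equiv.Perm V2)⁻¹ := by group
    _ = 1 := by rw [this]; group

/-- If `F` is not small, `X` moves the line of `Z`. -/
theorem exists_moves (h : ¬ F.Small) : ∃ f ∈ F.X, ∃ c : K4, (f (c, 0)).2 ≠ 0 := by
  simp only [Small, not_forall] at h
  obtain ⟨g, z, hz, hgA, hgZ⟩ := h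
  obtain ⟨n, hn, he⟩ := F.control (F.Z_le_A hz) hgA
  obtain ⟨v, rfl⟩ := F.exists_pA (F.Z_le_A hz)
  refine ⟨F.act ⟨n, hn⟩, ⟨_, rfl⟩, v.1, fun h0 => hgZ ?_⟩
  rw [← he, show n = ((⟨n, hn⟩ : Subgroup.normalizer (F.A : Set G)) : G) from rfl, ← F.pA_act,
    F.pA_mem_Z]
  rwa [show v = (v.1, 0) from Prod.ext rfl (F.pA_mem_Z.1 hz)]

end Frm

end Cfsg.Agent.L34Sylow
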