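import Cfsg.Agent.EqLemmas
import Cfsg.Agent.Lib.L34Sylow.Action

/-!
# Linearity of the action of `N(A)` (S3198)

* `Frm.exists_linear` : if `F` is not small then, after a shear, the action is linear over the field
  with four elements and contains the two groups of transvections
* `Frm.Lined.trans`, `Frm.Lined.stab`, `Frm.Lined.odd_normal` : consequences
-/

set_option autoImplicit false

open Cfsg

namespace Cfsg.Agent.L34Sylow

open Cfsg.Agent.SU32 (K4)

/-- The lower transvections. -/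
def low (k : K4) (v : V2) : V2 := (v.1, v.2 + k * v.1)

theorem low_low : ∀ (k : K4) (v : V2), low k (low k v) = v := by decide +kernel

/-- `low k` as a permutation. -/
def lowPerm (k : K4) : Equiv.Perm V2 := ⟨low k, low k, low_low k, low_low k⟩

@[simp] theorem lowPerm_apply (k : K4) (v : V2) : lowPerm k v = low k v := rfl

theorem shift_shift : ∀ (μ : K4) (v : V2), shift μ (shift μ v) = v := by decide +kernel

/-- `shift μ` as a permutation. -/
def shiftPerm (μ : K4) : Equiv.Perm V2 := ⟨shift μ, shift μ, shift_shift μ, shift_shift μ⟩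

@[simp] theorem shiftPerm_apply (μ : K4) (v : V2) : shiftPerm μ v = shift μ v := rfl

theorem shiftPerm_mul_self (μ : K4) : shiftPerm μ * shiftPerm μ = 1 := Equiv.ext (shift_shift μ)

/-- Conjugation by `shift μ`. -/
def csh (μ : K4) (f : Equiv.Perm V2) : Equiv.Perm V2 := shiftPerm μ * f * shiftPerm μ

theorem csh_mul (μ : K4) (f g : Equiv.Perm V2) : csh μ (f * g) = csh μ f * csh μ g := by
  simp only [csh, mul_assoc]
  rw [← mul_assoc (shiftPerm μ) (shiftPerm μ), shiftPerm_mul_self, one_mul]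

theorem csh_csh (μ : K4) (f : Equiv.Perm V2) : csh μ (csh μ f) = f :=
  Equiv.ext fun v => by simp [csh, shift_shift]

theorem csh_inv (μ : K4) (f : Equiv.Perm V2) : csh μ f⁻¹ = (csh μ f)⁻¹ := by
  have h : (shiftPerm μ)⁻¹ = shiftPerm μ := inv_eq_of_mul_eq_one_right (shiftPerm_mul_self μ)
  simp only [csh, mul_inv_rev, h, mul_assoc]

theorem csh_tau : ∀ (μ β : K4), csh μ (tauPerm β) = tauPerm β := by
  have key : ∀ (μ β : K4) (v : V2), shift μ (tau β (shift μ v)) = tau β v := by decide +kernel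
  exact fun μ β => Equiv.ext (key μ β)

theorem papply_inv {α : Type*} (f : Equiv.Perm α) (x : α) : f (f⁻¹ x) = x := f.apply_symm_apply x

theorem pinv_apply {α : Type*} (f : Equiv.Perm α) (x : α) : f⁻¹ (f x) = x := f.symm_apply_apply x

/-- Linearity over the field with four elements. -/
def Lin (f : Equiv.Perm V2) : Prop := ∀ v, f (om v) = om (f v)

theorem Lin.mul {f g : Equiv.Perm V2} (hf : Lin f) (hg : Lin g) : Lin (f * g) := fun v => by
  rw [Equiv.Perm.mul_apply, Equiv.Perm.mul_apply, hg, hf]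

theorem Lin.inv {f : Equiv.Perm V2} (hf : Lin f) : Lin f⁻¹ := fun v => f.injective (by
  rw [hf, papply_inv, papply_inv])

theorem lin_tauPerm : ∀ β : K4, Lin (tauPerm β) := by
  have key : ∀ (β : K4) (v : V2), tau β (om v) = om (tau β v) := by decide +kernel
  exact key

theorem lin_lowPerm : ∀ k : K4, Lin (lowPerm k) := by
  have key : ∀ (k : K4) (v : V2), low k (om v) = om (low k v) := by decide +kernel
  exact key

/-- A matrix. -/
def mat (p q r s : K4) (v : V2) : V2 := (p * v.1 + r * v.2, q * v.1 + s * v.2)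

theorem Lin.eq_mk {f : Equiv.Perm V2} (hf : Lin f) (hadd : ∀ v w, f (v + w) = f v + f w) (v : V2) :
    f v = mat (f (1, 0)).1 (f (1, 0)).2 (f (0, 1)).1 (f (0, 1)).2 v := by
  have h0 : f 0 = 0 := by
    have h := hadd 0 0
    rw [add_zero] at h
    exact left_eq_add.1 h
  have key : ∀ (u : V2) (c : K4), f ((u.1 * c, u.2 * c) : V2) = ((f u).1 * c, (f u).2 * c) := by
    intro u c
    have e0 : ∀ u : V2, ((u.1 * 0, u.2 * 0) : V2) = 0 := by decide +kernel
    have e1 : ∀ u : V2, ((u.1 * 1, u.2 * 1) : V2) = u := by decide +kernel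
    have e2 : ∀ u : V2, ((u.1 * K4.w, u.2 * K4.w) : V2) = om u := by decide +kernel
    have e3 : ∀ u : V2, ((u.1 * (1 + K4.w), u.2 * (1 + K4.w)) : V2) = u + om u := by decide +kernel
    rcases tau_cases c with (rfl | rfl | rfl) | rfl
    · rw [e0, e0, h0]
    · rw [e1, e1]
    · rw [e2, e2, hf]
    · rw [e3, e3, hadd, hf]
  have hv : ∀ v : V2, v = ((1 * v.1, 0 * v.1) : V2) + ((0 * v.2, 1 * v.2) : V2) := by decide +kernel
  conv_lhs => rw [hv v, hadd]
  rw [key (1, 0) v.1, key (0, 1) v.2]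
  rfl

theorem low_of_involution : ∀ p q r s x : K4, (∀ v, mat p q r s (mat p q r s v) = v) →
    (∃ v, mat p q r s v ≠ v) → mat p q r s (x, 1) = (x, 1) →
    ∃ k : K4, k ≠ 0 ∧ ∀ v, tau x (mat p q r s (tau x v)) = low k v := by decide +kernel

theorem tau_of_involution : ∀ p q r s : K4, (∀ v, mat p q r s (mat p q r s v) = v) →
    mat p q r s (1, 0) = (1, 0) → ∃ β : K4, ∀ v, mat p q r s v = tau β v := by decide +kernel

theorem low_from_low : ∀ k β : K4, k ≠ 0 → ∃ k' γ : K4, ∀ v,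
    low k (tau k' (low k (tau γ (low k (tau k' (low k v)))))) = low β v := by decide +kernel

theorem shift_order_four : ∀ ν : K4, ν ≠ 0 →
    (∀ v, (fun u => tau 1 (low 1 (shift ν (low 1 (shift ν u)))))^[4] v = v) ∧
      ∃ v, (fun u => tau 1 (low 1 (shift ν (low 1 (shift ν u)))))^[2] v ≠ v := by decide +kernel

theorem semilinear_cases : ∀ a b c d : K4,
    (∀ β, ∃ β', ∀ x : V2, (fun x : V2 => ((if x.1 = 1 then a else if x.1 = K4.w then b else if x.1 = 0 then 0 else a + b,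
        if x.2 = 1 then c else if x.2 = K4.w then d else if x.2 = 0 then 0 else c + d) : V2)) (tau β x) =
      tau β' ((fun x : V2 => ((if x.1 = 1 then a else if x.1 = K4.w then b else if x.1 = 0 then 0 else a + b,
        if x.2 = 1 then c else if x.2 = K4.w then d else if x.2 = 0 then 0 else c + d) : V2)) x)) →
    a ≠ 0 → c ≠ 0 →
    (b = K4.w * a ∧ d = K4.w * c) ∨ ∃ β : K4,
      (∀ v, (fun x : V2 => (fun x : V2 => ((if x.1 = 1 then a else if x.1 = K4.w then b else if x.1 = 0 then 0 else a + b,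
        if x.2 = 1 then c else if x.2 = K4.w then d else if x.2 = 0 then 0 else c + d) : V2)) (tau β x))^[4] v = v) ∧
      ∃ v, (fun x : V2 => (fun x : V2 => ((if x.1 = 1 then a else if x.1 = K4.w then b else if x.1 = 0 then 0 else a + b,
        if x.2 = 1 then c else if x.2 = K4.w then d else if x.2 = 0 then 0 else c + d) : V2)) (tau β x))^[2] v ≠ v := by
  decide +kernel

theorem even_word : ∀ k : K4, k ≠ 0 →
    (k = 1 ∧ (∀ v, (fun u => tau K4.w (tau 1 (low k (tau K4.w (low K4.w (tau 1 (low k (low K4.w u))))))))^[2] v = v) ∧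
      ∃ v, tau K4.w (tau 1 (low k (tau K4.w (low K4.w (tau 1 (low k (low K4.w v))))))) ≠ v) ∨
    (k ≠ 1 ∧ (∀ v, (fun u => tau 1 (low k (tau 1 (low k (low 1 (low k (tau 1 (low 1 u))))))))^[2] v = v) ∧
      ∃ v, tau 1 (low k (tau 1 (low k (low 1 (low k (tau 1 (low 1 v))))))) ≠ v) := by decide +kernel

theorem tau_eq_add : ∀ (β : K4) (v : V2), tau β v = v + (v.2 * β, 0) := by decide +kernel

namespace Frm

variable {G : Type*} [Group G] (F : Frm G)

theorem mem_X_iff {f : Equiv.Perm V2} :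
    f ∈ F.X ↔ ∃ n ∈ Subgroup.normalizer (F.A : Set G), ∀ v, n * F.pA v * n⁻¹ = F.pA (f v) := by
  constructor
  · rintro ⟨⟨n, hn⟩, rfl⟩
    exact ⟨n, hn, fun v => (F.pA_act ⟨n, hn⟩ v).symm⟩
  · rintro ⟨n, hn, h⟩
    exact ⟨⟨n, hn⟩, Equiv.ext fun v => (F.act_eq_iff _ _ _).2 (h v)⟩

theorem shear_A (μ : K4) : (F.comp (H3.shear μ)).A = F.A := by
  ext x
  constructor
  · rintro ⟨h, hh, rfl⟩
    exact F.ι_mem_A.2 (by simpa using H3.mem_subA.1 hh)
  · rintro ⟨h, hh, rfl⟩
    refine ⟨(H3.shear μ).symm h, ?_, by simp⟩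
    have := H3.shear_b μ ((H3.shear μ).symm h)
    rw [MulEquiv.apply_symm_apply, H3.mem_subA.1 hh] at this
    exact this.symm

theorem pA_shear (μ : K4) (v : V2) : (F.comp (H3.shear μ)).pA v = F.pA (shift μ v) := by
  simp [pA, shift, H3.shear_inA]

theorem shear_B (μ : K4) : (F.comp (H3.shear μ)).B = F.B := by
  ext x
  constructor
  · rintro ⟨h, hh, rfl⟩
    exact F.ι_mem_B.2 (by simpa using H3.mem_subB.1 hh)
  · rintro ⟨h, hh, rfl⟩
    refine ⟨(H3.shear μ).symm h, ?_, by simp⟩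
    have := H3.shear_a μ ((H3.shear μ).symm h)
    rw [MulEquiv.apply_symm_apply, H3.mem_subB.1 hh] at this
    exact this.symm

theorem shear_Z (μ : K4) : (F.comp (H3.shear μ)).Z = F.Z := by
  rw [Z_eq, Z_eq, shear_A, shear_B]

theorem shear_small (μ : K4) : (F.comp (H3.shear μ)).Small ↔ F.Small := by
  rw [Small, Small, shear_A, shear_Z]

theorem mem_shear_X {μ : K4} {f : Equiv.Perm V2} : f ∈ (F.comp (H3.shear μ)).X ↔ csh μ f ∈ F.X := by
  rw [mem_X_iff, mem_X_iff, shear_A]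
  refine exists_congr fun n => and_congr_right fun _ => ?_
  simp only [pA_shear, csh, Equiv.Perm.mul_apply, shiftPerm_apply]
  constructor
  · intro h v
    have := h (shift μ v)
    rwa [shift_shift] at this
  · intro h v
    have := h (shift μ v)
    rwa [shift_shift] at this

/-- The permutation of a word. -/
noncomputable def runPerm (U₁ Uw : Equiv.Perm V2) : List ℕ → Equiv.Perm V2
  | [] => 1
  | i :: l =>
    (if i = 0 then tauPerm 1 else if i = 1 then tauPerm K4.w else if i = 2 then U₁ else Uw) * runPerm U₁ Uw l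

theorem runPerm_apply (U₁ Uw : Equiv.Perm V2) (l : List ℕ) (v : V2) :
    runPerm U₁ Uw l v = runMaps U₁ Uw l v := by
  induction l with
  | nil => rfl
  | cons i l ih =>
    simp only [runPerm, runMaps, Equiv.Perm.mul_apply, ih]
    split_ifs <;> rfl

theorem runPerm_mem {U₁ Uw : Equiv.Perm V2} (h1 : U₁ ∈ F.X) (hw : Uw ∈ F.X) (l : List ℕ) :
    runPerm U₁ Uw l ∈ F.X := by
  induction l with
  | nil => exact F.X.one_mem
  | cons i l ih =>
    refine F.X.mul_mem ?_ ih
    split_ifs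
    exacts [F.tauPerm_mem 1, F.tauPerm_mem _, h1, hw]

variable [Finite G]

/-- A map of `X` preserving the line of `Z` normalises `T0`. -/
theorem conj_tau_mem_T0 {g : Equiv.Perm V2} (hg : g ∈ F.X) (hp : ∀ c : K4, (g (c, 0)).2 = 0) (β : K4) :
    g * tauPerm β * g⁻¹ ∈ T0 := by
  set U := g * tauPerm β * g⁻¹
  have hU : U ∈ F.X := F.X.mul_mem (F.X.mul_mem hg (F.tauPerm_mem β)) (F.X.inv_mem hg)
  have hU2 : U * U = 1 := by
    calc U * U = g * (tauPerm β * tauPerm β) * g⁻¹ := by simp only [U]; group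
      _ = 1 := by rw [T0_sq ⟨β, rfl⟩]; group
  -- `g` maps the line onto itself
  have hp' : ∀ c : K4, (g⁻¹ (c, 0)).2 = 0 := by
    let m : K4 → K4 := fun c => (g (c, 0)).1
    have hm : Function.Injective m := fun c d h => by
      have : g (c, 0) = g (d, 0) := Prod.ext h ((hp c).trans (hp d).symm)
      exact congrArg Prod.fst (g.injective this)
    intro c
    obtain ⟨d, hd⟩ := (Finite.injective_iff_surjective.1 hm) c
    rw [show ((c, 0) : V2) = g (d, 0) from Prod.ext hd.symm (hp d).symm, pinv_apply]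
  have hfix : ∀ c : K4, U (c, 0) = (c, 0) := fun c => by
    simp only [U, Equiv.Perm.mul_apply, tauPerm_apply]
    have e : g⁻¹ (c, 0) = ((g⁻¹ (c, 0)).1, 0) := Prod.ext rfl (hp' c)
    rw [e, tau_eq_add]
    simp only [zero_mul, Prod.mk_zero_zero, add_zero]
    rw [← e, papply_inv]
  have hsnd : ∀ v, (U v).2 = v.2 := fun v => by
    simp only [U, Equiv.Perm.mul_apply, tauPerm_apply]
    rw [tau_eq_add, F.X_add hg, papply_inv, Prod.snd_add, hp, add_zero]
  refine F.mem_tau_of_commute hU hU2 fun γ => Equiv.ext fun v => ?_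
  simp only [Equiv.Perm.mul_apply, tauPerm_apply]
  rw [tau_eq_add γ v, F.X_add hU, hfix, tau_eq_add γ (U v), hsnd]

/-- One coordinate system for each conjugate of `T0`. -/
theorem exists_shift {g : Equiv.Perm V2} (hg : g ∈ F.X) :
    ∃ μ : K4, Lin (csh μ (g * tauPerm 1 * g⁻¹)) ∧ Lin (csh μ (g * tauPerm K4.w * g⁻¹)) := by
  have hU : ∀ β, g * tauPerm β * g⁻¹ ∈ F.X := fun β =>
    F.X.mul_mem (F.X.mul_mem hg (F.tauPerm_mem β)) (F.X.inv_mem hg)
  rcases dichotomy g (g * tauPerm 1 * g⁻¹ : Equiv.Perm V2) (g * tauPerm K4.w * g⁻¹ : Equiv.Perm V2)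
      g.bijective (F.X_add hg) (fun v => by simp) (fun v => by simp) with h | ⟨hc1, hcw, hne⟩ | ⟨l, -, hne, h4⟩
  · obtain ⟨μ, h1, hw⟩ := h
    exact ⟨μ, h1, hw⟩
  · exfalso
    have hc : ∀ β, g * tauPerm 1 * g⁻¹ * tauPerm β = tauPerm β * (g * tauPerm 1 * g⁻¹) := by
      intro β
      have e1 : g * tauPerm 1 * g⁻¹ * tauPerm 1 = tauPerm 1 * (g * tauPerm 1 * g⁻¹) := Equiv.ext hc1
      have ew : g * tauPerm 1 * g⁻¹ * tauPerm K4.w = tauPerm K4.w * (g * tauPerm 1 * g⁻¹) := Equiv.ext hcw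
      rcases tau_cases β with (rfl | rfl | rfl) | rfl
      · rw [tauPerm_zero, mul_one, one_mul]
      · exact e1
      · exact ew
      · rw [← tauPerm_mul, ← mul_assoc, e1, mul_assoc, ew, ← mul_assoc]
    obtain ⟨β, hβ⟩ := F.mem_tau_of_commute (hU 1) (by
      calc g * tauPerm 1 * g⁻¹ * (g * tauPerm 1 * g⁻¹) = g * (tauPerm 1 * tauPerm 1) * g⁻¹ := by group
        _ = 1 := by rw [T0_sq ⟨1, rfl⟩]; group) hc
    obtain ⟨v, hv⟩ := hne β
    exact hv (DFunLike.congr_fun hβ.symm v)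
  · exfalso
    set w := runPerm (g * tauPerm 1 * g⁻¹) (g * tauPerm K4.w * g⁻¹) l with hwdef
    have hw : ∀ v, w v = runMaps _ _ l v := runPerm_apply _ _ l
    have := F.sq_eq_one_of_four (F.runPerm_mem (hU 1) (hU K4.w) l) (Equiv.ext fun v => by
      rw [pow_succ, pow_succ, pow_succ, pow_one]
      simp only [Equiv.Perm.mul_apply, Equiv.Perm.one_apply, ← hwdef, hw, h4])
    obtain ⟨v, hv⟩ := hne
    apply hv
    have e := DFunLike.congr_fun this v
    simp only [Equiv.Perm.mul_apply, Equiv.Perm.one_apply, ← hwdef, hw] at e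
    exact e

/-- All conjugates of the upper transvections are linear. -/
def Semi : Prop := ∀ g ∈ F.X, ∀ β, Lin (g * tauPerm β * g⁻¹)

theorem low_mem_of_lin {g : Equiv.Perm V2} (hg : g ∈ F.X) (hmv : ∃ c : K4, (g (c, 0)).2 ≠ 0)
    (hl : Lin (g * tauPerm 1 * g⁻¹)) : ∀ k, lowPerm k ∈ F.X := by
  set U := g * tauPerm 1 * g⁻¹ with hUdef
  have hU : U ∈ F.X := F.X.mul_mem (F.X.mul_mem hg (F.tauPerm_mem 1)) (F.X.inv_mem hg)
  have hmk := hl.eq_mk (F.X_add hU)
  obtain ⟨c, hc⟩ := hmv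
  set a := g (c, 0)
  have ha : U a = a := by
    have e : ∀ c : K4, tau 1 (c, 0) = (c, 0) := by decide
    simp [U, a, e]
  have hax : ∀ a : V2, a.2 ≠ 0 → ∀ p q r s : K4, mat p q r s a = a → ∃ x : K4, mat p q r s (x, 1) = (x, 1) := by
    decide +kernel
  rw [hmk] at ha
  obtain ⟨x, hx⟩ := hax a hc _ _ _ _ ha
  obtain ⟨k, hk, hkv⟩ := low_of_involution _ _ _ _ x (fun v => by
    rw [← hmk, ← hmk]; simp [U, tau_tau, H3.add_self, tau_zero]) (by
    refine ⟨g (0, 1), fun h => ?_⟩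
    rw [← hmk] at h
    have e : tau 1 ((0, 1) : V2) ≠ (0, 1) := by decide
    exact e (g.injective (by simpa [U] using h))) hx
  have hlk : lowPerm k ∈ F.X := by
    have e : lowPerm k = tauPerm x * U * tauPerm x := Equiv.ext fun v => by
      simp only [Equiv.Perm.mul_apply, tauPerm_apply, lowPerm_apply]
      rw [hmk (tau x v), hkv]
    rw [e]
    exact F.X.mul_mem (F.X.mul_mem (F.tauPerm_mem x) hU) (F.tauPerm_mem x)
  intro β
  obtain ⟨k', γ, h⟩ := low_from_low k β hk
  have e : lowPerm β =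
      lowPerm k * (tauPerm k' * (lowPerm k * (tauPerm γ * (lowPerm k * (tauPerm k' * lowPerm k))))) :=
    Equiv.ext fun v => (h v).symm
  rw [e]
  exact F.X.mul_mem hlk (F.X.mul_mem (F.tauPerm_mem _) (F.X.mul_mem hlk (F.X.mul_mem (F.tauPerm_mem _)
    (F.X.mul_mem hlk (F.X.mul_mem (F.tauPerm_mem _) hlk)))))

omit [Finite G] in
theorem lin_conj_tau {μ : K4} {g : Equiv.Perm V2} (h1 : Lin (csh μ (g * tauPerm 1 * g⁻¹)))
    (hw : Lin (csh μ (g * tauPerm K4.w * g⁻¹))) (β : K4) : Lin (csh μ (g * tauPerm β * g⁻¹)) := by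
  rcases tau_cases β with (rfl | rfl | rfl) | rfl
  · rw [tauPerm_zero, mul_one, mul_inv_cancel, ← tauPerm_zero, csh_tau]
    exact lin_tauPerm 0
  · exact h1
  · exact hw
  · rw [show g * tauPerm (1 + K4.w) * g⁻¹ = (g * tauPerm 1 * g⁻¹) * (g * tauPerm K4.w * g⁻¹) by
      rw [← tauPerm_mul]; group, csh_mul]
    exact h1.mul hw

theorem low_of_moves {g : Equiv.Perm V2} (hg : g ∈ F.X) (hmv : ∃ c : K4, (g (c, 0)).2 ≠ 0) :
    ∃ μ : K4, (∀ β, Lin (csh μ (g * tauPerm β * g⁻¹))) ∧ csh μ (lowPerm 1) ∈ F.X := by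
  obtain ⟨μ, h1, hw⟩ := F.exists_shift hg
  refine ⟨μ, lin_conj_tau h1 hw, ?_⟩
  rw [← F.mem_shear_X]
  refine (F.comp (H3.shear μ)).low_mem_of_lin (g := csh μ g) ?_ ?_ ?_ 1
  · rw [F.mem_shear_X, csh_csh]; exact hg
  · obtain ⟨c, hc⟩ := hmv
    refine ⟨c, ?_⟩
    have e1 : ∀ μ c : K4, shift μ (c, 0) = (c, 0) := by decide
    have e2 : ∀ (μ : K4) (v : V2), (shift μ v).2 = v.2 := fun _ _ => rfl
    simpa [csh, e1, e2] using hc
  · rw [← csh_tau μ, ← csh_inv, ← csh_mul, ← csh_mul]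
    exact h1

theorem low_unique {μ ν : K4} (hμ : csh μ (lowPerm 1) ∈ F.X) (hν : csh ν (lowPerm 1) ∈ F.X) : μ = ν := by
  by_contra hne
  set F' := F.comp (H3.shear μ)
  have h1 : lowPerm 1 ∈ F'.X := by rw [F.mem_shear_X]; exact hμ
  have hd : ∀ μ ν : K4, ∀ v : V2, shift μ (shift ν v) = shift (μ + ν) v := by decide +kernel
  have h2 : csh (μ + ν) (lowPerm 1) ∈ F'.X := by
    rw [F.mem_shear_X]
    convert hν using 1
    refine Equiv.ext fun v => ?_
    simp only [csh, Equiv.Perm.mul_apply, shiftPerm_apply, hd, lowPerm_apply]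
    rw [show μ + (μ + ν) = ν by rw [← add_assoc, H3.add_self, zero_add],
      show μ + ν + μ = ν by rw [add_comm μ ν, add_assoc, H3.add_self, add_zero]]
  obtain ⟨h4, v, hv⟩ := shift_order_four (μ + ν) fun h => hne (by
    calc μ = μ + (μ + ν) := by rw [h, add_zero]
      _ = ν := by rw [← add_assoc, H3.add_self, zero_add])
  set w := tauPerm 1 * lowPerm 1 * csh (μ + ν) (lowPerm 1) with hw
  have hwX : w ∈ F'.X := F'.X.mul_mem (F'.X.mul_mem (F'.tauPerm_mem 1) h1) h2
  have happ : ∀ u, w u = tau 1 (low 1 (shift (μ + ν) (low 1 (shift (μ + ν) u)))) := fun u => rfl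
  have h := F'.sq_eq_one_of_four hwX (Equiv.ext fun u => by
    have := h4 u
    rw [pow_succ, pow_succ, pow_succ, pow_one]
    simp only [Equiv.Perm.mul_apply, Equiv.Perm.one_apply, happ]
    exact this)
  apply hv
  have := DFunLike.congr_fun h v
  simp only [Equiv.Perm.mul_apply, Equiv.Perm.one_apply, happ] at this
  exact this

/-- Linear action with both groups of transvections. -/
structure Lined : Prop where
  lin : ∀ f ∈ F.X, Lin f
  low_mem : ∀ k, lowPerm k ∈ F.X

theorem lin_of_semi (hs : F.Semi) (hlow : ∀ k, lowPerm k ∈ F.X) : ∀ g ∈ F.X, Lin g := by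
  -- conjugates of the lower transvections
  have hsl : ∀ g ∈ F.X, ∀ k, Lin (g * lowPerm k * g⁻¹) := by
    intro g hg k
    have key : ∀ k : K4, ∀ v : V2, low 1 (tau 1 (low 1 (tau k (low 1 (tau 1 (low 1 v)))))) = low k v := by
      decide +kernel
    have hsw : lowPerm 1 * tauPerm 1 * lowPerm 1 ∈ F.X :=
      F.X.mul_mem (F.X.mul_mem (hlow 1) (F.tauPerm_mem 1)) (hlow 1)
    have e := hs (g * (lowPerm 1 * tauPerm 1 * lowPerm 1)) (F.X.mul_mem hg hsw) k
    have hl : lowPerm 1 * lowPerm 1 = 1 := Equiv.ext (low_low 1)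
    have hi : (lowPerm 1 * tauPerm 1 * lowPerm 1)⁻¹ = lowPerm 1 * tauPerm 1 * lowPerm 1 := by
      rw [mul_inv_rev, mul_inv_rev, inv_eq_of_mul_eq_one_right hl,
        inv_eq_of_mul_eq_one_right (T0_sq ⟨1, rfl⟩), mul_assoc]
    rw [mul_inv_rev, hi] at e
    convert e using 1
    refine Equiv.ext fun v => ?_
    simp only [Equiv.Perm.mul_apply, lowPerm_apply, tauPerm_apply, key]
  -- normalised maps
  have hnorm : ∀ g ∈ F.X, (∀ c : K4, (g (c, 0)).2 = 0) → (∀ a : K4, (g (0, a)).1 = 0) → Lin g := by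
    intro g hg hC hD
    have hadd := F.X_add hg
    have hg0 := F.X_zero hg
    have hform : ∀ x : V2, g x =
        ((if x.1 = 1 then (g (1, 0)).1 else if x.1 = K4.w then (g (K4.w, 0)).1 else if x.1 = 0 then 0
            else (g (1, 0)).1 + (g (K4.w, 0)).1,
          if x.2 = 1 then (g (0, 1)).2 else if x.2 = K4.w then (g (0, K4.w)).2 else if x.2 = 0 then 0
            else (g (0, 1)).2 + (g (0, K4.w)).2) : V2) := by
      intro x
      have hd : ∀ x : V2, x = ((x.1, 0) : V2) + (0, x.2) := by decide +kernel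
      have e : g x = ((g (x.1, 0)).1, (g (0, x.2)).2) := by
        conv_lhs => rw [hd x, hadd]
        exact Prod.ext (by rw [Prod.fst_add, hD, add_zero]) (by rw [Prod.snd_add, hC, zero_add])
      rw [e]
      have h3 : ((1 + K4.w, 0) : V2) = (1, 0) + (K4.w, 0) := by decide
      have h4 : ((0, 1 + K4.w) : V2) = (0, 1) + (0, K4.w) := by decide
      have n1 : (1 : K4) + K4.w ≠ 1 := by decide
      have n2 : (1 : K4) + K4.w ≠ K4.w := by decide
      have n3 : (1 : K4) + K4.w ≠ 0 := by decide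
      have n4 : (K4.w : K4) ≠ 1 := by decide
      have n5 : (0 : K4) ≠ 1 := by decide
      have n6 : (0 : K4) ≠ K4.w := by decide
      refine Prod.ext ?_ ?_
      · simp only
        rcases tau_cases x.1 with (h | h | h) | h
        · rw [h, if_neg n5, if_neg n6, if_pos rfl, show ((0, 0) : V2) = 0 from rfl, hg0]
          rfl
        · rw [h, if_pos rfl]
        · rw [h, if_neg n4, if_pos rfl]
        · rw [h, if_neg n1, if_neg n2, if_neg n3, h3, hadd, Prod.fst_add]
      · simp only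
        rcases tau_cases x.2 with (h | h | h) | h
        · rw [h, if_neg n5, if_neg n6, if_pos rfl, show ((0, 0) : V2) = 0 from rfl, hg0]
          rfl
        · rw [h, if_pos rfl]
        · rw [h, if_neg n4, if_pos rfl]
        · rw [h, if_neg n1, if_neg n2, if_neg n3, h4, hadd, Prod.snd_add]
    have hβ : ∀ β, ∃ β', ∀ x, g (tau β x) = tau β' (g x) := by
      intro β
      obtain ⟨β', h⟩ := F.conj_tau_mem_T0 hg hC β
      refine ⟨β', fun x => ?_⟩
      have := DFunLike.congr_fun h (g x)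
      simpa using this.symm
    have ha : (g (1, 0)).1 ≠ 0 := fun h => by
      have : g (1, 0) = g 0 := by rw [hg0]; exact Prod.ext h (hC 1)
      exact absurd (g.injective this) (by decide)
    have hc : (g (0, 1)).2 ≠ 0 := fun h => by
      have : g (0, 1) = g 0 := by rw [hg0]; exact Prod.ext (hD 1) h
      exact absurd (g.injective this) (by decide)
    rcases semilinear_cases (g (1, 0)).1 (g (K4.w, 0)).1 (g (0, 1)).2 (g (0, K4.w)).2 (fun β => by
      obtain ⟨β', h⟩ := hβ β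
      exact ⟨β', fun x => by simp only; rw [← hform, ← hform]; exact h x⟩) ha hc with ⟨hb, hd⟩ | ⟨β, h4, v, hv⟩
    · have key : ∀ a c : K4, ∀ x : V2,
          (fun x : V2 => ((if x.1 = 1 then a else if x.1 = K4.w then K4.w * a else if x.1 = 0 then 0 else a + K4.w * a,
            if x.2 = 1 then c else if x.2 = K4.w then K4.w * c else if x.2 = 0 then 0 else c + K4.w * c) : V2))
              (om x) =
          om ((fun x : V2 => ((if x.1 = 1 then a else if x.1 = K4.w then K4.w * a else if x.1 = 0 then 0 else a + K4.w * a,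
            if x.2 = 1 then c else if x.2 = K4.w then K4.w * c else if x.2 = 0 then 0 else c + K4.w * c) : V2)) x) := by
        decide +kernel
      intro x
      rw [hform, hform x, hb, hd]
      exact key _ _ x
    · exfalso
      simp only [← hform] at h4 hv
      set w := g * tauPerm β with hw
      have happ : ∀ u, w u = g (tau β u) := fun u => rfl
      have h := F.sq_eq_one_of_four (F.X.mul_mem hg (F.tauPerm_mem β)) (Equiv.ext fun u => by
        have := h4 u
        rw [← hw, pow_succ, pow_succ, pow_succ, pow_one]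
        simp only [Equiv.Perm.mul_apply, Equiv.Perm.one_apply, happ]
        exact this)
      apply hv
      have := DFunLike.congr_fun h v
      simp only [Equiv.Perm.mul_apply, Equiv.Perm.one_apply, tauPerm_apply] at this
      exact this
  intro g hg
  -- a linear map fixing the line of `Z`
  have step1 : ∀ g ∈ F.X, ∃ s ∈ F.X, Lin s ∧ ∀ c : K4, ((s * g) (c, 0)).2 = 0 := by
    intro g hg
    by_cases hp : ∀ c : K4, (g (c, 0)).2 = 0
    · exact ⟨1, F.X.one_mem, fun _ => rfl, hp⟩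
    · push_neg at hp
      obtain ⟨c₀, hc₀⟩ := hp
      have hU : g * tauPerm 1 * g⁻¹ ∈ F.X :=
        F.X.mul_mem (F.X.mul_mem hg (F.tauPerm_mem 1)) (F.X.inv_mem hg)
      have hmk := (hs g hg 1).eq_mk (F.X_add hU)
      have hfix : ∀ c : K4, (g * tauPerm 1 * g⁻¹) (g (c, 0)) = g (c, 0) := fun c => by
        have e : ∀ c : K4, tau 1 (c, 0) = (c, 0) := by decide
        simp [e]
      have key : ∀ a : V2, a.2 ≠ 0 → ∀ p q r s : K4, mat p q r s a = a → (∃ v, mat p q r s v ≠ v) →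
          ∀ b : V2, mat p q r s b = b → b.1 * a.2 = a.1 * b.2 := by decide +kernel
      have hx : ∀ a : V2, a.2 ≠ 0 → ∃ x : K4, ∀ b : V2, b.1 * a.2 = a.1 * b.2 →
          (low 1 (tau 1 (low 1 (tau x b)))).2 = 0 := by decide +kernel
      obtain ⟨x, hx⟩ := hx _ hc₀
      refine ⟨lowPerm 1 * tauPerm 1 * lowPerm 1 * tauPerm x,
        F.X.mul_mem (F.X.mul_mem (F.X.mul_mem (hlow 1) (F.tauPerm_mem 1)) (hlow 1)) (F.tauPerm_mem x),
        (((lin_lowPerm 1).mul (lin_tauPerm 1)).mul (lin_lowPerm 1)).mul (lin_tauPerm x), fun c => ?_⟩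
      refine hx _ (key _ hc₀ _ _ _ _ ((hmk _).symm.trans (hfix c₀)) ?_ _ ((hmk _).symm.trans (hfix c)))
      refine ⟨g (0, 1), fun h => ?_⟩
      rw [← hmk] at h
      have e : tau 1 ((0, 1) : V2) ≠ (0, 1) := by decide
      exact e (g.injective (by simpa using h))
  obtain ⟨s, hsX, hslin, hsC⟩ := step1 g hg
  set h := s * g with hh
  have hhX : h ∈ F.X := F.X.mul_mem hsX hg
  -- a linear map fixing the other line
  obtain ⟨x, hxC, hxD⟩ : ∃ x : K4, (∀ c : K4, ((tauPerm x * h) (c, 0)).2 = 0) ∧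
      ∀ a : K4, ((tauPerm x * h) (0, a)).1 = 0 := by
    have hU : h * lowPerm 1 * h⁻¹ ∈ F.X :=
      F.X.mul_mem (F.X.mul_mem hhX (hlow 1)) (F.X.inv_mem hhX)
    have hmk := (hsl h hhX 1).eq_mk (F.X_add hU)
    have hfix : ∀ a : K4, (h * lowPerm 1 * h⁻¹) (h (0, a)) = h (0, a) := fun a => by
      have e : ∀ a : K4, low 1 (0, a) = (0, a) := by decide
      simp [e]
    have h01 : (h (0, 1)).2 ≠ 0 := by
      intro h0
      let m : K4 → K4 := fun c => (h (c, 0)).1
      have hm : Function.Injective m := fun c d e =>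
        congrArg Prod.fst (h.injective (Prod.ext e ((hsC c).trans (hsC d).symm)))
      obtain ⟨d, hd⟩ := (Finite.injective_iff_surjective.1 hm) (h (0, 1)).1
      have : h (d, 0) = h (0, 1) := Prod.ext hd ((hsC d).trans h0.symm)
      exact absurd (congrArg Prod.snd (h.injective this)) (by simp)
    have key : ∀ a : V2, a.2 ≠ 0 → ∀ p q r s : K4, mat p q r s a = a → (∃ v, mat p q r s v ≠ v) →
        ∀ b : V2, mat p q r s b = b → b.1 * a.2 = a.1 * b.2 := by decide +kernel
    have hx : ∀ a : V2, a.2 ≠ 0 → ∃ x : K4, ∀ b : V2, b.1 * a.2 = a.1 * b.2 → (tau x b).1 = 0 := by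
      decide +kernel
    obtain ⟨x, hx⟩ := hx _ h01
    refine ⟨x, fun c => ?_, fun a => ?_⟩
    · show (tau x (h (c, 0))).2 = 0
      exact hsC c
    · refine hx _ (key _ h01 _ _ _ _ ((hmk _).symm.trans (hfix 1)) ?_ _ ((hmk _).symm.trans (hfix a)))
      refine ⟨h (1, 0), fun e => ?_⟩
      rw [← hmk] at e
      have ne : low 1 ((1, 0) : V2) ≠ (1, 0) := by decide
      exact ne (h.injective (by simpa using e))
  have hlin := hnorm _ (F.X.mul_mem (F.tauPerm_mem x) hhX) hxC hxD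
  have : g = s⁻¹ * ((tauPerm x)⁻¹ * (tauPerm x * h)) := by rw [hh]; group
  rw [this]
  exact hslin.inv.mul ((lin_tauPerm x).inv.mul hlin)

/-- If `F` is not small then `X` is linear after a shear. -/
theorem exists_linear (h : ¬ F.Small) :
    ∃ μ : K4, ¬ (F.comp (H3.shear μ)).Small ∧ (F.comp (H3.shear μ)).Lined := by
  obtain ⟨g₀, hg₀, hmv₀⟩ := F.exists_moves h
  obtain ⟨μ, hlin₀, hlowμ⟩ := F.low_of_moves hg₀ hmv₀
  have hsemi : (F.comp (H3.shear μ)).Semi := by
    intro g hg β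
    have hgX := F.mem_shear_X.1 hg
    have e : g * tauPerm β * g⁻¹ = csh μ (csh μ g * tauPerm β * (csh μ g)⁻¹) := by
      rw [csh_mul, csh_mul, csh_inv, csh_csh, csh_tau]
    rw [e]
    by_cases hp : ∀ c : K4, (csh μ g (c, 0)).2 = 0
    · obtain ⟨γ, hγ⟩ := F.conj_tau_mem_T0 hgX hp β
      rw [← hγ, csh_tau]
      exact lin_tauPerm γ
    · push_neg at hp
      obtain ⟨ν, hlν, hlowν⟩ := F.low_of_moves hgX hp
      have hμν := F.low_unique hlowμ hlowν
      subst hμν
      exact hlν β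
  have hlow : ∀ k, lowPerm k ∈ (F.comp (H3.shear μ)).X := by
    obtain ⟨c, hc⟩ := hmv₀
    refine (F.comp (H3.shear μ)).low_mem_of_lin (g := csh μ g₀) ?_ ⟨c, ?_⟩ ?_
    · rw [F.mem_shear_X, csh_csh]; exact hg₀
    · have e1 : ∀ μ c : K4, shift μ (c, 0) = (c, 0) := by decide
      have e2 : ∀ (μ : K4) (v : V2), (shift μ v).2 = v.2 := fun _ _ => rfl
      simpa [csh, e1, e2] using hc
    · rw [← csh_tau μ, ← csh_inv, ← csh_mul, ← csh_mul]
      exact hlin₀ 1
  exact ⟨μ, by rwa [F.shear_small], (F.comp (H3.shear μ)).lin_of_semi hsemi hlow, hlow⟩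

variable {F}

theorem Lined.trans (hl : F.Lined) {v : V2} (hv : v ≠ 0) : ∃ f ∈ F.X, f (1, 0) = v := by
  have key : ∀ v : V2, v ≠ 0 → ∃ k β k' : K4, low k' (tau β (low k (1, 0))) = v := by decide +kernel
  obtain ⟨k, β, k', h⟩ := key v hv
  exact ⟨lowPerm k' * (tauPerm β * lowPerm k),
    F.X.mul_mem (hl.low_mem _) (F.X.mul_mem (F.tauPerm_mem _) (hl.low_mem _)), h⟩

theorem Lined.stab (hl : F.Lined) {f : Equiv.Perm V2} (hf : f ∈ F.X) (h : (f (1, 0)).2 = 0) (c : K4) :
    (f (c, 0)).2 = 0 := by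
  rw [(hl.lin f hf).eq_mk (F.X_add hf), mat, h]
  simp

/-- Odd normal subgroups of `X` fix the line of `Z`. -/
theorem Lined.odd_normal (hl : F.Lined) {Y : Subgroup (Equiv.Perm V2)} (hY : Y ≤ F.X)
    (hn : ∀ x ∈ F.X, ∀ y ∈ Y, x * y * x⁻¹ ∈ Y) (hodd : Odd (Nat.card Y)) {y : Equiv.Perm V2}
    (hy : y ∈ Y) (c : K4) : (y (c, 0)).2 = 0 := by
  by_contra hc
  have hyX := hY hy
  set U := y * tauPerm 1 * y⁻¹ with hUdef
  have hU : U ∈ F.X := F.X.mul_mem (F.X.mul_mem hyX (F.tauPerm_mem 1)) (F.X.inv_mem hyX)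
  have hmk := (hl.lin U hU).eq_mk (F.X_add hU)
  have hfixy : U (y (c, 0)) = y (c, 0) := by
    have e : ∀ c : K4, tau 1 (c, 0) = (c, 0) := by decide
    simp [U, e]
  have hax : ∀ a : V2, a.2 ≠ 0 → ∀ p q r s : K4, mat p q r s a = a → ∃ x : K4, mat p q r s (x, 1) = (x, 1) := by
    decide +kernel
  rw [hmk] at hfixy
  obtain ⟨x, hx⟩ := hax _ hc _ _ _ _ hfixy
  obtain ⟨k, hk, hkv⟩ := low_of_involution _ _ _ _ x (fun v => by
    rw [← hmk, ← hmk]; simp [U, tau_tau, H3.add_self, tau_zero]) (by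
    refine ⟨y (0, 1), fun h => ?_⟩
    rw [← hmk] at h
    have e : tau 1 ((0, 1) : V2) ≠ (0, 1) := by decide
    exact e (y.injective (by simpa [U] using h))) hx
  have e1 : tauPerm 1 * lowPerm k =
      tauPerm x * (tauPerm 1 * y * (tauPerm 1)⁻¹ * y⁻¹) * (tauPerm x)⁻¹ := by
    rw [inv_eq_of_mul_eq_one_right (T0_sq ⟨x, rfl⟩), inv_eq_of_mul_eq_one_right (T0_sq ⟨1, rfl⟩)]
    refine Equiv.ext fun v => ?_
    simp only [Equiv.Perm.mul_apply, tauPerm_apply, lowPerm_apply]
    rw [← hkv, ← hmk, tau_tau, add_comm, ← tau_tau]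
    simp [U]
  have he : tauPerm 1 * lowPerm k ∈ Y := by
    rw [e1]
    exact hn _ (F.tauPerm_mem x) _ (Y.mul_mem (hn _ (F.tauPerm_mem 1) _ hy) (Y.inv_mem hy))
  have hll : ∀ a : K4, (lowPerm a)⁻¹ = lowPerm a := fun a =>
    inv_eq_of_mul_eq_one_right (Equiv.ext (low_low a))
  have htt : ∀ a : K4, (tauPerm a)⁻¹ = tauPerm a := fun a =>
    inv_eq_of_mul_eq_one_right (T0_sq ⟨a, rfl⟩)
  have hinv : lowPerm k * tauPerm 1 ∈ Y := by
    have := Y.inv_mem he
    rwa [mul_inv_rev, hll, htt] at this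
  have hct : ∀ a : K4, ∀ z ∈ Y, tauPerm a * z * tauPerm a ∈ Y := fun a z hz => by
    have := hn _ (F.tauPerm_mem a) z hz
    rwa [htt] at this
  have hcl : ∀ a : K4, ∀ z ∈ Y, lowPerm a * z * lowPerm a ∈ Y := fun a z hz => by
    have := hn _ (hl.low_mem a) z hz
    rwa [hll] at this
  -- no element of order two
  have hno : ∀ z ∈ Y, z * z = 1 → z = 1 := fun z hz h2 => by
    have h : orderOf (⟨z, hz⟩ : Y) ∣ Nat.gcd 2 (Nat.card Y) :=
      Nat.dvd_gcd (orderOf_dvd_of_pow_eq_one (Subtype.ext (by simpa [pow_two] using h2))) (orderOf_dvd_natCard _)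
    rw [(Nat.coprime_two_left.2 hodd).gcd_eq_one, Nat.dvd_one, orderOf_eq_one_iff] at h
    exact congrArg Subtype.val h
  rcases even_word k hk with ⟨-, h2, v, hv⟩ | ⟨-, h2, v, hv⟩
  · have hm : tauPerm K4.w * (tauPerm 1 * lowPerm k) * tauPerm K4.w *
        (lowPerm K4.w * (tauPerm 1 * lowPerm k) * lowPerm K4.w) ∈ Y :=
      Y.mul_mem (hct _ _ he) (hcl _ _ he)
    exact hv (DFunLike.congr_fun (hno _ hm (Equiv.ext h2)) v)
  · have hm : (tauPerm 1 * lowPerm k) * (tauPerm 1 * lowPerm k) *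
        (lowPerm 1 * (lowPerm k * tauPerm 1) * lowPerm 1) ∈ Y :=
      Y.mul_mem (Y.mul_mem he he) (hcl _ _ hinv)
    exact hv (DFunLike.congr_fun (hno _ hm (Equiv.ext h2)) v)

end Frm

end Cfsg.Agent.L34Sylow
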