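import Cfsg.Agent.EqLemmas
import Cfsg.Agent.Lib.L34Sylow.Linear
import Cfsg.Agent.Lib.L34Sylow.Minimal
import Cfsg.Agent.Lib.Goldschmidt.General.Final
import Cfsg.Agent.Lib.Goldschmidt.ThreeInv.Main

/-!
# `A` not small (S3198)

* `Frm.exists_commutator` : a noncentral element of `S` has a nontrivial commutator in `Z`
* `Frm.exists_conj_of_big`, `Frm.false_of_odd_moves` : transitivity on `A`, no odd part moving `Z`
* `Frm.simple_of_big` : a nonabelian minimal normal subgroup is simple and contains `A`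
* `Frm.normal_of_big_small` : if only `A` is not small then `A` is normal and self-centralising
* `Frm.simple_of_big_big` : if neither is small, `S` lies in a simple normal subgroup with trivial centraliser
-/

set_option autoImplicit false

open Cfsg

namespace Cfsg.Agent.L34Sylow

open Cfsg.Agent.SU32 (K4)

universe u

namespace Frm

variable {G : Type u} [Group G] (F : Frm G)

theorem exists_commutator {x : G} (hx : x ∈ (F.S : Subgroup G)) (hxZ : x ∉ F.Z) :
    ∃ s ∈ (F.S : Subgroup G), x * s * x⁻¹ * s⁻¹ ≠ 1 ∧ x * s * x⁻¹ * s⁻¹ ∈ F.Z := by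
  obtain ⟨h, rfl⟩ := F.mem_S.1 hx
  obtain ⟨k, hk⟩ : ∃ k : H3, h * k ≠ k * h := by
    by_contra hcon
    push Not at hcon
    refine hxZ (F.ι_mem_Z.2 ?_)
    have h1 := (H3.mem_center_iff h).1 (Subgroup.mem_center_iff.2 fun k => (hcon k).symm)
    exact ⟨h1.2, h1.1⟩
  refine ⟨F.ι k, F.ι_mem k, ?_, ?_⟩
  · rw [← map_mul, ← map_inv, ← map_mul, ← map_inv, ← map_mul, ← map_one F.ι]
    intro e
    have e' := F.inj e
    rw [mul_inv_eq_one, mul_inv_eq_iff_eq_mul] at e'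
    exact hk e'
  · rw [← map_mul, ← map_inv, ← map_mul, ← map_inv, ← map_mul]
    refine F.ι_mem_Z.2 ⟨?_, ?_⟩
    · simp only [H3.mul_b, H3.inv_b]
      rw [show h.b + k.b + h.b + k.b = (h.b + h.b) + (k.b + k.b) by ring, H3.add_self, H3.add_self, add_zero]
    · simp only [H3.mul_a, H3.inv_a]
      rw [show h.a + k.a + h.a + k.a = (h.a + h.a) + (k.a + k.a) by ring, H3.add_self, H3.add_self, add_zero]

theorem mem_A_of_forall_comm {s : G} (hs : s ∈ (F.S : Subgroup G)) (h : ∀ a ∈ F.A, s * a = a * s) : s ∈ F.A :=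
  F.mem_A_of_comm (F.pA_mem (0, 1)) (fun hz => one_ne_zero (F.pA_mem_Z.1 hz)) hs (h _ (F.pA_mem _))

theorem A_not_le_B : ¬ F.A ≤ F.B := fun h => by
  have h4 := F.card_Z
  rw [F.Z_eq, inf_eq_left.2 h, F.card_A] at h4
  omega

theorem exists_normal_mem_Z [Finite G] (hO : Cfsg.oddCore G = ⊥) {N : Subgroup G} (hN : N.Normal)
    (h : N ≠ ⊥) : ∃ z ∈ F.Z, z ≠ 1 ∧ z ∈ N := by
  obtain ⟨t, ht, ht2⟩ := exists_involution_of_normal hO hN h
  obtain ⟨g, hg⟩ := Involution.exists_conj_mem_sylow F.S ht2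
  have hgN := hN.conj_mem t ht g
  by_cases hZ : g * t * g⁻¹ ∈ F.Z
  · exact ⟨_, hZ, Involution.ne_one (by rw [Involution.orderOf_conj]; exact ht2), hgN⟩
  obtain ⟨s, -, h1, h2⟩ := F.exists_commutator hg hZ
  refine ⟨_, h2, h1, ?_⟩
  rw [show g * t * g⁻¹ * s * (g * t * g⁻¹)⁻¹ * s⁻¹ = g * t * g⁻¹ * (s * (g * t * g⁻¹)⁻¹ * s⁻¹) by group]
  exact N.mul_mem hgN (hN.conj_mem _ (N.inv_mem hgN) s)

variable [Finite G]

theorem exists_conj_of_big (h : ¬ F.Small) {x y : G} (hx : x ∈ F.A) (hx1 : x ≠ 1) (hy : y ∈ F.A)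
    (hy1 : y ≠ 1) : ∃ n ∈ Subgroup.normalizer (F.A : Set G), n * x * n⁻¹ = y := by
  obtain ⟨μ, -, hl⟩ := F.exists_linear h
  set F' := F.comp (H3.shear μ)
  have hA : F'.A = F.A := F.shear_A μ
  rw [← hA] at hx hy ⊢
  obtain ⟨v, rfl⟩ := F'.exists_pA hx
  obtain ⟨w, rfl⟩ := F'.exists_pA hy
  obtain ⟨f, hf, hfv⟩ := hl.trans (v := v) fun e => hx1 (by rw [e]; exact F'.pA_zero)
  obtain ⟨g, hg, hgw⟩ := hl.trans (v := w) fun e => hy1 (by rw [e]; exact F'.pA_zero)
  obtain ⟨n, hn, hnv⟩ := F'.mem_X_iff.1 (F'.X.mul_mem hg (F'.X.inv_mem hf))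
  refine ⟨n, hn, ?_⟩
  rw [hnv, Equiv.Perm.mul_apply]
  congr 1
  rw [← hfv, pinv_apply, hgw]

/-- A normal part of `N(A)` of odd order modulo `A` fixes `Z`. -/
theorem false_of_odd_moves (h : ¬ F.Small) {Y : Subgroup G} (hY : Y ≤ Subgroup.normalizer (F.A : Set G))
    (hn : ∀ n ∈ Subgroup.normalizer (F.A : Set G), ∀ y ∈ Y, n * y * n⁻¹ ∈ Y) (hAY : F.A ≤ Y)
    (h32 : ¬ 32 ∣ Nat.card Y) {y z : G} (hy : y ∈ Y) (hz : z ∈ F.Z) (hyz : y * z * y⁻¹ ∉ F.Z) : False := by
  obtain ⟨μ, -, hl⟩ := F.exists_linear h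
  set F' := F.comp (H3.shear μ)
  have hA : F'.A = F.A := F.shear_A μ
  have hZ : F'.Z = F.Z := F.shear_Z μ
  rw [← hA] at hY hn hAY
  rw [← hZ] at hz hyz
  set N := Subgroup.normalizer (F'.A : Set G)
  set f := F'.act.comp (Subgroup.inclusion hY)
  have hodd : Odd (Nat.card f.range) := by
    have hker : F'.A.subgroupOf Y ≤ f.ker := by
      intro a ha
      refine MonoidHom.mem_ker.2 (Equiv.ext fun v => (F'.act_eq_iff _ _ _).2 ?_)
      rw [show (1 : Equiv.Perm V2) v = v from rfl]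
      show (a : G) * F'.pA v * (a : G)⁻¹ = _
      rw [F'.comm_A (Subgroup.mem_subgroupOf.1 ha) (F'.pA_mem v), mul_inv_cancel_right]
    have h16 : 16 ∣ Nat.card f.ker := by
      refine dvd_trans ?_ (Subgroup.card_dvd_of_le hker)
      rw [Nat.card_congr (Subgroup.subgroupOfEquivOfLe hAY).toEquiv, F'.card_A]
    refine Nat.not_even_iff_odd.1 fun he => h32 ?_
    rw [← f.ker.card_mul_index, Subgroup.index_ker]
    exact Nat.mul_dvd_mul h16 (even_iff_two_dvd.1 he)
  obtain ⟨v, rfl⟩ := F'.exists_pA (F'.Z_le_A hz)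
  have key := hl.odd_normal (Y := f.range) ?_ ?_ hodd (y := f ⟨y, hy⟩) ⟨_, rfl⟩ v.1
  · apply hyz
    rw [show v = (v.1, 0) from Prod.ext rfl (F'.pA_mem_Z.1 hz)]
    have e : F'.pA (f ⟨y, hy⟩ (v.1, 0)) = y * F'.pA (v.1, 0) * y⁻¹ := F'.pA_act _ _
    rw [← e]
    exact F'.pA_mem_Z.2 key
  · rintro _ ⟨a, rfl⟩
    exact ⟨_, rfl⟩
  · rintro _ ⟨n, rfl⟩ _ ⟨a, rfl⟩
    refine ⟨⟨_, hn n n.2 a a.2⟩, ?_⟩
    show F'.act (Subgroup.inclusion hY ⟨_, _⟩) = F'.act n * F'.act (Subgroup.inclusion hY a) * (F'.act n)⁻¹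
    rw [← map_inv, ← map_mul, ← map_mul]
    rfl

theorem A_le_of_normal (hO : Cfsg.oddCore G = ⊥) (h : ¬ F.Small) {N : Subgroup G} (hN : N.Normal)
    (h0 : N ≠ ⊥) : F.A ≤ N := by
  obtain ⟨z, hz, hz1, hzN⟩ := F.exists_normal_mem_Z hO hN h0
  intro x hx
  by_cases hx1 : x = 1
  · rw [hx1]; exact N.one_mem
  obtain ⟨n, -, e⟩ := F.exists_conj_of_big h (F.Z_le_A hz) hz1 hx hx1
  rw [← e]
  exact hN.conj_mem z hzN n

theorem simple_of_big (hO : Cfsg.oddCore G = ⊥) (h : ¬ F.Small) {N : Subgroup G} [hN : N.Normal]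
    (h0 : N ≠ ⊥) (hmin : ∀ M : Subgroup G, M.Normal → M ≤ N → M = ⊥ ∨ M = N)
    (hna : ¬ IsMulCommutative N) : Factor N N := by
  haveI : Fact (Nat.Prime 2) := ⟨Nat.prime_two⟩
  have hAN := F.A_le_of_normal hO h hN h0
  -- every factor meets `A`
  have hmeet : ∀ K, Factor N K → ∃ a ∈ F.A, a ≠ 1 ∧ a ∈ K := by
    intro K hK
    have hKN : (K.subgroupOf N).Normal := ⟨fun x hx n =>
      (Subgroup.mem_normalizer_iff.1 (hK.norm n.2) _).1 hx⟩
    have hKsn : K.IsSubnormal := Subgroup.IsSubnormal.step _ N hK.le hN.isSubnormal hKN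
    obtain ⟨Q, hQ⟩ := Cores.sylow_inf_isSubnormal F.S hKsn
    obtain ⟨t, htQ, ht1⟩ : ∃ t : K, t ∈ (Q : Subgroup K) ∧ t ≠ 1 := by
      by_contra hcon
      push Not at hcon
      have hodd : (Nat.card K).Coprime 2 := by
        rw [Nat.coprime_two_right]
        refine Nat.not_even_iff_odd.1 fun he => ?_
        have := Q.dvd_card_of_dvd_card (even_iff_two_dvd.1 he)
        rw [(Subgroup.eq_bot_iff_forall _).2 hcon, Subgroup.card_bot] at this
        norm_num at this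
      exact hK.ne_bot (le_bot_iff.1 (hO ▸ Cores.le_pPrimeCore_of_isSubnormal hKsn hodd))
    rw [hQ, Subgroup.mem_subgroupOf] at htQ
    by_cases htA : (t : G) ∈ F.A
    · exact ⟨t, htA, fun e => ht1 (Subtype.ext e), t.2⟩
    obtain ⟨a, ha, hne⟩ : ∃ a ∈ F.A, (t : G) * a ≠ a * t := by
      by_contra hcon
      push Not at hcon
      exact htA (F.mem_A_of_forall_comm htQ hcon)
    refine ⟨(t : G) * a * (t : G)⁻¹ * a⁻¹, F.A.mul_mem (F.conj_mem_A htQ ha) (F.A.inv_mem ha), ?_, ?_⟩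
    · intro e
      rw [mul_inv_eq_one, mul_inv_eq_iff_eq_mul] at e
      exact hne e
    · rw [show (t : G) * a * (t : G)⁻¹ * a⁻¹ = (t : G) * (a * (t : G)⁻¹ * a⁻¹) by group]
      exact K.mul_mem t.2 ((Subgroup.mem_normalizer_iff.1 (hK.norm (hAN ha)) _).1 (K.inv_mem t.2))
  obtain ⟨K, hK⟩ := exists_factor h0 hmin hna
  obtain ⟨a, ha, ha1, haK⟩ := hmeet K hK
  have hcov : ∀ x ∈ F.A, x ≠ 1 → ∃ L, Factor N L ∧ x ∈ L := by
    intro x hx hx1
    obtain ⟨n, -, e⟩ := F.exists_conj_of_big h ha ha1 hx hx1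
    exact ⟨_, hK.conj n, e ▸ map_conj_mem haK⟩
  have hone : ∀ L, Factor N L → L = K := by
    intro L hL
    obtain ⟨b, hb, hb1, hbL⟩ := hmeet L hL
    exact (Factor.eq_of_forall hcov hK hL ha ha1 haK hb hb1 hbL).symm
  have hKn : K.Normal := ⟨fun x hx g => hone _ (hK.conj g) ▸ map_conj_mem hx⟩
  rcases hmin K hKn hK.le with e | e
  · exact absurd e hK.ne_bot
  · rwa [e] at hK

theorem le_A_or_B_of_abelian (hO : Cfsg.oddCore G = ⊥) {N : Subgroup G} [N.Normal] (h0 : N ≠ ⊥)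
    (hmin : ∀ M : Subgroup G, M.Normal → M ≤ N → M = ⊥ ∨ M = N) (hc : IsMulCommutative N) :
    N ≤ F.A ∨ N ≤ F.B := by
  have h2 : ∀ x ∈ N, x * x = 1 := fun x hx => sq_of_abelian_minimal hO h0 hmin hc hx
  refine F.le_or (le_sylow_of_normal (fun x => ⟨1, Subtype.ext ?_⟩) F.S) h2
  rw [pow_one, pow_two]
  exact h2 x x.2

include F in
omit [Finite G] in
theorem nontrivial : Nontrivial G :=
  ⟨⟨F.ι ⟨1, 0, 0⟩, 1, fun e => by
    rw [← map_one F.ι] at e
    exact one_ne_zero (congrArg H3.a (F.inj e))⟩⟩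

/-- If only `A` is not small, it is normal and self-centralising. -/
theorem normal_of_big_small (hO : Cfsg.oddCore G = ⊥) (hA : ¬ F.Small) (hB : F.swap.Small) :
    F.A.Normal ∧ Subgroup.centralizer (F.A : Set G) = F.A := by
  haveI : Fact (Nat.Prime 2) := ⟨Nat.prime_two⟩
  haveI := F.nontrivial
  obtain ⟨N, hN, h0, hmin⟩ := Cores.exists_minimal_normal (G := G)
  haveI := hN
  have hAN := F.A_le_of_normal hO hA hN h0
  have hnormal : F.A.Normal := by
    by_cases hc : IsMulCommutative N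
    · rcases F.le_A_or_B_of_abelian hO h0 hmin hc with h | h
      · rwa [← le_antisymm h hAN]
      · exact absurd (hAN.trans h) F.A_not_le_B
    exfalso
    have hNF := F.simple_of_big hO hA h0 hmin hc
    haveI := hNF.simple
    obtain ⟨Q, hQ⟩ := Cores.sylow_inf_isSubnormal F.S hN.isSubnormal
    have hQmem : ∀ x : N, x ∈ (Q : Subgroup N) ↔ (x : G) ∈ (F.S : Subgroup G) := fun x => by
      rw [hQ, Subgroup.mem_subgroupOf]
    have hAQ : F.A.subgroupOf N ≤ (Q : Subgroup N) := fun x hx => (hQmem x).2 (F.A_le hx)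
    have hcA : Nat.card (F.A.subgroupOf N) = 16 := by
      rw [Nat.card_congr (Subgroup.subgroupOfEquivOfLe hAN).toEquiv, F.card_A]
    rcases Goldschmidt.General.mainAt_of Goldschmidt.ThreeInv.threeInvTarget N hNF.simple
        (by
          by_contra hcon
          push Not at hcon
          exact hc ⟨⟨hcon⟩⟩) Q (F.A.subgroupOf N)
        (fun e => by rw [e, Subgroup.card_bot] at hcA; omega)
        ⟨⟨⟨fun a b => Subtype.ext (Subtype.ext (F.comm_A a.2 b.2))⟩⟩,
          fun a ha => Subtype.ext (by rw [SubgroupClass.coe_pow, pow_two]; exact F.sq_A ha)⟩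
        ⟨hAQ, fun x hx g hg => F.mem_A_of_small hB hx ((hQmem _).1 hg)⟩ with ⟨H, hH⟩ | ⟨-, h8⟩
    swap
    · have := Subgroup.card_le_of_le hAQ
      omega
    by_cases hT : ∃ t ∈ (F.S : Subgroup G), t ∈ N ∧ t ∉ F.A
    · obtain ⟨t, htS, htN, htA⟩ := hT
      obtain ⟨h, rfl⟩ := F.mem_S.1 htS
      have hb : h.b ≠ 0 := fun e => htA (F.ι_mem_A.2 e)
      have hsplit : h = (⟨h.a, 0, h.c + h.a * h.b⟩ : H3) * ⟨0, h.b, 0⟩ := by
        ext <;> simp [add_assoc, H3.add_self]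
      have hbN : F.ι ⟨0, h.b, 0⟩ ∈ N := by
        rw [hsplit, map_mul] at htN
        exact (Subgroup.mul_mem_cancel_left _ (hAN (F.ι_mem_A.2 rfl))).1 htN
      have hb2 : orderOf (⟨_, hbN⟩ : N) = 2 := by
        refine orderOf_eq_prime (Subtype.ext ?_) fun e => hb ?_
        · rw [pow_two, Subgroup.coe_mul, Subgroup.coe_one, ← map_mul, (H3.sq_iff _).2 (Or.inl rfl), map_one]
        · have e' := congrArg Subtype.val e
          rw [Subgroup.coe_one, ← map_one F.ι] at e'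
          exact congrArg H3.b (F.inj e')
      have hx2 : orderOf (⟨F.pA (0, 1), hAN (F.pA_mem _)⟩ : N) = 2 := by
        refine orderOf_eq_prime (Subtype.ext (by rw [pow_two]; exact F.sq_A (F.pA_mem _))) fun e => ?_
        have e' := congrArg Subtype.val e
        rw [Subgroup.coe_one, ← F.pA_zero] at e'
        exact absurd (F.pA_injective e') (by decide)
      obtain ⟨g, hg⟩ := isConj_iff.1 (one_class hH hx2 hb2)
      have hg' : (g : G) * F.pA (0, 1) * (g : G)⁻¹ = F.ι ⟨0, h.b, 0⟩ := congrArg Subtype.val hg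
      have := F.mem_A_of_small hB (F.pA_mem (0, 1)) (g := g) (by rw [hg']; exact F.ι_mem _)
      rw [hg', F.ι_mem_A] at this
      exact hb this
    push Not at hT
    have hQA : (Q : Subgroup N) = F.A.subgroupOf N :=
      le_antisymm (fun x hx => hT _ ((hQmem x).1 hx) x.2) hAQ
    have hQcomm : ∀ x ∈ (Q : Subgroup N), x ∈ Subgroup.centralizer ((Q : Subgroup N) : Set N) :=
      fun x hx => Subgroup.mem_centralizer_iff.2 fun y hy => Subtype.ext
        (F.comm_A (hQA.le hy) (hQA.le hx))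
    -- an element of `N ∩ N(A)` moving `Z`
    have hz2 : orderOf (⟨F.pA (1, 0), hAN (F.pA_mem _)⟩ : N) = 2 := by
      refine orderOf_eq_prime (Subtype.ext (by rw [pow_two]; exact F.sq_A (F.pA_mem _))) fun e => ?_
      have e' := congrArg Subtype.val e
      rw [Subgroup.coe_one, ← F.pA_zero] at e'
      exact absurd (F.pA_injective e') (by decide)
    have ha2 : orderOf (⟨F.pA (0, 1), hAN (F.pA_mem _)⟩ : N) = 2 := by
      refine orderOf_eq_prime (Subtype.ext (by rw [pow_two]; exact F.sq_A (F.pA_mem _))) fun e => ?_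
      have e' := congrArg Subtype.val e
      rw [Subgroup.coe_one, ← F.pA_zero] at e'
      exact absurd (F.pA_injective e') (by decide)
    obtain ⟨g, hg⟩ := isConj_iff.1 (one_class hH hz2 ha2)
    obtain ⟨n, hn, he⟩ := Q.conj_eq_normalizer_conj_of_mem_centralizer _ g⁻¹
      (hQcomm _ (hAQ (F.pA_mem _))) (by rw [inv_inv, hg]; exact hQcomm _ (hAQ (F.pA_mem _)))
    rw [inv_inv, hg] at he
    have hnA : (n : G) ∈ Subgroup.normalizer (F.A : Set G) := by
      refine Subgroup.mem_normalizer_iff.2 fun x => ?_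
      constructor
      · intro hx
        exact hQA.le ((Subgroup.mem_normalizer_iff.1 hn ⟨x, hAN hx⟩).1 (hAQ hx))
      · intro hx
        have hxN : x ∈ N := by
          simpa [mul_assoc] using hN.conj_mem _ (hAN hx) (n : G)⁻¹
        exact hQA.le ((Subgroup.mem_normalizer_iff.1 hn ⟨x, hxN⟩).2 (hAQ hx))
    refine F.false_of_odd_moves hA (Y := N ⊓ Subgroup.normalizer (F.A : Set G)) inf_le_right
      (fun m hm y hy => ⟨hN.conj_mem y hy.1 m, Subgroup.mul_mem _ (Subgroup.mul_mem _ hm hy.2)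
        (Subgroup.inv_mem _ hm)⟩) (le_inf hAN Subgroup.le_normalizer) (fun h32 => ?_)
      (y := (n : G)⁻¹) (z := F.pA (1, 0)) ⟨N.inv_mem n.2, Subgroup.inv_mem _ hnA⟩ (F.pA_mem_Z.2 rfl) ?_
    · have h := Q.pow_dvd_card_of_pow_dvd_card (n := 5)
        (h32.trans (Subgroup.card_dvd_of_le inf_le_left) : 2 ^ 5 ∣ Nat.card N)
      rw [hQA, hcA] at h
      norm_num at h
    · intro hmem
      have e := congrArg Subtype.val he
      simp only [Subgroup.coe_mul, Subgroup.coe_inv] at e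
      rw [inv_inv, ← e, F.pA_mem_Z] at hmem
      exact absurd hmem (by decide)
  refine ⟨hnormal, ?_⟩
  haveI := hnormal
  set C := Subgroup.centralizer (F.A : Set G)
  have hAC : F.A ≤ C := fun a ha => Subgroup.mem_centralizer_iff.2 fun b hb => F.comm_A hb ha
  obtain ⟨Q, hQ⟩ := Cores.sylow_inf_isSubnormal F.S (inferInstance : C.Normal).isSubnormal
  have hQA : (Q : Subgroup C) = F.A.subgroupOf C := by
    rw [hQ]
    refine le_antisymm (fun x hx => F.mem_A_of_forall_comm hx fun a ha => ?_) fun x hx => F.A_le hx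
    exact (Subgroup.mem_centralizer_iff.1 x.2 a ha).symm
  have hOC : Cfsg.oddCore C = ⊥ := by
    refine (Subgroup.map_eq_bot_iff_of_injective _ C.subtype_injective).1 ?_
    rw [Cores.pPrimeCore_map_subtype, show Cfsg.pPrimeCore 2 G = ⊥ from hO, bot_inf_eq]
  have htop := eq_top_of_central hOC Q (by
    intro x hx
    rw [hQA] at hx
    exact Subgroup.mem_center_iff.2 fun y => Subtype.ext (Subgroup.mem_centralizer_iff.1 y.2 _ hx).symm)
  rw [hQA, Subgroup.subgroupOf_eq_top] at htop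
  exact le_antisymm htop hAC

/-- If neither is small, `S` lies in a simple normal subgroup with trivial centraliser. -/
theorem simple_of_big_big (hO : Cfsg.oddCore G = ⊥) (hA : ¬ F.Small) (hB : ¬ F.swap.Small) :
    ∃ K : Subgroup G, K.Normal ∧ Factor K K ∧ (F.S : Subgroup G) ≤ K ∧
      Subgroup.centralizer (K : Set G) = ⊥ := by
  haveI := F.nontrivial
  obtain ⟨N, hN, h0, hmin⟩ := Cores.exists_minimal_normal (G := G)
  haveI := hN
  have hAN := F.A_le_of_normal hO hA hN h0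
  have hBN : F.B ≤ N := F.swap_A ▸ F.swap.A_le_of_normal hO hB hN h0
  have hna : ¬ IsMulCommutative N := by
    intro hc
    rcases F.le_A_or_B_of_abelian hO h0 hmin hc with h | h
    · exact F.swap.A_not_le_B (by rw [F.swap_A, F.swap_B]; exact hBN.trans h)
    · exact F.A_not_le_B (hAN.trans h)
  have hNF := F.simple_of_big hO hA h0 hmin hna
  have hSN : (F.S : Subgroup G) ≤ N := by
    intro x hx
    obtain ⟨h, rfl⟩ := F.mem_S.1 hx
    have hsplit : h = (⟨h.a, 0, h.c + h.a * h.b⟩ : H3) * ⟨0, h.b, 0⟩ := by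
      ext <;> simp [add_assoc, H3.add_self]
    rw [hsplit, map_mul]
    exact N.mul_mem (hAN (F.ι_mem_A.2 rfl)) (hBN (F.ι_mem_B.2 rfl))
  refine ⟨N, hN, hNF, hSN, ?_⟩
  by_contra hC
  obtain ⟨z, hz, hz1, hzC⟩ := F.exists_normal_mem_Z hO (inferInstance : (Subgroup.centralizer (N : Set G)).Normal) hC
  exact hz1 (hNF.center (hAN (F.Z_le_A hz)) fun k hk => Subgroup.mem_centralizer_iff.1 hzC k hk)

end Frm

end Cfsg.Agent.L34Sylow
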