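import Cfsg.Agent.EqLemmas
import Cfsg.Agent.Lib.L34Sylow.Basic

/-!
# Subgroups of the model above the centre with all involutions central (S3198)

* `H3.shape` : such a subgroup is the centre, or has one square, or one commutator, or is a graph
* `H3.graphHom` : a graph is `ℤ/4 × ℤ/4`
-/

set_option autoImplicit false

namespace Cfsg.Agent.L34Sylow

open Cfsg.Agent.SU32 (K4)

namespace H3

theorem field_quot : ∀ a b : K4, a ≠ 0 → ∃ l : K4, b = l * a := by decide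

theorem second_cases : ∀ a₁ a₂ a : K4, a₁ ≠ 0 → a₂ ≠ 0 → a₁ ≠ a₂ →
    a = 0 ∨ a = a₁ ∨ a = a₂ ∨ a = a₁ + a₂ := by decide

theorem unit_cancel : ∀ a x y : K4, a ≠ 0 → a * x = a * y → x = y := by decide

theorem three_cases : ∀ a b x : K4, a ≠ 0 → b ≠ 0 → a ≠ b → x = 0 ∨ x = a ∨ x = b ∨ x = a + b := by decide

theorem sq_c (x : H3) : (x * x).c = x.a * x.b := by simp [add_self]

theorem comm_c (x y : H3) : (x * y * x⁻¹ * y⁻¹).c = x.a * y.b + y.a * x.b := by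
  simp only [mul_c, mul_a, mul_b, inv_a, inv_b, inv_c]
  calc x.c + y.c + x.a * y.b + (x.c + x.a * x.b) + (x.a + y.a) * x.b + (y.c + y.a * y.b) +
        (x.a + y.a + x.a) * y.b
      = (x.c + x.c) + (y.c + y.c) + (x.a * x.b + x.a * x.b) +
          (y.a * y.b + y.a * y.b) + (x.a * y.b + y.a * x.b) + 0 := by
        have : (x.a + y.a + x.a) = y.a := by rw [add_comm (x.a + y.a), ← add_assoc, add_self, zero_add]
        rw [this]
        ring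
    _ = _ := by simp [add_self]

/-- A subgroup above the centre whose involutions are central. -/
theorem shape (P : Subgroup H3) (hZ : subA ⊓ subB ≤ P)
    (hinv : ∀ h ∈ P, h * h = 1 → h.a = 0 ∧ h.b = 0) :
    (∀ h ∈ P, h.a = 0 ∧ h.b = 0) ∨
    (∃ c₀ : K4, (∃ h ∈ P, h * h = ⟨0, 0, c₀⟩ ∧ c₀ ≠ 0) ∧
      ∀ h ∈ P, h * h = 1 ∨ h * h = ⟨0, 0, c₀⟩) ∨
    (∃ c₀ : K4, (∃ h ∈ P, ∃ k ∈ P, h * k * h⁻¹ * k⁻¹ = ⟨0, 0, c₀⟩ ∧ c₀ ≠ 0) ∧
      ∀ h ∈ P, ∀ k ∈ P, h * k * h⁻¹ * k⁻¹ = 1 ∨ h * k * h⁻¹ * k⁻¹ = ⟨0, 0, c₀⟩) ∨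
    ∃ l : K4, l ≠ 0 ∧ ∀ h : H3, h ∈ P ↔ h.b = l * h.a := by
  have hsqz : ∀ x : H3, x * x = ⟨0, 0, x.a * x.b⟩ := fun x =>
    H3.ext (add_self _) (add_self _) (sq_c x)
  have hcomz : ∀ x y : H3, x * y * x⁻¹ * y⁻¹ = ⟨0, 0, x.a * y.b + y.a * x.b⟩ := fun x y => by
    refine H3.ext ?_ ?_ (comm_c x y)
    · simp only [mul_a, inv_a]
      rw [show x.a + y.a + x.a + y.a = (x.a + x.a) + (y.a + y.a) by ring, add_self, add_self, add_zero]
    · simp only [mul_b, inv_b]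
      rw [show x.b + y.b + x.b + y.b = (x.b + x.b) + (y.b + y.b) by ring, add_self, add_self, add_zero]
  have hne : ∀ h ∈ P, h.a = 0 ∨ h.b = 0 → h.a = 0 ∧ h.b = 0 := fun h hh e =>
    hinv h hh ((sq_iff h).2 e)
  have hsame : ∀ h ∈ P, ∀ k ∈ P, h.a = k.a → h.b = k.b := by
    intro h hh k hk e
    have := (hne (h * k⁻¹) (P.mul_mem hh (P.inv_mem hk))
      (Or.inl (by simp only [mul_a, inv_a, e, add_self]))).2
    simp only [mul_b, inv_b] at this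
    calc h.b = h.b + k.b + k.b := by rw [add_assoc, add_self, add_zero]
      _ = k.b := by rw [this, zero_add]
  by_cases h0 : ∀ h ∈ P, h.a = 0 ∧ h.b = 0
  · exact Or.inl h0
  right
  push Not at h0
  obtain ⟨h₁, hh₁, hne₁⟩ := h0
  have ha₁ : h₁.a ≠ 0 := fun e => hne₁ e (hne h₁ hh₁ (Or.inl e)).2
  have hb₁ : h₁.b ≠ 0 := fun e => hne₁ (hne h₁ hh₁ (Or.inr e)).1 e
  by_cases h2 : ∀ h ∈ P, h.a = 0 ∨ h.a = h₁.a
  · refine Or.inl ⟨h₁.a * h₁.b, ⟨h₁, hh₁, hsqz h₁, mul_ne_zero ha₁ hb₁⟩, fun h hh => ?_⟩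
    rcases h2 h hh with e | e
    · exact Or.inl ((sq_iff h).2 (Or.inl e))
    · exact Or.inr (by rw [hsqz, e, hsame h hh h₁ hh₁ e])
  push Not at h2
  obtain ⟨h₂, hh₂, ha₂, ha₁₂⟩ := h2
  have hall : ∀ h ∈ P, (h.a = 0 ∧ h.b = 0) ∨ (h.a = h₁.a ∧ h.b = h₁.b) ∨ (h.a = h₂.a ∧ h.b = h₂.b) ∨
      (h.a = h₁.a + h₂.a ∧ h.b = h₁.b + h₂.b) := by
    intro h hh
    rcases second_cases h₁.a h₂.a h.a ha₁ ha₂ (Ne.symm ha₁₂) with e | e | e | e
    · exact Or.inl (hne h hh (Or.inl e))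
    · exact Or.inr (Or.inl ⟨e, hsame h hh h₁ hh₁ e⟩)
    · exact Or.inr (Or.inr (Or.inl ⟨e, hsame h hh h₂ hh₂ e⟩))
    · exact Or.inr (Or.inr (Or.inr ⟨e, hsame h hh (h₁ * h₂) (P.mul_mem hh₁ hh₂) e⟩))
  by_cases hd : h₁.a * h₂.b + h₂.a * h₁.b = 0
  · refine Or.inr (Or.inr ?_)
    obtain ⟨l, hl⟩ := field_quot h₁.a h₁.b ha₁
    have hl0 : l ≠ 0 := fun e => hb₁ (by rw [hl, e, zero_mul])
    have hl2 : h₂.b = l * h₂.a := by
      refine unit_cancel h₁.a _ _ ha₁ ?_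
      calc h₁.a * h₂.b = h₁.a * h₂.b + h₂.a * h₁.b + h₂.a * h₁.b := by rw [add_assoc, add_self, add_zero]
        _ = _ := by rw [hd, zero_add, hl]; ring
    refine ⟨l, hl0, fun h => ⟨fun hh => ?_, fun hb => ?_⟩⟩
    · rcases hall h hh with ⟨e, e'⟩ | ⟨e, e'⟩ | ⟨e, e'⟩ | ⟨e, e'⟩
      · rw [e, e', mul_zero]
      · rw [e, e', hl]
      · rw [e, e', hl2]
      · rw [e, e', hl, hl2, mul_add]
    · obtain ⟨k, hk, hka⟩ : ∃ k ∈ P, k.a = h.a := by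
        rcases second_cases h₁.a h₂.a h.a ha₁ ha₂ (Ne.symm ha₁₂) with e | e | e | e
        · exact ⟨1, P.one_mem, e.symm⟩
        · exact ⟨h₁, hh₁, e.symm⟩
        · exact ⟨h₂, hh₂, e.symm⟩
        · exact ⟨h₁ * h₂, P.mul_mem hh₁ hh₂, e.symm⟩
      have hkb : k.b = l * k.a := by
        rcases hall k hk with ⟨e, e'⟩ | ⟨e, e'⟩ | ⟨e, e'⟩ | ⟨e, e'⟩
        · rw [e, e', mul_zero]
        · rw [e, e', hl]
        · rw [e, e', hl2]
        · rw [e, e', hl, hl2, mul_add]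
      have hq : h * k⁻¹ ∈ P := hZ ⟨by
        show (h * k⁻¹).b = 0
        simp only [mul_b, inv_b, hb, hkb, hka, add_self], by
        show (h * k⁻¹).a = 0
        simp only [mul_a, inv_a, hka, add_self]⟩
      simpa using P.mul_mem hq hk
  · refine Or.inr (Or.inl ⟨_, ⟨h₁, hh₁, h₂, hh₂, hcomz h₁ h₂, hd⟩, fun h hh k hk => ?_⟩)
    rw [hcomz]
    have key : ∀ a b c d : K4, ∀ i j : Fin 4,
        let p : K4 × K4 := if i = 0 then (0, 0) else if i = 1 then (a, b) else if i = 2 then (c, d) else (a + c, b + d)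
        let q : K4 × K4 := if j = 0 then (0, 0) else if j = 1 then (a, b) else if j = 2 then (c, d) else (a + c, b + d)
        p.1 * q.2 + q.1 * p.2 = 0 ∨ p.1 * q.2 + q.1 * p.2 = a * d + c * b := by decide +kernel
    obtain ⟨i, hi⟩ : ∃ i : Fin 4, (h.a, h.b) = (if i = 0 then ((0 : K4), (0 : K4))
        else if i = 1 then (h₁.a, h₁.b) else if i = 2 then (h₂.a, h₂.b) else (h₁.a + h₂.a, h₁.b + h₂.b)) := by
      rcases hall h hh with ⟨e, e'⟩ | ⟨e, e'⟩ | ⟨e, e'⟩ | ⟨e, e'⟩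
      exacts [⟨0, by rw [e, e']; rfl⟩, ⟨1, by rw [e, e']; rfl⟩, ⟨2, by rw [e, e']; rfl⟩, ⟨3, by rw [e, e']; rfl⟩]
    obtain ⟨j, hj⟩ : ∃ j : Fin 4, (k.a, k.b) = (if j = 0 then ((0 : K4), (0 : K4))
        else if j = 1 then (h₁.a, h₁.b) else if j = 2 then (h₂.a, h₂.b) else (h₁.a + h₂.a, h₁.b + h₂.b)) := by
      rcases hall k hk with ⟨e, e'⟩ | ⟨e, e'⟩ | ⟨e, e'⟩ | ⟨e, e'⟩
      exacts [⟨0, by rw [e, e']; rfl⟩, ⟨1, by rw [e, e']; rfl⟩, ⟨2, by rw [e, e']; rfl⟩, ⟨3, by rw [e, e']; rfl⟩]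
    have := key h₁.a h₁.b h₂.a h₂.b i j
    simp only [← hi, ← hj] at this
    rcases this with e | e
    · exact Or.inl (by rw [e]; rfl)
    · exact Or.inr (by rw [e])

/-- A power with exponent in `ℤ/4`. -/
def pow4 (x : H3) (i : ZMod 4) : H3 :=
  if i = 1 then x else if i = 2 then x * x else if i = 3 then x * x * x else 1

/-- The map onto a graph. -/
def graphMap (l : K4) (v : ZMod 4 × ZMod 4) : H3 :=
  pow4 ⟨1, l, 0⟩ v.1 * pow4 ⟨K4.w, l * K4.w, 0⟩ v.2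

theorem graphMap_add : ∀ (l : K4) (v w : ZMod 4 × ZMod 4), l ≠ 0 →
    graphMap l (v + w) = graphMap l v * graphMap l w := by decide +kernel

theorem graphMap_inj : ∀ (l : K4) (v w : ZMod 4 × ZMod 4), l ≠ 0 → graphMap l v = graphMap l w → v = w := by
  decide +kernel

theorem graphMap_range : ∀ (l : K4) (h : H3), l ≠ 0 → (h.b = l * h.a ↔ ∃ v, graphMap l v = h) := by
  decide +kernel

end H3

end Cfsg.Agent.L34Sylow
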