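import Cfsg.Agent.EqLemmas
import Cfsg.Agent.Lib.L34Sylow.Big
import Cfsg.Agent.Lib.L34Sylow.SmallModel
import Cfsg.Agent.Lib.ClosedPair.Main
import Cfsg.Agent.S0949

/-!
# Both elementary subgroups small (S3198)

* `Frm.fix_of_sq` : odd action on abelian parts
* `Frm.Z_normal_of_small` : `Z` is normal
* `Frm.S_normal_of_small` : `S` is normal
-/

set_option autoImplicit false

open Cfsg

namespace Cfsg.Agent.L34Sylow

open Cfsg.Agent.SU32 (K4)

universe u

/-- If `n²` fixes `x`, `x` commutes with `Q` and `n` normalises the Sylow `2`-subgroup `Q`, then `n` fixes `x`. -/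
theorem fix_of_sq {H : Type u} [Group H] [Finite H] (Q : Sylow 2 H) {n x : H}
    (hn : n ∈ Subgroup.normalizer ((Q : Subgroup H) : Set H)) (hx : ∀ q ∈ (Q : Subgroup H), q * x = x * q)
    (h2 : n * (n * x * n⁻¹) * n⁻¹ = x) : n * x * n⁻¹ = x := by
  obtain ⟨k, m, hm, ho⟩ := Nat.exists_eq_two_pow_mul_odd (orderOf_pos n).ne'
  have hP : IsPGroup 2 (Subgroup.zpowers (n ^ m)) := IsPGroup.of_card (n := k) (by
    rw [Nat.card_zpowers, orderOf_pow' n hm.pos.ne', ho, Nat.gcd_mul_left_left, Nat.mul_div_cancel _ hm.pos])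
  haveI : Fact (Nat.Prime 2) := ⟨Nat.prime_two⟩
  have hmem : n ^ m ∈ (Q : Subgroup H) :=
    ((hP.inf_normalizer_sylow Q).le ⟨Subgroup.mem_zpowers _, pow_mem hn m⟩).2
  have key : ∀ j : ℕ, n ^ (2 * j) * x * (n ^ (2 * j))⁻¹ = x := by
    intro j
    induction j with
    | zero => simp
    | succ j ih =>
      calc n ^ (2 * (j + 1)) * x * (n ^ (2 * (j + 1)))⁻¹
          = n * (n * (n ^ (2 * j) * x * (n ^ (2 * j))⁻¹) * n⁻¹) * n⁻¹ := by
            rw [show 2 * (j + 1) = (2 * j + 1) + 1 by ring, pow_succ', pow_succ']; group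
        _ = x := by rw [ih, h2]
  obtain ⟨j, rfl⟩ := hm
  have h3 : n ^ (2 * j + 1) * x * (n ^ (2 * j + 1))⁻¹ = x := by rw [hx _ hmem, mul_inv_cancel_right]
  rw [pow_succ'] at h3
  calc n * x * n⁻¹ = n * (n ^ (2 * j) * x * (n ^ (2 * j))⁻¹) * n⁻¹ := by rw [key]
    _ = n * n ^ (2 * j) * x * (n * n ^ (2 * j))⁻¹ := by group
    _ = x := h3

namespace Frm

variable {G : Type u} [Group G] [Finite G] (F : Frm G)

theorem orderOf_Z {z : G} (hz : z ∈ F.Z) (hz1 : z ≠ 1) : orderOf z = 2 :=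
  orderOf_eq_prime (by rw [pow_two]; exact F.sq_A (F.Z_le_A hz)) hz1

theorem Z_cases {z y x : G} (hz : z ∈ F.Z) (hy : y ∈ F.Z) (hx : x ∈ F.Z) (hz1 : z ≠ 1) (hy1 : y ≠ 1)
    (hzy : z ≠ y) : x = 1 ∨ x = z ∨ x = y ∨ x = z * y := by
  obtain ⟨a, rfl⟩ := F.exists_pA (F.Z_le_A hz)
  obtain ⟨b, rfl⟩ := F.exists_pA (F.Z_le_A hy)
  obtain ⟨c, rfl⟩ := F.exists_pA (F.Z_le_A hx)
  have ea := F.pA_mem_Z.1 hz
  have eb := F.pA_mem_Z.1 hy
  have ec := F.pA_mem_Z.1 hx
  have hna : a.1 ≠ 0 := fun e => hz1 (by rw [show a = 0 from Prod.ext e ea, F.pA_zero])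
  have hnb : b.1 ≠ 0 := fun e => hy1 (by rw [show b = 0 from Prod.ext e eb, F.pA_zero])
  have hab : a.1 ≠ b.1 := fun e => hzy (by rw [show a = b from Prod.ext e (ea.trans eb.symm)])
  rw [← F.pA_add, ← F.pA_zero]
  rcases H3.three_cases a.1 b.1 c.1 hna hnb hab with e | e | e | e
  · exact Or.inl (congrArg F.pA (Prod.ext e ec))
  · exact Or.inr (Or.inl (congrArg F.pA (Prod.ext e (ec.trans ea.symm))))
  · exact Or.inr (Or.inr (Or.inl (congrArg F.pA (Prod.ext e (ec.trans eb.symm)))))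
  · exact Or.inr (Or.inr (Or.inr (congrArg F.pA (Prod.ext e (by rw [Prod.snd_add, ea, eb, ec, add_zero])))))

variable (hA : F.Small) (hB : F.swap.Small)
include hA hB

theorem exists_normalizer_conj {z : G} (hz : z ∈ F.Z) {g : G} (hg : g * z * g⁻¹ ∈ (F.S : Subgroup G)) :
    ∃ n ∈ Subgroup.normalizer ((F.S : Subgroup G) : Set G), n * z * n⁻¹ = g * z * g⁻¹ := by
  haveI : Fact (Nat.Prime 2) := ⟨Nat.prime_two⟩
  have hc : ∀ x ∈ F.Z, x ∈ Subgroup.centralizer ((F.S : Subgroup G) : Set G) := fun x hx =>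
    Subgroup.mem_centralizer_iff.2 fun s hs => (F.comm_Z hx hs).symm
  obtain ⟨n, hn, he⟩ := F.S.conj_eq_normalizer_conj_of_mem_centralizer z g⁻¹ (hc z hz)
    (by rw [inv_inv]; exact hc _ (F.mem_Z_of_small hA hB hz hg))
  rw [inv_inv] at he
  exact ⟨n⁻¹, Subgroup.inv_mem _ hn, by rw [inv_inv, he]⟩

theorem conj_Z_of_normalizer {n z : G} (hn : n ∈ Subgroup.normalizer ((F.S : Subgroup G) : Set G))
    (hz : z ∈ F.Z) : n * z * n⁻¹ ∈ F.Z :=
  F.mem_Z_of_small hA hB hz ((Subgroup.mem_normalizer_iff.1 hn z).1 (F.A_le (F.Z_le_A hz)))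

/-- A fixed element of `Z` is central. -/
theorem mem_center_of_fixed (hO : Cfsg.oddCore G = ⊥) {z : G} (hz : z ∈ F.Z)
    (h : ∀ n ∈ Subgroup.normalizer ((F.S : Subgroup G) : Set G), n * z * n⁻¹ = z) : z ∈ Subgroup.center G := by
  by_cases hz1 : z = 1
  · rw [hz1]; exact one_mem _
  refine ZStar.isolated_mem_center ZStarPrimePower.uniqueInvolutionZStar_proved
    (ZStar.isolated_of_sylow F.S (F.orderOf_Z hz hz1) (F.A_le (F.Z_le_A hz)) fun g hg => ?_) hO
  obtain ⟨n, hn, e⟩ := F.exists_normalizer_conj hA hB hz hg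
  rw [← e, h n hn]

/-- A central involution in `Z` makes `Z` central. -/
theorem Z_le_center (hO : Cfsg.oddCore G = ⊥) {z : G} (hz : z ∈ F.Z) (hz1 : z ≠ 1)
    (hc : z ∈ Subgroup.center G) : F.Z ≤ Subgroup.center G := by
  intro y hy
  by_cases hy1 : y = 1
  · rw [hy1]; exact one_mem _
  by_cases hyz : z = y
  · exact hyz ▸ hc
  refine F.mem_center_of_fixed hA hB hO hy fun n hn => ?_
  refine fix_of_sq F.S hn (fun q hq => (F.comm_Z hy hq).symm) ?_
  have hnz : n * z * n⁻¹ = z := by rw [Subgroup.mem_center_iff.1 hc n, mul_inv_cancel_right]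
  rcases F.Z_cases hz hy (F.conj_Z_of_normalizer hA hB hn hy) hz1 hy1 hyz with e | e | e | e
  · exact absurd (conj_eq_one_iff.1 e) hy1
  · exact absurd (mul_left_cancel (mul_right_cancel (hnz.trans e.symm))) hyz
  · rw [e, e]
  · rw [e, show n * (z * y) * n⁻¹ = (n * z * n⁻¹) * (n * y * n⁻¹) by group, hnz, e, ← mul_assoc,
      F.sq_A (F.Z_le_A hz), one_mul]

/-- Without central elements, `Z` has one class. -/
theorem exists_conj_Z (hO : Cfsg.oddCore G = ⊥) (hne : ¬ F.Z ≤ Subgroup.center G) {z w : G} (hz : z ∈ F.Z)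
    (hz1 : z ≠ 1) (hw : w ∈ F.Z) (hw1 : w ≠ 1) : ∃ g : G, g * z * g⁻¹ = w := by
  obtain ⟨n, hn, hne'⟩ : ∃ n ∈ Subgroup.normalizer ((F.S : Subgroup G) : Set G), n * z * n⁻¹ ≠ z := by
    by_contra hcon
    push Not at hcon
    exact hne (F.Z_le_center hA hB hO hz hz1 (F.mem_center_of_fixed hA hB hO hz hcon))
  set y := n * z * n⁻¹ with hy
  have hyZ : y ∈ F.Z := F.conj_Z_of_normalizer hA hB hn hz
  have hy1 : y ≠ 1 := fun e => hz1 (conj_eq_one_iff.1 e)
  rcases F.Z_cases hz hyZ hw hz1 hy1 (Ne.symm hne') with e | e | e | e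
  · exact absurd e hw1
  · exact ⟨1, by rw [e]; group⟩
  · exact ⟨n, e.symm⟩
  rcases F.Z_cases hz hyZ (F.conj_Z_of_normalizer hA hB hn hyZ) hz1 hy1 (Ne.symm hne') with e' | e' | e' | e'
  · exact absurd (conj_eq_one_iff.1 e') hy1
  · exact absurd (fix_of_sq F.S hn (fun q hq => (F.comm_Z hz hq).symm) e') hne'
  · exact absurd (mul_left_cancel (mul_right_cancel (e'.trans hy))) hne'
  · refine ⟨n * n, ?_⟩
    rw [e, ← e', hy]
    group

theorem Z_le_of_normal (hO : Cfsg.oddCore G = ⊥) (hne : ¬ F.Z ≤ Subgroup.center G) {N : Subgroup G}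
    (hN : N.Normal) (h0 : N ≠ ⊥) : F.Z ≤ N := by
  obtain ⟨z, hz, hz1, hzN⟩ := F.exists_normal_mem_Z hO hN h0
  intro w hw
  by_cases hw1 : w = 1
  · rw [hw1]; exact N.one_mem
  obtain ⟨g, rfl⟩ := F.exists_conj_Z hA hB hO hne hz hz1 hw hw1
  exact hN.conj_mem z hzN g

/-- A minimal normal subgroup is simple if it is not abelian. -/
theorem simple_of_small (hO : Cfsg.oddCore G = ⊥) (hne : ¬ F.Z ≤ Subgroup.center G) {N : Subgroup G}
    [hN : N.Normal] (h0 : N ≠ ⊥) (hmin : ∀ M : Subgroup G, M.Normal → M ≤ N → M = ⊥ ∨ M = N)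
    (hna : ¬ IsMulCommutative N) : Factor N N := by
  haveI : Fact (Nat.Prime 2) := ⟨Nat.prime_two⟩
  have hZN := F.Z_le_of_normal hA hB hO hne hN h0
  have hsn : ∀ K, Factor N K → K.IsSubnormal := fun K hK =>
    Subgroup.IsSubnormal.step _ N hK.le hN.isSubnormal
      ⟨fun x hx n => (Subgroup.mem_normalizer_iff.1 (hK.norm n.2) _).1 hx⟩
  have heven : ∀ K, Factor N K → 2 ∣ Nat.card K := by
    intro K hK
    by_contra hodd
    exact hK.ne_bot (le_bot_iff.1 (hO ▸ Cores.le_pPrimeCore_of_isSubnormal (hsn K hK)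
      (Nat.coprime_comm.1 (Nat.prime_two.coprime_iff_not_dvd.2 hodd))))
  obtain ⟨K₀, hK₀⟩ := exists_factor h0 hmin hna
  obtain ⟨z, hz, hz1, hzN⟩ := F.exists_normal_mem_Z hO hN h0
  -- a factor not centralised by `z`
  obtain ⟨g₀, hg₀⟩ : ∃ g : G, ∃ k ∈ K₀.map (MulAut.conj g).toMonoidHom, z * k ≠ k * z := by
    by_contra hcon
    push Not at hcon
    have hNC : N ≤ Subgroup.centralizer ({z} : Set G) := by
      rcases hmin (Subgroup.normalClosure (K₀ : Set G)) inferInstance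
        (Subgroup.normalClosure_le_normal hK₀.le) with e | e
      · exact absurd (le_bot_iff.1 ((Subgroup.le_normalClosure).trans e.le)) hK₀.ne_bot
      · rw [← e, Subgroup.normalClosure, Subgroup.closure_le]
        intro x hx
        obtain ⟨k, hk, hc⟩ := Group.mem_conjugatesOfSet_iff.1 hx
        obtain ⟨g, rfl⟩ := isConj_iff.1 hc
        exact Subgroup.mem_centralizer_singleton_iff.2 (hcon g _ (map_conj_mem hk)).symm
    rcases hmin (N ⊓ Subgroup.centralizer (N : Set G)) inferInstance inf_le_left with e | e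
    · refine hz1 ((Subgroup.eq_bot_iff_forall _).1 e z ⟨hzN, Subgroup.mem_centralizer_iff.2 fun y hy => ?_⟩)
      exact Subgroup.mem_centralizer_singleton_iff.1 (hNC hy)
    · exact hna ⟨⟨fun a b => Subtype.ext (Subgroup.mem_centralizer_iff.1 (inf_eq_left.1 e b.2) a a.2)⟩⟩
  set K₁ := K₀.map (MulAut.conj g₀).toMonoidHom
  have hK₁ : Factor N K₁ := hK₀.conj g₀
  obtain ⟨k, hk, hcomm, hkne⟩ :=
    exists_conj_ne hK₁ (heven K₁ hK₁) (F.orderOf_Z hz hz1) (hK₁.norm hzN) hg₀
  set z' := k * z * k⁻¹ with hz'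
  -- the two conjugates in a Sylow 2-subgroup
  have hp : IsPGroup 2 ↥(Subgroup.zpowers z ⊔ Subgroup.zpowers z') := by
    refine ClosedPair.isPGroup_sup_zpowers
      (IsPGroup.of_card (n := 1) (by
        rw [Nat.card_zpowers, hz', Involution.orderOf_conj, F.orderOf_Z hz hz1, pow_one]))
      (IsPGroup.of_card (n := 1) (by rw [Nat.card_zpowers, F.orderOf_Z hz hz1, pow_one]))
      (Subgroup.centralizer_le_normalizer _ (Subgroup.mem_centralizer_iff.2 fun y hy => ?_))
    obtain ⟨i, rfl⟩ := Subgroup.mem_zpowers_iff.1 hy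
    exact ((show Commute z z' from hcomm).zpow_left i).eq
  obtain ⟨R, hR⟩ := hp.exists_le_sylow
  obtain ⟨g, rfl⟩ := MulAction.exists_smul_eq G F.S R
  have hconjS : ∀ x ∈ Subgroup.zpowers z ⊔ Subgroup.zpowers z', g⁻¹ * x * g ∈ (F.S : Subgroup G) := by
    intro x hx
    have := hR hx
    rwa [smul_sylow_eq, mem_map_conj] at this
  have h1 : g⁻¹ * z * g ∈ F.Z := by
    have := F.mem_Z_of_small hA hB hz (g := g⁻¹)
      (by rw [inv_inv]; exact hconjS z (Subgroup.mem_sup_left (Subgroup.mem_zpowers z)))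
    rwa [inv_inv] at this
  have h2 : g⁻¹ * z' * g ∈ F.Z := by
    have := F.mem_Z_of_small hA hB hz (g := g⁻¹ * k) (by
      rw [show g⁻¹ * k * z * (g⁻¹ * k)⁻¹ = g⁻¹ * z' * g by rw [hz']; group]
      exact hconjS z' (Subgroup.mem_sup_right (Subgroup.mem_zpowers z')))
    rwa [show g⁻¹ * k * z * (g⁻¹ * k)⁻¹ = g⁻¹ * z' * g by rw [hz']; group] at this
  have hzi : z⁻¹ = z := inv_eq_of_mul_eq_one_right (F.sq_A (F.Z_le_A hz))
  set K := K₁.map (MulAut.conj g⁻¹).toMonoidHom
  have hK : Factor N K := hK₁.conj g⁻¹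
  have haK : g⁻¹ * z' * g * (g⁻¹ * z * g) ∈ K := by
    rw [show g⁻¹ * z' * g * (g⁻¹ * z * g) = g⁻¹ * (z' * z) * g⁻¹⁻¹ by group]
    refine map_conj_mem ?_
    rw [hz', show k * z * k⁻¹ * z = k * (z * k⁻¹ * z⁻¹) by rw [hzi]; group]
    exact K₁.mul_mem hk ((Subgroup.mem_normalizer_iff.1 (hK₁.norm hzN) _).1 (K₁.inv_mem hk))
  set a := g⁻¹ * z' * g * (g⁻¹ * z * g) with hadef
  have haZ : a ∈ F.Z := F.Z.mul_mem h2 h1
  have ha1 : a ≠ 1 := by
    intro e
    apply hkne
    rw [hadef, show g⁻¹ * z' * g * (g⁻¹ * z * g) = g⁻¹ * (z' * z) * g⁻¹⁻¹ by group, conj_eq_one_iff,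
      mul_eq_one_iff_eq_inv, hzi] at e
    exact e
  have hcov : ∀ w ∈ F.Z, w ≠ 1 → ∃ L, Factor N L ∧ w ∈ L := by
    intro w hw hw1
    obtain ⟨m, e⟩ := F.exists_conj_Z hA hB hO hne haZ ha1 hw hw1
    exact ⟨_, hK.conj m, e ▸ map_conj_mem haK⟩
  have hinK : ∀ w ∈ F.Z, w ∈ K := by
    intro w hw
    by_cases hw1 : w = 1
    · rw [hw1]; exact K.one_mem
    obtain ⟨L, hL, hwL⟩ := hcov w hw hw1
    rwa [Factor.eq_of_forall hcov hK hL haZ ha1 haK hw hw1 hwL]
  have hone : ∀ L, Factor N L → L = K := by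
    intro L hL
    by_contra hne'
    obtain ⟨Q, hQ⟩ := Cores.sylow_inf_isSubnormal F.S (hsn L hL)
    obtain ⟨x, hxQ, hx1⟩ : ∃ x : L, x ∈ (Q : Subgroup L) ∧ x ≠ 1 := by
      by_contra hcon
      push Not at hcon
      have := Q.dvd_card_of_dvd_card (heven L hL)
      rw [(Subgroup.eq_bot_iff_forall _).2 hcon, Subgroup.card_bot] at this
      norm_num at this
    rw [hQ, Subgroup.mem_subgroupOf] at hxQ
    have hcent : ∀ y ∈ L, ∀ m ∈ K, y * m = m * y := fun y hy m hm => hL.commute hK hne' hy hm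
    by_cases hxZ : (x : G) ∈ F.Z
    · exact hne' (hL.eq_of_mem hK (fun e => hx1 (Subtype.ext e)) x.2 (hinK _ hxZ))
    obtain ⟨s, hs, hs1, hsZ⟩ := F.exists_commutator hxQ hxZ
    have hsK : Factor N (K.map (MulAut.conj s).toMonoidHom) := hK.conj s
    have hsame : K.map (MulAut.conj s).toMonoidHom = K := by
      refine hsK.eq_of_mem hK ha1 ?_ haK
      have e : s * a * s⁻¹ = a := by rw [← F.comm_Z haZ hs, mul_inv_cancel_right]
      exact e ▸ map_conj_mem haK
    refine hs1 (hK.center (hinK _ hsZ) fun m hm => ?_)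
    have hm' : s⁻¹ * m * s ∈ K := by
      have h := hm
      rw [← hsame, mem_map_conj] at h
      exact h
    have e1 : (x : G) * m = m * x := hcent _ x.2 m hm
    have e2 : ((x : G)⁻¹) * (s⁻¹ * m * s) = s⁻¹ * m * s * (x : G)⁻¹ := hcent _ (L.inv_mem x.2) _ hm'
    calc m * ((x : G) * s * (x : G)⁻¹ * s⁻¹) = m * x * (s * (x : G)⁻¹ * s⁻¹) := by group
      _ = x * m * (s * (x : G)⁻¹ * s⁻¹) := by rw [e1]
      _ = x * s * (s⁻¹ * m * s * (x : G)⁻¹) * s⁻¹ := by group
      _ = x * s * ((x : G)⁻¹ * (s⁻¹ * m * s)) * s⁻¹ := by rw [e2]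
      _ = (x : G) * s * (x : G)⁻¹ * s⁻¹ * m := by group
  have hKn : K.Normal := ⟨fun x hx m => hone _ (hK.conj m) ▸ map_conj_mem hx⟩
  rcases hmin K hKn hK.le with e | e
  · exact absurd e hK.ne_bot
  · rwa [e] at hK

/-- The minimal normal subgroup is abelian. -/
theorem abelian_of_small (hO : Cfsg.oddCore G = ⊥) (hne : ¬ F.Z ≤ Subgroup.center G) {N : Subgroup G}
    [hN : N.Normal] (h0 : N ≠ ⊥) (hmin : ∀ M : Subgroup G, M.Normal → M ≤ N → M = ⊥ ∨ M = N) :
    IsMulCommutative N := by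
  haveI : Fact (Nat.Prime 2) := ⟨Nat.prime_two⟩
  by_contra hna
  have hNF := F.simple_of_small hA hB hO hne h0 hmin hna
  haveI := hNF.simple
  have hZN := F.Z_le_of_normal hA hB hO hne hN h0
  have hCN : Subgroup.centralizer (N : Set G) = ⊥ := by
    by_contra hC
    obtain ⟨z, hz, hz1, hzC⟩ := F.exists_normal_mem_Z hO (inferInstance : (Subgroup.centralizer (N : Set G)).Normal) hC
    exact hz1 (hNF.center (hZN hz) fun k hk => Subgroup.mem_centralizer_iff.1 hzC k hk)
  obtain ⟨Q, hQ⟩ := Cores.sylow_inf_isSubnormal F.S hN.isSubnormal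
  have hQmem : ∀ x : N, x ∈ (Q : Subgroup N) ↔ (x : G) ∈ (F.S : Subgroup G) := fun x => by
    rw [hQ, Subgroup.mem_subgroupOf]
  have hZQ : ∀ x : N, (x : G) ∈ F.Z → x ∈ (Q : Subgroup N) := fun x hx => (hQmem x).2 (F.A_le (F.Z_le_A hx))
  have hZc : ∀ x : N, (x : G) ∈ F.Z → x ∈ Subgroup.centralizer ((Q : Subgroup N) : Set N) := fun x hx =>
    Subgroup.mem_centralizer_iff.2 fun y hy => Subtype.ext (F.comm_Z hx ((hQmem y).1 hy)).symm
  have hcenterN : Subgroup.center N = ⊥ := (Subgroup.eq_bot_iff_forall _).2 fun x hx =>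
    Subtype.ext (hNF.center x.2 fun k hk => congrArg Subtype.val (Subgroup.mem_center_iff.1 hx ⟨k, hk⟩))
  obtain ⟨z₀, hz₀, hz₀1, -⟩ := F.exists_normal_mem_Z hO hN h0
  have heven : 2 ∣ Nat.card N := by
    have h := Subgroup.orderOf_dvd_natCard N (hZN hz₀)
    rwa [F.orderOf_Z hz₀ hz₀1] at h
  have hON : Cfsg.pPrimeCore 2 N = ⊥ := pPrimeCore_eq_bot_of_simple hNF.simple heven
  -- the subgroup of the model
  set P : Subgroup H3 := N.comap F.ι
  have hQι : ∀ x : N, x ∈ (Q : Subgroup N) → ∃ h ∈ P, F.ι h = x := by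
    intro x hx
    obtain ⟨h, hh⟩ := F.mem_S.1 ((hQmem x).1 hx)
    exact ⟨h, Subgroup.mem_comap.2 (hh ▸ x.2), hh⟩
  have hPZ : H3.subA ⊓ H3.subB ≤ P := fun h hh => Subgroup.mem_comap.2 (hZN ⟨h, hh, rfl⟩)
  have hPQ : ∀ h : H3, ∀ hh : h ∈ P, (⟨F.ι h, hh⟩ : N) ∈ (Q : Subgroup N) := fun h hh =>
    (hQmem _).2 (F.ι_mem h)
  -- `S` has no elements outside `N`
  have hTZ : ¬ ∀ h ∈ P, h.a = 0 ∧ h.b = 0 := by
    intro hall
    have hQZ : ∀ x : N, x ∈ (Q : Subgroup N) → (x : G) ∈ F.Z := by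
      intro x hx
      obtain ⟨h, hh, e⟩ := hQι x hx
      rw [← e, F.ι_mem_Z]
      exact ⟨(hall h hh).2, (hall h hh).1⟩
    haveI : IsMulCommutative (Q : Subgroup N) := ⟨⟨fun a b => Subtype.ext (Subtype.ext
      (F.comm_Z (hQZ a a.2) ((hQmem (b : N)).1 b.2)))⟩⟩
    have hSN : (F.S : Subgroup G) ≤ N := by
      intro s hs
      obtain ⟨m, hm⟩ : ∃ m : ℕ, orderOf s = 2 ^ m := by
        obtain ⟨m, hm⟩ := (IsPGroup.iff_orderOf (p := 2)).1 F.S.isPGroup' ⟨s, hs⟩
        exact ⟨m, by rwa [Subgroup.orderOf_mk] at hm⟩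
      obtain ⟨j, -, hj⟩ := (Nat.dvd_prime_pow Nat.prime_two).1
        (hm ▸ orderOf_map_dvd (MulAut.conjNormal : G →* MulAut N) s)
      obtain ⟨k, hk⟩ := ZStar.aut_inner_of_abelian_sylow ZStarPrimePower.uniqueInvolutionZStar_proved
        hcenterN hON Q (MulAut.conjNormal s) ⟨j, hj⟩ (fun x hx => Subtype.ext (by
          rw [MulAut.conjNormal_apply, ← F.comm_Z (hQZ x hx) hs, mul_inv_cancel_right]))
      have : (k : G)⁻¹ * s ∈ Subgroup.centralizer (N : Set G) := by
        refine Subgroup.mem_centralizer_iff.2 fun y hy => ?_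
        have e := congrArg Subtype.val (DFunLike.congr_fun hk ⟨y, hy⟩)
        rw [MulAut.conjNormal_apply, MulAut.conj_apply, Subgroup.coe_mul, Subgroup.coe_mul,
          Subgroup.coe_inv] at e
        calc y * ((k : G)⁻¹ * s) = (k : G)⁻¹ * ((k : G) * y * (k : G)⁻¹) * s := by group
          _ = (k : G)⁻¹ * (s * y * s⁻¹) * s := by rw [e]
          _ = (k : G)⁻¹ * s * y := by group
      rw [hCN, Subgroup.mem_bot, inv_mul_eq_one] at this
      exact this ▸ k.2
    exact one_ne_zero (hall ⟨1, 0, 0⟩ (Subgroup.mem_comap.2 (hSN (F.ι_mem _)))).1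
  have hconjQ : ∀ n : N, n ∈ Subgroup.normalizer ((Q : Subgroup N) : Set N) → ∀ h ∈ P,
      ∃ h' ∈ P, F.ι h' = (n : G) * F.ι h * (n : G)⁻¹ := by
    intro n hn h hh
    exact hQι _ ((Subgroup.mem_normalizer_iff.1 hn _).1 (hPQ h hh))
  rcases Goldschmidt.General.mainAt_of Goldschmidt.ThreeInv.threeInvTarget N hNF.simple
      (by
        by_contra hcon
        push Not at hcon
        exact hna ⟨⟨hcon⟩⟩) Q (F.Z.subgroupOf N)
      (fun e => by
        have := Nat.card_congr (Subgroup.subgroupOfEquivOfLe hZN).toEquiv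
        rw [e, Subgroup.card_bot, F.card_Z] at this
        omega)
      ⟨⟨⟨fun a b => Subtype.ext (Subtype.ext (F.comm_A (F.Z_le_A a.2) (F.Z_le_A b.2)))⟩⟩,
        fun a ha => Subtype.ext (by rw [SubgroupClass.coe_pow, pow_two]; exact F.sq_A (F.Z_le_A ha))⟩
      ⟨fun x hx => hZQ x hx, fun x hx g hg => F.mem_Z_of_small hA hB hx ((hQmem _).1 hg)⟩
    with ⟨H, hH⟩ | ⟨hQel, h8⟩
  · -- one class
    have hz₀2 : orderOf (⟨z₀, hZN hz₀⟩ : N) = 2 := (Subgroup.orderOf_mk z₀ _).trans (F.orderOf_Z hz₀ hz₀1)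
    have hinv : ∀ h ∈ P, h * h = 1 → h.a = 0 ∧ h.b = 0 := by
      intro h hh h2
      by_cases h1 : h = 1
      · rw [h1]; exact ⟨rfl, rfl⟩
      have ho : orderOf (⟨F.ι h, hh⟩ : N) = 2 :=
        orderOf_eq_prime (Subtype.ext (by
          rw [pow_two, Subgroup.coe_mul, Subgroup.coe_one, ← map_mul, h2, map_one])) fun e => h1 (F.inj (by
            rw [map_one]; exact congrArg Subtype.val e))
      obtain ⟨m, hm⟩ := isConj_iff.1 (one_class hH hz₀2 ho)
      have hm' : (m : G) * z₀ * (m : G)⁻¹ = F.ι h := congrArg Subtype.val hm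
      have := F.mem_Z_of_small hA hB hz₀ (g := (m : G)) (by rw [hm']; exact F.ι_mem h)
      rw [hm', F.ι_mem_Z] at this
      exact ⟨this.2, this.1⟩
    have htrans : ∀ c d : K4, c ≠ 0 → d ≠ 0 → ∃ n : N, n ∈ Subgroup.normalizer ((Q : Subgroup N) : Set N) ∧
        (n : G) * F.ι ⟨0, 0, c⟩ * (n : G)⁻¹ = F.ι ⟨0, 0, d⟩ := by
      intro c d hc hd
      have hm : ∀ e : K4, F.ι (⟨0, 0, e⟩ : H3) ∈ F.Z := fun e => F.ι_mem_Z.2 ⟨rfl, rfl⟩
      have ho : ∀ e : K4, e ≠ 0 → orderOf (⟨F.ι (⟨0, 0, e⟩ : H3), hZN (hm e)⟩ : N) = 2 := fun e he =>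
        (Subgroup.orderOf_mk _ _).trans (F.orderOf_Z (hm e) fun h1 => he (by
          rw [← map_one F.ι] at h1
          exact congrArg H3.c (F.inj h1)))
      obtain ⟨m, hm'⟩ := isConj_iff.1 (one_class hH (ho c hc) (ho d hd))
      obtain ⟨n, hn, he⟩ := Q.conj_eq_normalizer_conj_of_mem_centralizer _ m⁻¹ (hZc _ (hm c))
        (by rw [inv_inv, hm']; exact hZc _ (hm d))
      rw [inv_inv, hm'] at he
      refine ⟨n⁻¹, Subgroup.inv_mem _ hn, ?_⟩
      have e := congrArg Subtype.val he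
      simp only [Subgroup.coe_mul, Subgroup.coe_inv] at e ⊢
      rw [inv_inv]
      exact e.symm
    have hother : ∀ c : K4, c ≠ 0 → ∃ d : K4, d ≠ 0 ∧ d ≠ c := by decide
    rcases H3.shape P hPZ hinv with h | ⟨c₀, ⟨t, ht, htt, hc₀⟩, hsq⟩ | ⟨c₀, ⟨t, ht, r, hr, htr, hc₀⟩, hcm⟩ |
      ⟨l, hl, hgraph⟩
    · exact hTZ h
    · obtain ⟨d, hd, hdc⟩ := hother c₀ hc₀
      obtain ⟨n, hn, he⟩ := htrans c₀ d hc₀ hd
      obtain ⟨t', ht', et⟩ := hconjQ n hn t ht
      have : F.ι (t' * t') = F.ι ⟨0, 0, d⟩ := by rw [map_mul, et, conj_mul, ← map_mul, htt, he]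
      rcases hsq t' ht' with e | e
      · rw [e] at this
        exact hd (congrArg H3.c (F.inj this)).symm
      · rw [e] at this
        exact hdc (congrArg H3.c (F.inj this)).symm
    · obtain ⟨d, hd, hdc⟩ := hother c₀ hc₀
      obtain ⟨n, hn, he⟩ := htrans c₀ d hc₀ hd
      obtain ⟨t', ht', et⟩ := hconjQ n hn t ht
      obtain ⟨r', hr', er⟩ := hconjQ n hn r hr
      have : F.ι (t' * r' * t'⁻¹ * r'⁻¹) = F.ι ⟨0, 0, d⟩ := by
        rw [map_mul, map_mul, map_mul, map_inv, map_inv, et, er, ← he, ← htr, map_mul, map_mul, map_mul,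
          map_inv, map_inv]
        group
      rcases hcm t' ht' r' hr' with e | e
      · rw [e] at this
        exact hd (congrArg H3.c (F.inj this)).symm
      · rw [e] at this
        exact hdc (congrArg H3.c (F.inj this)).symm
    · let f : Multiplicative (ZMod 4 × ZMod 4) →* N :=
        MonoidHom.mk' (fun v => ⟨F.ι (H3.graphMap l (Multiplicative.toAdd v)),
            (hgraph _).2 ((H3.graphMap_range l _ hl).2 ⟨_, rfl⟩)⟩)
          (fun v w => Subtype.ext (by
            rw [Subgroup.coe_mul, ← map_mul]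
            exact congrArg F.ι (H3.graphMap_add l _ _ hl)))
      have hf : Function.Injective f := fun v w h =>
        Multiplicative.toAdd.injective (H3.graphMap_inj l _ _ hl (F.inj (congrArg Subtype.val h)))
      have hfr : f.range = (Q : Subgroup N) := by
        ext x
        constructor
        · rintro ⟨v, rfl⟩
          exact hPQ _ _
        · intro hx
          obtain ⟨h, hh, e⟩ := hQι x hx
          obtain ⟨v, hv⟩ := (H3.graphMap_range l h hl).1 ((hgraph h).1 hh)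
          exact ⟨Multiplicative.ofAdd v, Subtype.ext (by rw [← e, ← hv]; rfl)⟩
      obtain ⟨hnorm, -, -⟩ := Cfsg.Agent.S0949.result Q 2 le_rfl
        ((MulEquiv.subgroupCongr hfr.symm).trans (MonoidHom.ofInjective hf).symm)
        (fun M hM hodd => le_bot_iff.1 (hON ▸ Cores.le_pPrimeCore hM (Nat.coprime_two_right.2 hodd)))
      rcases hnorm.eq_bot_or_eq_top with e | e
      · have := hZQ ⟨z₀, hZN hz₀⟩ hz₀
        rw [e, Subgroup.mem_bot] at this
        exact hz₀1 (congrArg Subtype.val this)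
      · refine hna ⟨⟨fun a b => ?_⟩⟩
        obtain ⟨v, rfl⟩ := MonoidHom.mem_range.1 (hfr.ge (e.ge (Subgroup.mem_top a)))
        obtain ⟨w, rfl⟩ := MonoidHom.mem_range.1 (hfr.ge (e.ge (Subgroup.mem_top b)))
        rw [← map_mul, ← map_mul, mul_comm]
  · -- elementary of order eight
    obtain ⟨hQc, hQ2⟩ := hQel
    haveI := hQc
    have hcm : ∀ x ∈ (Q : Subgroup N), ∀ y ∈ (Q : Subgroup N), x * y = y * x := fun x hx y hy =>
      congrArg Subtype.val (hQc.is_comm.comm ⟨x, hx⟩ ⟨y, hy⟩)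
    obtain ⟨b, hbQ, hbZ⟩ : ∃ b : N, b ∈ (Q : Subgroup N) ∧ (b : G) ∉ F.Z := by
      by_contra hcon
      push Not at hcon
      refine hTZ fun h hh => ?_
      have := F.ι_mem_Z.1 (hcon _ (hPQ h hh))
      exact ⟨this.2, this.1⟩
    -- everything is determined by the action on `Z`
    have hcl : ∀ x ∈ (Q : Subgroup N), (x : G) ∉ F.Z → ∀ y ∈ (Q : Subgroup N), (y : G) ∉ F.Z →
        (x : G)⁻¹ * y ∈ F.Z := by
      intro x hx hxZ y hy hyZ
      by_contra hne'
      set W := F.Z.subgroupOf N ⊔ Subgroup.zpowers x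
      have hWQ : W ≤ (Q : Subgroup N) := sup_le (fun u hu => hZQ u hu) (Subgroup.zpowers_le.2 hx)
      have h4 : Nat.card (F.Z.subgroupOf N) = 4 := by
        rw [Nat.card_congr (Subgroup.subgroupOfEquivOfLe hZN).toEquiv, F.card_Z]
      have hxx : x * x = 1 := by rw [← pow_two]; exact hQ2 x hx
      let T : Subgroup N :=
        { carrier := {u | (u : G) ∈ F.Z ∨ (x : G)⁻¹ * u ∈ F.Z}
          one_mem' := Or.inl F.Z.one_mem
          mul_mem' := by
            have hc : ∀ u : N, (u : G) ∈ F.Z → (x : G)⁻¹ * u = u * (x : G)⁻¹ := fun u hu =>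
              (F.comm_Z hu ((F.S : Subgroup G).inv_mem ((hQmem x).1 hx))).symm
            rintro u v (hu | hu) (hv | hv)
            · exact Or.inl (F.Z.mul_mem hu hv)
            · refine Or.inr ?_
              rw [Subgroup.coe_mul, ← mul_assoc, hc u hu, mul_assoc]
              exact F.Z.mul_mem hu hv
            · refine Or.inr ?_
              rw [Subgroup.coe_mul, ← mul_assoc]
              exact F.Z.mul_mem hu hv
            · refine Or.inl ?_
              have hv' := hc (⟨_, hZN hv⟩ : N) hv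
              have e : ((x : G)⁻¹ * u) * ((x : G)⁻¹ * v) = u * v := by
                have hu' := hc (⟨_, hZN hu⟩ : N) hu
                simp only at hu'
                have hxi : (x : G)⁻¹ = x := inv_eq_of_mul_eq_one_right (congrArg Subtype.val hxx)
                rw [← mul_assoc, ← hu', hxi, ← mul_assoc (x : G) x u,
                  show (x : G) * x = 1 from congrArg Subtype.val hxx, one_mul]
              rw [Subgroup.coe_mul, ← e]
              exact F.Z.mul_mem hu hv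
          inv_mem' := by
            intro u hu
            have hxi : (x : G)⁻¹ = x := inv_eq_of_mul_eq_one_right (congrArg Subtype.val hxx)
            rcases hu with hu | hu
            · exact Or.inl (F.Z.inv_mem hu)
            · refine Or.inr ?_
              have h := F.Z.inv_mem hu
              have hc := F.comm_Z h ((hQmem x).1 hx)
              rw [mul_inv_rev, inv_inv] at h hc
              rw [Subgroup.coe_inv, hxi]
              have : (x : G) * (u : G)⁻¹ = (u : G)⁻¹ * x := by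
                apply mul_right_cancel (b := (x : G))
                rw [mul_assoc, mul_assoc, ← hc, ← mul_assoc]
              rw [this]
              exact h }
      have hTQ : T ≤ (Q : Subgroup N) := by
        rintro u (hu | hu)
        · exact hZQ u hu
        · have := hZQ (x⁻¹ * u) hu
          simpa using (Q : Subgroup N).mul_mem hx this
      have hT5 : 4 < Nat.card T := by
        rw [← h4]
        refine lt_of_not_ge fun h => hxZ ?_
        have := Subgroup.eq_of_le_of_card_ge (show F.Z.subgroupOf N ≤ T from fun u hu => Or.inl hu) h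
        exact this.ge (Or.inr (by rw [inv_mul_cancel]; exact F.Z.one_mem))
      have hTd : Nat.card T ∣ Nat.card (Q : Subgroup N) := Subgroup.card_dvd_of_le hTQ
      obtain ⟨e, he⟩ := IsPGroup.iff_card.1 Q.isPGroup'
      have he3 : e ≤ 3 := by
        by_contra hc
        have := Nat.pow_le_pow_right (show 1 ≤ 2 by norm_num) (show 4 ≤ e by omega)
        omega
      obtain ⟨f, hf, hfe⟩ := (Nat.dvd_prime_pow Nat.prime_two).1 (he ▸ hTd)
      have hf3 : f = 3 := by
        have : 3 ≤ f := by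
          by_contra hc
          have := Nat.pow_le_pow_right (show 1 ≤ 2 by norm_num) (show f ≤ 2 by omega)
          omega
        omega
      have hTeq := Subgroup.eq_of_le_of_card_ge hTQ (by
        rw [he, hfe, hf3]; exact Nat.pow_le_pow_right (by norm_num) he3)
      rcases (hTeq.ge hy : y ∈ T) with h | h
      · exact hyZ h
      · exact hne' h
    -- a fixed element
    have hmem : ∀ n : N, n ∈ Subgroup.normalizer ((Q : Subgroup N) : Set N) → ∀ x ∈ (Q : Subgroup N),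
        n * x * n⁻¹ ∈ (Q : Subgroup N) := fun n hn x hx => (Subgroup.mem_normalizer_iff.1 hn x).1 hx
    have hZconj : ∀ n : N, n ∈ Subgroup.normalizer ((Q : Subgroup N) : Set N) → ∀ x : N, (x : G) ∈ F.Z →
        ((n * x * n⁻¹ : N) : G) ∈ F.Z := fun n hn x hx =>
      F.mem_Z_of_small hA hB hx ((hQmem _).1 (hmem n hn x (hZQ x hx)))
    -- an element moving a point of `Z`
    have hfixall : ∀ n : N, n ∈ Subgroup.normalizer ((Q : Subgroup N) : Set N) →
        (∀ x : N, (x : G) ∈ F.Z → n * x * n⁻¹ = x) → ∀ y ∈ (Q : Subgroup N), n * y * n⁻¹ = y := by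
      intro n hn hfix y hy
      by_cases hyZ : (y : G) ∈ F.Z
      · exact hfix y hyZ
      refine fix_of_sq Q hn (fun q hq => hcm q hq y hy) ?_
      have hy' := hmem n hn y hy
      have hy'Z : ((n * y * n⁻¹ : N) : G) ∉ F.Z := fun h => hyZ (by
        have := hZconj n⁻¹ (Subgroup.inv_mem _ hn) _ h
        rwa [show n⁻¹ * (n * y * n⁻¹) * n⁻¹⁻¹ = y by group] at this)
      have hd : (((y⁻¹ * (n * y * n⁻¹)) : N) : G) ∈ F.Z := hcl y hy hyZ _ hy' hy'Z
      set d := y⁻¹ * (n * y * n⁻¹) with hd'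
      have hyy : y * y = 1 := by rw [← pow_two]; exact hQ2 y hy
      have hdd : d * d = 1 := Subtype.ext (F.sq_A (F.Z_le_A hd))
      have e : n * y * n⁻¹ = y * d := by rw [hd']; group
      rw [e, show n * (y * d) * n⁻¹ = (n * y * n⁻¹) * (n * d * n⁻¹) by group, e, hfix d hd, mul_assoc, hdd,
        mul_one]
    obtain ⟨b₀, hb₀Q, hb₀Z, hb₀fix⟩ : ∃ b₀ : N, b₀ ∈ (Q : Subgroup N) ∧ (b₀ : G) ∉ F.Z ∧
        ∀ n : N, n ∈ Subgroup.normalizer ((Q : Subgroup N) : Set N) → n * b₀ * n⁻¹ = b₀ := by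
      by_cases hmove : ∃ n : N, n ∈ Subgroup.normalizer ((Q : Subgroup N) : Set N) ∧
          ∃ x : N, (x : G) ∈ F.Z ∧ n * x * n⁻¹ ≠ x
      swap
      · push Not at hmove
        exact ⟨b, hbQ, hbZ, fun n hn => hfixall n hn (hmove n hn) b hbQ⟩
      obtain ⟨n, hn, x, hx, hnx⟩ := hmove
      -- `n` is a three-cycle on `Z`
      set y := n * x * n⁻¹ with hydef
      have hy : (y : G) ∈ F.Z := hZconj n hn x hx
      have hx1 : (x : G) ≠ 1 := fun e => hnx (by rw [hydef, show x = 1 from Subtype.ext e]; group)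
      have hy1 : (y : G) ≠ 1 := fun e => hx1 (congrArg Subtype.val
        (conj_eq_one_iff.1 (Subtype.ext e : n * x * n⁻¹ = 1)))
      have hxy : (x : G) ≠ y := fun e => hnx (Subtype.ext e.symm)
      have hny : n * y * n⁻¹ = x * y := by
        refine Subtype.ext ?_
        rcases F.Z_cases hx hy (hZconj n hn y hy) hx1 hy1 hxy with e | e | e | e
        · exact absurd (congrArg Subtype.val (conj_eq_one_iff.1 (Subtype.ext e : n * y * n⁻¹ = 1))) hy1
        · exact absurd (fix_of_sq Q hn (fun q hq => hcm q hq x (hZQ x hx)) (Subtype.ext e)) hnx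
        · exact absurd (mul_left_cancel (mul_right_cancel ((Subtype.ext e : n * y * n⁻¹ = y).trans hydef))) 
            (fun h : y = x => hxy (congrArg Subtype.val h).symm)
        · exact e
      have hzz : ∀ u : N, (u : G) ∈ F.Z → u * u = 1 := fun u hu => Subtype.ext (F.sq_A (F.Z_le_A hu))
      have hzc : ∀ u v : N, (u : G) ∈ F.Z → (v : G) ∈ F.Z → u * v = v * u := fun u v hu hv =>
        hcm u (hZQ u hu) v (hZQ v hv)
      have hnxy : n * (x * y) * n⁻¹ = x := by
        rw [show n * (x * y) * n⁻¹ = (n * x * n⁻¹) * (n * y * n⁻¹) by group, hny, ← hydef,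
          hzc x y hx hy, ← mul_assoc, hzz y hy, one_mul]
      -- correct `b` to a fixed element
      have hb' := hmem n hn b hbQ
      have hb'Z : ((n * b * n⁻¹ : N) : G) ∉ F.Z := fun h => hbZ (by
        have := hZconj n⁻¹ (Subgroup.inv_mem _ hn) _ h
        rwa [show n⁻¹ * (n * b * n⁻¹) * n⁻¹⁻¹ = b by group] at this)
      have hd : (((b⁻¹ * (n * b * n⁻¹)) : N) : G) ∈ F.Z := hcl b hbQ hbZ _ hb' hb'Z
      set d := b⁻¹ * (n * b * n⁻¹) with hd'
      have hnb : n * b * n⁻¹ = b * d := by rw [hd']; group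
      obtain ⟨c, hc, hcd⟩ : ∃ c : N, (c : G) ∈ F.Z ∧ c * (n * c * n⁻¹) = d := by
        rcases F.Z_cases hx hy hd hx1 hy1 hxy with e | e | e | e
        · exact ⟨1, F.Z.one_mem, by rw [show d = 1 from Subtype.ext e]; group⟩
        · exact ⟨y, hy, Subtype.ext (by
            rw [hny, hzc x y hx hy, ← mul_assoc, hzz y hy, one_mul, e])⟩
        · exact ⟨x * y, F.Z.mul_mem hx hy, Subtype.ext (by
            rw [hnxy, hzc x y hx hy, mul_assoc, hzz x hx, mul_one, e])⟩
        · exact ⟨x, hx, Subtype.ext (by rw [← hydef, e]; rfl)⟩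
      have hcQ := hZQ c hc
      have hnbc : n * (b * c) * n⁻¹ = b * c := by
        rw [show n * (b * c) * n⁻¹ = (n * b * n⁻¹) * (n * c * n⁻¹) by group, hnb, ← hcd, mul_assoc b,
          mul_assoc c, hzz _ (hZconj n hn c hc), mul_one]
      refine ⟨b * c, (Q : Subgroup N).mul_mem hbQ hcQ, fun h => hbZ ?_, fun m hm => ?_⟩
      · exact (Subgroup.mul_mem_cancel_right _ hc).1 h
      -- `m` differs from a power of `n` by a map fixing `Z`
      obtain ⟨i, hi⟩ : ∃ i : ℕ, n ^ i * x * (n ^ i)⁻¹ = m * x * m⁻¹ := by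
        rcases F.Z_cases hx hy (hZconj m hm x hx) hx1 hy1 hxy with e | e | e | e
        · exact absurd (congrArg Subtype.val (conj_eq_one_iff.1 (Subtype.ext e : m * x * m⁻¹ = 1))) hx1
        · exact ⟨0, by rw [pow_zero, one_mul, inv_one, mul_one]; exact (Subtype.ext e).symm⟩
        · exact ⟨1, by rw [pow_one, ← hydef]; exact (Subtype.ext e).symm⟩
        · refine ⟨2, ?_⟩
          rw [show n ^ 2 * x * (n ^ 2)⁻¹ = n * (n * x * n⁻¹) * n⁻¹ by rw [pow_two]; group, ← hydef, hny]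
          exact (Subtype.ext e).symm
      set q := (n ^ i)⁻¹ * m with hq
      have hqn : q ∈ Subgroup.normalizer ((Q : Subgroup N) : Set N) :=
        Subgroup.mul_mem _ (Subgroup.inv_mem _ (Subgroup.pow_mem _ hn i)) hm
      have hqx : q * x * q⁻¹ = x := by
        rw [hq, show (n ^ i)⁻¹ * m * x * ((n ^ i)⁻¹ * m)⁻¹ = (n ^ i)⁻¹ * (m * x * m⁻¹) * n ^ i by group, ← hi]
        group
      have hqy : q * y * q⁻¹ = y := by
        rcases F.Z_cases hx hy (hZconj q hqn y hy) hx1 hy1 hxy with e | e | e | e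
        · exact absurd (congrArg Subtype.val (conj_eq_one_iff.1 (Subtype.ext e : q * y * q⁻¹ = 1))) hy1
        · exact absurd (congrArg Subtype.val
            (mul_left_cancel (mul_right_cancel ((Subtype.ext e : q * y * q⁻¹ = x).trans hqx.symm)))).symm hxy
        · exact Subtype.ext e
        · have e' : q * y * q⁻¹ = x * y := Subtype.ext e
          refine fix_of_sq Q hqn (fun r hr => hcm r hr y (hZQ y hy)) ?_
          rw [e', show q * (x * y) * q⁻¹ = (q * x * q⁻¹) * (q * y * q⁻¹) by group, hqx, e', ← mul_assoc,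
            hzz x hx, one_mul]
      have hqfix : ∀ u : N, (u : G) ∈ F.Z → q * u * q⁻¹ = u := by
        intro u hu
        rcases F.Z_cases hx hy hu hx1 hy1 hxy with e | e | e | e
        · rw [show u = 1 from Subtype.ext e]; group
        · rw [show u = x from Subtype.ext e]; exact hqx
        · rw [show u = y from Subtype.ext e]; exact hqy
        · rw [show u = x * y from Subtype.ext e,
            show q * (x * y) * q⁻¹ = (q * x * q⁻¹) * (q * y * q⁻¹) by group, hqx, hqy]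
      have hpow : ∀ j : ℕ, n ^ j * (b * c) * (n ^ j)⁻¹ = b * c := by
        intro j
        induction j with
        | zero => simp
        | succ j ih =>
          rw [pow_succ', show n * n ^ j * (b * c) * (n * n ^ j)⁻¹ =
            n * (n ^ j * (b * c) * (n ^ j)⁻¹) * n⁻¹ by group, ih, hnbc]
      calc m * (b * c) * m⁻¹ = n ^ i * (q * (b * c) * q⁻¹) * (n ^ i)⁻¹ := by rw [hq]; group
        _ = b * c := by rw [hfixall q hqn hqfix _ ((Q : Subgroup N).mul_mem hbQ hcQ), hpow]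
    have hb₀2 : orderOf b₀ = 2 :=
      orderOf_eq_prime (hQ2 b₀ hb₀Q) fun e => hb₀Z (by rw [e]; exact F.Z.one_mem)
    refine false_of_isolated hNF (x := b₀) (ZStar.isolated_of_sylow Q hb₀2 hb₀Q fun g hg => ?_)
    have hcQ : ∀ u ∈ (Q : Subgroup N), u ∈ Subgroup.centralizer ((Q : Subgroup N) : Set N) := fun u hu =>
      Subgroup.mem_centralizer_iff.2 fun v hv => hcm v hv u hu
    obtain ⟨n, hn, he⟩ := Q.conj_eq_normalizer_conj_of_mem_centralizer b₀ g⁻¹ (hcQ _ hb₀Q)
      (by rw [inv_inv]; exact hcQ _ hg)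
    rw [inv_inv] at he
    rw [he]
    have := hb₀fix n⁻¹ (Subgroup.inv_mem _ hn)
    rwa [inv_inv] at this

/-- If both are small then `Z` is normal. -/
theorem Z_normal_of_small (hO : Cfsg.oddCore G = ⊥) : F.Z.Normal := by
  by_cases hc : F.Z ≤ Subgroup.center G
  · exact ⟨fun z hz g => by rw [Subgroup.mem_center_iff.1 (hc hz) g, mul_inv_cancel_right]; exact hz⟩
  haveI := F.nontrivial
  obtain ⟨N, hN, h0, hmin⟩ := Cores.exists_minimal_normal (G := G)
  haveI := hN
  have hab := F.abelian_of_small hA hB hO hc h0 hmin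
  have hNS : N ≤ (F.S : Subgroup G) := by
    rcases F.le_A_or_B_of_abelian hO h0 hmin hab with h | h
    · exact h.trans F.A_le
    · exact h.trans F.B_le
  exact ⟨fun z hz g => F.mem_Z_of_small hA hB hz
    (hNS (hN.conj_mem z (F.Z_le_of_normal hA hB hO hc hN h0 hz) g))⟩

/-- If both are small then `S` is normal. -/
theorem S_normal_of_small (hO : Cfsg.oddCore G = ⊥) : (F.S : Subgroup G).Normal := by
  haveI : Fact (Nat.Prime 2) := ⟨Nat.prime_two⟩
  haveI hZn := F.Z_normal_of_small hA hB hO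
  set M := Subgroup.centralizer (F.Z : Set G)
  have hSM : (F.S : Subgroup G) ≤ M := fun s hs =>
    Subgroup.mem_centralizer_iff.2 fun z hz => F.comm_Z hz hs
  set W := F.Z.subgroupOf M
  have hWc : W ≤ Subgroup.center M := fun w hw => Subgroup.mem_center_iff.2 fun m =>
    Subtype.ext (Subgroup.mem_centralizer_iff.1 m.2 _ hw).symm
  haveI hWn : W.Normal := Subgroup.normal_subgroupOf
  have hW2 : IsPGroup 2 W := IsPGroup.of_card (n := 2) (by
    rw [Nat.card_congr (Subgroup.subgroupOfEquivOfLe (F.Z_le_A.trans (F.A_le.trans hSM))).toEquiv, F.card_Z]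
    norm_num)
  have hOM : Cfsg.oddCore M = ⊥ := by
    refine (Subgroup.map_eq_bot_iff_of_injective _ M.subtype_injective).1 ?_
    rw [Cores.pPrimeCore_map_subtype, show Cfsg.pPrimeCore 2 G = ⊥ from hO, bot_inf_eq]
  let π := QuotientGroup.mk' W
  have hOq : Cfsg.pPrimeCore 2 (M ⧸ W) = ⊥ := by
    haveI := Cores.pPrimeCore_normal 2 (M ⧸ W)
    set L := (Cfsg.pPrimeCore 2 (M ⧸ W)).comap π with hL
    have hWL : W ≤ L := fun x hx => by
      show π x ∈ Cfsg.pPrimeCore 2 (M ⧸ W)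
      rw [show π x = 1 from (QuotientGroup.eq_one_iff x).2 hx]; exact one_mem _
    have hidx : ¬ 2 ∣ (W.subgroupOf L).index := by
      have hker : (π.subgroupComap (Cfsg.pPrimeCore 2 (M ⧸ W))).ker = W.subgroupOf L := by
        ext x
        rw [MonoidHom.mem_ker, Subgroup.mem_subgroupOf]
        exact ⟨fun h => (QuotientGroup.eq_one_iff _).1 (congrArg Subtype.val h),
          fun h => Subtype.ext ((QuotientGroup.eq_one_iff _).2 h)⟩
      rw [← hker, Subgroup.index_ker, MonoidHom.range_eq_top.2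
        (MonoidHom.subgroupComap_surjective_of_surjective π _ (QuotientGroup.mk'_surjective W)),
        Subgroup.card_top]
      exact Cores.not_dvd_card_pPrimeCore
    have hOL : Cfsg.oddCore L = ⊥ := by
      refine (Subgroup.map_eq_bot_iff_of_injective _ L.subtype_injective).1 ?_
      rw [Cores.pPrimeCore_map_subtype, show Cfsg.pPrimeCore 2 M = ⊥ from hOM, bot_inf_eq]
    have htop := eq_top_of_central hOL ((hW2.comap_subtype (K := L)).toSylow hidx) (fun x hx =>
      Subgroup.mem_center_iff.2 fun y => Subtype.ext (Subgroup.mem_center_iff.1 (hWc hx) y))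
    refine (Subgroup.eq_bot_iff_forall _).2 fun q hq => ?_
    obtain ⟨x, rfl⟩ := QuotientGroup.mk'_surjective W q
    exact (QuotientGroup.eq_one_iff x).2 ((Subgroup.subgroupOf_eq_top.1 htop) hq)
  set Q : Sylow 2 M := F.S.subtype hSM
  have hQmem : ∀ x : M, x ∈ (Q : Subgroup M) ↔ (x : G) ∈ (F.S : Subgroup G) := fun x => Iff.rfl
  -- the two closed sets
  let T : Frm G → Set (M ⧸ W) := fun F' => {q | ∃ a : M, (a : G) ∈ F'.A ∧ ∃ m : M, π (m * a * m⁻¹) = q}
  have hmapQ : ∀ P : Subgroup (M ⧸ W), IsPGroup 2 P → ∃ m : M, ∀ x : M, π x ∈ P →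
      ((m * x * m⁻¹ : M) : G) ∈ (F.S : Subgroup G) := by
    intro P hP
    have hker : π.ker = W := QuotientGroup.ker_mk' W
    have hP' : IsPGroup 2 (P.comap π) := hP.comap_of_ker_isPGroup π (hker.symm ▸ hW2)
    obtain ⟨R, hR⟩ := hP'.exists_le_sylow
    obtain ⟨m, hm⟩ := MulAction.exists_smul_eq M R Q
    refine ⟨m, fun x hx => (hQmem _).1 ?_⟩
    rw [← hm, smul_sylow_eq]
    exact map_conj_mem (hR hx)
  have hclosed : ∀ F' : Frm G, F'.S = F.S → F'.Z = F.Z → F'.swap.Small → ClosedPair.Closed (T F') := by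
    intro F' hS' hZ' hB'
    constructor
    · exact ⟨1, F'.A.one_mem, 1, by simp⟩
    · rintro g q ⟨a, ha, m, rfl⟩
      obtain ⟨g', rfl⟩ := QuotientGroup.mk'_surjective W g
      exact ⟨a, ha, g' * m, by rw [← map_inv, ← map_mul, ← map_mul]; congr 1; group⟩
    · rintro q ⟨a, ha, m, rfl⟩
      refine ⟨1, ?_⟩
      rw [← map_pow, pow_one, pow_two,
        show (m * a * m⁻¹) * (m * a * m⁻¹) = m * (a * a) * m⁻¹ by group,
        show a * a = 1 from Subtype.ext (F'.sq_A ha), mul_one, mul_inv_cancel, map_one]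
    · intro P hP q hq r hr ⟨a, ha, m, e⟩ ⟨b, hb, n, e'⟩
      obtain ⟨g, hg⟩ := hmapQ P hP
      have h1 : ((g * m * a * (g * m)⁻¹ : M) : G) ∈ (F'.S : Subgroup G) := by
        rw [hS', show g * m * a * (g * m)⁻¹ = g * (m * a * m⁻¹) * g⁻¹ by group]
        exact hg _ (by rw [e]; exact hq)
      have h2 : ((g * n * b * (g * n)⁻¹ : M) : G) ∈ (F'.S : Subgroup G) := by
        rw [hS', show g * n * b * (g * n)⁻¹ = g * (n * b * n⁻¹) * g⁻¹ by group]
        exact hg _ (by rw [e']; exact hr)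
      refine ⟨g * m * a * (g * m)⁻¹ * (g * n * b * (g * n)⁻¹), F'.A.mul_mem ?_ ?_, g⁻¹, ?_⟩
      · exact F'.mem_A_of_small hB' ha h1
      · exact F'.mem_A_of_small hB' hb h2
      · rw [← e, ← e', ← map_mul]
        congr 1
        group
  have hswZ : F.swap.Z = F.Z := F.swap_Z
  have hswsw : F.swap.swap.Small := by
    unfold Small at *
    rw [F.swap.swap_A, F.swap.swap_Z, F.swap_B, F.swap_Z]
    exact hA
  have hpair : ClosedPair.ClosedPair (T F) (T F.swap) := by
    refine ⟨hclosed F rfl rfl hB, hclosed F.swap rfl hswZ hswsw, ?_, ?_⟩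
    · intro P hP q hq r hr ⟨a, ha, m, e⟩ ⟨b, hb, n, e'⟩
      obtain ⟨g, hg⟩ := hmapQ P hP
      subst e e'
      have h1 := hg _ hq
      have h2 := hg _ hr
      have hc : π (g * (m * a * m⁻¹) * g⁻¹) * π (g * (n * b * n⁻¹) * g⁻¹) =
          π (g * (n * b * n⁻¹) * g⁻¹) * π (g * (m * a * m⁻¹) * g⁻¹) := by
        set x := g * (m * a * m⁻¹) * g⁻¹
        set y := g * (n * b * n⁻¹) * g⁻¹
        rw [← map_mul, ← map_mul]
        refine QuotientGroup.eq.2 ?_
        show (((x * y)⁻¹ * (y * x) : M) : G) ∈ F.Z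
        obtain ⟨u, hu⟩ := F.mem_S.1 h1
        obtain ⟨v, hv⟩ := F.mem_S.1 h2
        simp only [Subgroup.coe_mul, Subgroup.coe_inv, ← hu, ← hv, ← map_mul, ← map_inv]
        refine F.ι_mem_Z.2 ⟨?_, ?_⟩
        · simp only [H3.mul_b, H3.inv_b]
          rw [add_comm v.b u.b, H3.add_self]
        · simp only [H3.mul_a, H3.inv_a]
          rw [add_comm v.a u.a, H3.add_self]
      simp only [map_mul, map_inv] at hc ⊢
      calc π m * π a * (π m)⁻¹ * (π n * π b * (π n)⁻¹)
          = (π g)⁻¹ * (π g * (π m * π a * (π m)⁻¹) * (π g)⁻¹ * (π g * (π n * π b * (π n)⁻¹) * (π g)⁻¹)) * π g := by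
            group
        _ = _ := by rw [hc]; group
    · rintro q ⟨a, ha, m, rfl⟩ ⟨b, hb, n, e⟩
      have hb' : π b = π ((n⁻¹ * m) * a * (n⁻¹ * m)⁻¹) := by
        calc π b = (π n)⁻¹ * π (n * b * n⁻¹) * π n := by simp only [map_mul, map_inv]; group
          _ = _ := by rw [e]; simp only [map_mul, map_inv]; group
      set c := n⁻¹ * m
      have hzW : b⁻¹ * (c * a * c⁻¹) ∈ W := QuotientGroup.eq.1 hb'
      have hz : (((b⁻¹ * (c * a * c⁻¹)) : M) : G) ∈ F.Z := hzW
      have hbB : (b : G) ∈ F.B := F.swap_A ▸ hb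
      have hcaB : ((c * a * c⁻¹ : M) : G) ∈ F.B := by
        have := F.B.mul_mem hbB (F.Z_le_B hz)
        rwa [← Subgroup.coe_mul, mul_inv_cancel_left] at this
      have hcaA : ((c * a * c⁻¹ : M) : G) ∈ F.A := F.mem_A_of_small hB ha (F.B_le hcaB)
      have hcaZ : ((c * a * c⁻¹ : M) : G) ∈ F.Z := by rw [F.Z_eq]; exact ⟨hcaA, hcaB⟩
      have haZ : a ∈ W := by
        have := hWn.conj_mem (c * a * c⁻¹) hcaZ c⁻¹
        rwa [show c⁻¹ * (c * a * c⁻¹) * c⁻¹⁻¹ = a by group] at this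
      exact (QuotientGroup.eq_one_iff _).2 (hWn.conj_mem a haZ m)
  have hcomm := ClosedPair.commute_of_core_eq_bot hOq hpair
  -- the normal closures
  have hclosure : ∀ F₁ F₂ : Frm G, F₁.S = F.S → F₂.S = F.S → F₁.Z = F.Z → F₁.swap.Small → F₁.B = F₂.A →
      F₂.B = F₁.A →
      (∀ x ∈ T F₁, ∀ y ∈ T F₂, x * y = y * x) → ∀ g : M, ∀ a : M, (a : G) ∈ F₁.A →
      ((g * a * g⁻¹ : M) : G) ∈ F₁.A := by
    intro F₁ F₂ h1 h2 hZ1 hs hBA hBA' hc g a ha
    set U := Subgroup.normalClosure ((F₁.A.subgroupOf M : Subgroup M) : Set M)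
    set V := Subgroup.normalClosure ((F₂.A.subgroupOf M : Subgroup M) : Set M)
    have hπ : ∀ (F' : Frm G) (N' : Subgroup (M ⧸ W)), (∀ x ∈ T F', x ∈ N') →
        Subgroup.normalClosure ((F'.A.subgroupOf M : Subgroup M) : Set M) ≤ N'.comap π := by
      intro F' N' h
      rw [Subgroup.normalClosure, Subgroup.closure_le]
      intro x hx
      obtain ⟨k, hk, hcj⟩ := Group.mem_conjugatesOfSet_iff.1 hx
      obtain ⟨m, rfl⟩ := isConj_iff.1 hcj
      exact h _ ⟨k, hk, m, rfl⟩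
    have hUV : ∀ u ∈ U, ∀ v ∈ V, π u * π v = π v * π u := by
      intro u hu v hv
      have h1' : U ≤ (Subgroup.centralizer (T F₂)).comap π := hπ F₁ _ fun x hx =>
        Subgroup.mem_centralizer_iff.2 fun y hy => (hc x hx y hy).symm
      have h2' : V ≤ (Subgroup.centralizer ({π u} : Set (M ⧸ W))).comap π := hπ F₂ _ fun x hx =>
        Subgroup.mem_centralizer_singleton_iff.2 (Subgroup.mem_centralizer_iff.1 (h1' hu) x hx)
      exact (Subgroup.mem_centralizer_singleton_iff.1 (h2' hv)).symm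
    set R := U ⊓ Subgroup.centralizer (V : Set M)
    -- elements of odd order centralise
    have hodd : ∀ u ∈ U, Odd (orderOf u) → u ∈ R := by
      intro u hu ho
      refine ⟨hu, Subgroup.mem_centralizer_iff.2 fun v hv => ?_⟩
      have hmem : ∀ i : ℕ, (u ^ i * v * (u ^ i)⁻¹ * v⁻¹) ∈ W := fun i => by
        refine (QuotientGroup.eq_one_iff _).1 ?_
        show π (u ^ i * v * (u ^ i)⁻¹ * v⁻¹) = 1
        simp only [map_mul, map_inv]
        rw [hUV _ (U.pow_mem hu i) v hv]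
        group
      set w := u * v * u⁻¹ * v⁻¹ with hw
      have hw1 : w ∈ W := by simpa using hmem 1
      have hpow : ∀ i : ℕ, u ^ i * v * (u ^ i)⁻¹ * v⁻¹ = w ^ i := by
        intro i
        induction i with
        | zero => simp
        | succ i ih =>
          rw [pow_succ', pow_succ, ← ih]
          calc u * u ^ i * v * (u * u ^ i)⁻¹ * v⁻¹
              = u * (u ^ i * v * (u ^ i)⁻¹ * v⁻¹) * u⁻¹ * w := by rw [hw]; group
            _ = _ := by
              rw [Subgroup.mem_center_iff.1 (hWc (hmem i)) u, mul_inv_cancel_right]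
      have h := hpow (orderOf u)
      rw [pow_orderOf_eq_one, inv_one, one_mul, mul_one, mul_inv_cancel] at h
      have hw2 : w * w = 1 := Subtype.ext (F.sq_A (F.Z_le_A hw1))
      obtain ⟨j, hj⟩ := ho
      rw [hj, pow_succ, pow_mul, pow_two, hw2, one_pow, one_mul] at h
      rw [← h, eq_comm, mul_inv_eq_one, mul_inv_eq_iff_eq_mul] at hw
      exact hw.symm
    haveI hRn : R.Normal := inferInstance
    obtain ⟨QR, hQR⟩ := Cores.sylow_inf_isSubnormal Q hRn.isSubnormal
    have hF2V : ∀ y : M, (y : G) ∈ F₂.A → y ∈ V := fun y hy =>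
      Subgroup.subset_normalClosure (show y ∈ F₂.A.subgroupOf M from hy)
    have hQRc : (QR : Subgroup R) ≤ Subgroup.center R := by
      intro x hx
      rw [hQR, Subgroup.mem_subgroupOf, hQmem] at hx
      have hxA : ((x : M) : G) ∈ F₂.A := by
        refine F₂.mem_A_of_forall_comm (h2 ▸ hx) fun y hy => ?_
        have hyM : y ∈ M := hSM (h2 ▸ F₂.A_le hy)
        exact (congrArg Subtype.val (Subgroup.mem_centralizer_iff.1 x.2.2 ⟨y, hyM⟩ (hF2V _ hy))).symm
      exact Subgroup.mem_center_iff.2 fun y => Subtype.ext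
        (Subgroup.mem_centralizer_iff.1 y.2.2 _ (hF2V _ hxA)).symm
    have hOR : Cfsg.oddCore R = ⊥ := by
      refine (Subgroup.map_eq_bot_iff_of_injective _ R.subtype_injective).1 ?_
      rw [Cores.pPrimeCore_map_subtype, show Cfsg.pPrimeCore 2 M = ⊥ from hOM, bot_inf_eq]
    have hRtop := eq_top_of_central hOR QR hQRc
    have hU2 : IsPGroup 2 U := by
      refine Cfsg.Agent.CharP.isPGroup_of_coprime_eq_one fun u hu hco => ?_
      have ho : Odd (orderOf u) := Nat.coprime_two_right.1 hco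
      have hR := hodd u hu ho
      obtain ⟨k, hk⟩ := (IsPGroup.iff_orderOf (p := 2)).1 QR.isPGroup' ⟨⟨u, hR⟩, hRtop.ge (Subgroup.mem_top _)⟩
      rw [Subgroup.orderOf_mk, Subgroup.orderOf_mk] at hk
      rw [← orderOf_eq_one_iff, hk]
      rcases k with _ | k
      · rfl
      · rw [hk, pow_succ'] at ho
        exact absurd ho (Nat.not_odd_iff_even.2 (even_two_mul _))
    have hUS : U ≤ (Q : Subgroup M) := le_sylow_of_normal hU2 Q
    exact F₁.mem_A_of_small hs ha (h1 ▸ (hQmem _).1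
      (hUS (Subgroup.normalClosure_normal.conj_mem a (Subgroup.subset_normalClosure (show a ∈ _ from ha)) g)))
  have hnA := hclosure F F.swap rfl rfl rfl hB F.swap_A.symm F.swap_B hcomm
  have hnB := hclosure F.swap F rfl rfl hswZ hswsw F.swap_B F.swap_A.symm
    fun x hx y hy => (hcomm y hy x hx).symm
  have hSn : ∀ g : M, ∀ x : M, (x : G) ∈ (F.S : Subgroup G) → ((g * x * g⁻¹ : M) : G) ∈ (F.S : Subgroup G) := by
    intro g x hx
    obtain ⟨h, hh⟩ := F.mem_S.1 hx
    set a : M := ⟨F.ι ⟨h.a, 0, h.c + h.a * h.b⟩, hSM (F.ι_mem _)⟩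
    set b : M := ⟨F.ι ⟨0, h.b, 0⟩, hSM (F.ι_mem _)⟩
    have e : x = a * b := by
      refine Subtype.ext ?_
      rw [Subgroup.coe_mul, ← hh, ← map_mul]
      congr 1
      ext <;> simp [add_assoc, H3.add_self]
    rw [e, show g * (a * b) * g⁻¹ = (g * a * g⁻¹) * (g * b * g⁻¹) by group, Subgroup.coe_mul]
    refine (F.S : Subgroup G).mul_mem (F.A_le (hnA g a (F.ι_mem_A.2 rfl))) ?_
    exact F.B_le (F.swap_A ▸ hnB g b (by rw [F.swap_A]; exact F.ι_mem_B.2 rfl))
  haveI hQn : (Q : Subgroup M).Normal := ⟨fun x hx g => (hQmem _).2 (hSn g x ((hQmem x).1 hx))⟩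
  haveI hMn : M.Normal := inferInstance
  refine ⟨fun x hx g => ?_⟩
  have hP : IsPGroup 2 (((F.S : Subgroup G).map (MulAut.conj g).toMonoidHom).subgroupOf M) :=
    (F.S.isPGroup'.map _).comap_subtype
  obtain ⟨R, hR⟩ := hP.exists_le_sylow
  haveI := Sylow.unique_of_normal Q hQn
  rw [Subsingleton.elim R Q] at hR
  exact (hQmem ⟨_, hMn.conj_mem x (hSM hx) g⟩).1 (hR (Subgroup.mem_subgroupOf.2 (map_conj_mem hx)))

end Frm

end Cfsg.Agent.L34Sylow
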