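import Cfsg.Agent.EqLemmas
import Cfsg.Agent.Lib.L34Sylow.Small
import Cfsg.Agent.Lib.CoreKilling.SolvableMain
import Cfsg.Agent.Lib.Bender.CoreInCore
import Cfsg.Agent.Lib.Bender.RankOneHalf
import Cfsg.Agent.Lib.MinNonCA.Basic

/-!
# Centralisers of involutions when neither subgroup is small (S3198)

* `Frm.restrict`, `Frm.quot` : coordinates on subgroups and quotients
* `Frm.one_class_of_big` : one class of involutions
* `Frm.le_S_of_centralizer` : `S` is the Sylow 2-subgroup of the centraliser of an element of `Z`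
* `Frm.eq_one_of_inverted`, `Frm.centralizer_A_le`
-/

set_option autoImplicit false

open Cfsg

namespace Cfsg.Agent.L34Sylow

open Cfsg.Agent.SU32 (K4)

universe u

theorem centralizer_map_conj {G : Type*} [Group G] (g z : G) :
    (Subgroup.centralizer ({z} : Set G)).map (MulAut.conj g).toMonoidHom =
      Subgroup.centralizer ({g * z * g⁻¹} : Set G) := by
  ext x
  rw [mem_map_conj, Subgroup.mem_centralizer_singleton_iff, Subgroup.mem_centralizer_singleton_iff]
  constructor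
  · intro h
    calc x * (g * z * g⁻¹) = g * (g⁻¹ * x * g * z) * g⁻¹ := by group
      _ = _ := by rw [h]; group
  · intro h
    calc g⁻¹ * x * g * z = g⁻¹ * (x * (g * z * g⁻¹)) * g := by group
      _ = _ := by rw [h]; group

namespace Frm

variable {G : Type u} [Group G] (F : Frm G)

/-- Coordinates on a subgroup containing `S`. -/
noncomputable def restrict (C : Subgroup G) (h : (F.S : Subgroup G) ≤ C) : Frm C where
  S := F.S.subtype h
  ι := F.ι.codRestrict C fun x => h (F.ι_mem x)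
  inj := fun x y e => F.inj (congrArg Subtype.val e)
  range_eq := by
    ext x
    constructor
    · rintro ⟨y, rfl⟩
      exact F.ι_mem y
    · intro hx
      obtain ⟨y, hy⟩ := F.mem_S.1 (show (x : G) ∈ (F.S : Subgroup G) from hx)
      exact ⟨y, Subtype.ext hy⟩

theorem mem_restrict_A {C : Subgroup G} {h : (F.S : Subgroup G) ≤ C} {x : C} :
    x ∈ (F.restrict C h).A ↔ (x : G) ∈ F.A := by
  constructor
  · rintro ⟨y, hy, rfl⟩
    exact ⟨y, hy, rfl⟩
  · rintro ⟨y, hy, e⟩
    exact ⟨y, hy, Subtype.ext e⟩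

theorem mem_restrict_Z {C : Subgroup G} {h : (F.S : Subgroup G) ≤ C} {x : C} :
    x ∈ (F.restrict C h).Z ↔ (x : G) ∈ F.Z := by
  constructor
  · rintro ⟨y, hy, rfl⟩
    exact ⟨y, hy, rfl⟩
  · rintro ⟨y, hy, e⟩
    exact ⟨y, hy, Subtype.ext e⟩

theorem swap_restrict (C : Subgroup G) (h : (F.S : Subgroup G) ≤ C) :
    F.swap.restrict C h = (F.restrict C h).swap := rfl

variable [Finite G]

/-- Coordinates on a quotient by a group of odd order. -/
noncomputable def quot (N : Subgroup G) [N.Normal] (hN : Odd (Nat.card N)) : Frm (G ⧸ N) where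
  S := F.S.mapSurjective (QuotientGroup.mk'_surjective N)
  ι := (QuotientGroup.mk' N).comp F.ι
  inj := by
    rw [injective_iff_map_eq_one]
    intro x hx
    have h1 : F.ι x ∈ N := (QuotientGroup.eq_one_iff _).1 hx
    have h2 : orderOf (F.ι x) = 1 := by
      refine Nat.eq_one_of_dvd_coprimes (a := Nat.card N) (b := 64) ?_ (Subgroup.orderOf_dvd_natCard _ h1) ?_
      · rw [show (64 : ℕ) = 2 ^ 6 by norm_num]
        exact Nat.Coprime.pow_right 6 (Nat.coprime_two_right.2 hN)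
      · rw [← F.card_S]
        exact Subgroup.orderOf_dvd_natCard _ (F.ι_mem x)
    exact F.inj ((orderOf_eq_one_iff.1 h2).trans (map_one _).symm)
  range_eq := by
    rw [MonoidHom.range_comp, F.range_eq, Sylow.coe_mapSurjective]

theorem swap_quot (N : Subgroup G) [N.Normal] (hN : Odd (Nat.card N)) :
    F.swap.quot N hN = (F.quot N hN).swap := rfl

theorem quot_small {N : Subgroup G} [hNn : N.Normal] (hN : Odd (Nat.card N)) (h : F.Small) :
    (F.quot N hN).Small := by
  haveI : Fact (Nat.Prime 2) := ⟨Nat.prime_two⟩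
  rintro q - ⟨y, hy, rfl⟩ ⟨a, ha, e⟩
  obtain ⟨g, rfl⟩ := QuotientGroup.mk'_surjective N q
  have e' : (QuotientGroup.mk' N) (F.ι a) = (QuotientGroup.mk' N) (g * F.ι y * g⁻¹) := by
    rw [map_mul, map_mul, map_inv]; exact e
  set t := g * F.ι y * g⁻¹ with ht
  have haA : F.ι a ∈ F.A := ⟨a, ha, rfl⟩
  have htM : t ∈ F.A ⊔ N := by
    rw [show t = F.ι a * ((F.ι a)⁻¹ * t) by group]
    exact Subgroup.mul_mem_sup haA (QuotientGroup.eq.1 e')
  set M := F.A ⊔ N
  have hA2 : IsPGroup 2 (F.A.subgroupOf M) :=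
    (IsPGroup.of_card (n := 4) (by rw [F.card_A]; norm_num) : IsPGroup 2 F.A).comap_subtype
  have hidx : ¬ 2 ∣ (F.A.subgroupOf M).index := by
    intro h2
    have h1 : Nat.card (F.A.subgroupOf M) * (F.A.subgroupOf M).index ∣ Nat.card F.A * Nat.card N := by
      rw [Subgroup.card_mul_index]
      exact Cores.card_sup_dvd F.A N
    rw [Nat.card_congr (Subgroup.subgroupOfEquivOfLe (le_sup_left : F.A ≤ M)).toEquiv] at h1
    exact Nat.not_even_iff_odd.2 hN (even_iff_two_dvd.2 (h2.trans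
      (Nat.dvd_of_mul_dvd_mul_left Nat.card_pos h1)))
  have ht2 : IsPGroup 2 (Subgroup.zpowers t) := by
    by_cases hy1 : F.ι y = 1
    · refine IsPGroup.of_card (n := 0) ?_
      rw [Nat.card_zpowers, ht, hy1, mul_one, mul_inv_cancel, orderOf_one, pow_zero]
    · refine IsPGroup.of_card (n := 1) ?_
      rw [Nat.card_zpowers, ht, Involution.orderOf_conj, pow_one]
      exact F.orderOf_Z ⟨y, hy, rfl⟩ hy1
  obtain ⟨R, hR⟩ := (ht2.comap_subtype (K := M)).exists_le_sylow
  obtain ⟨m, hm⟩ := MulAction.exists_smul_eq M R (hA2.toSylow hidx)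
  have hmA : (m : G) * t * (m : G)⁻¹ ∈ F.A := by
    have : m * ⟨t, htM⟩ * m⁻¹ ∈ ((hA2.toSylow hidx : Sylow 2 M) : Subgroup M) := by
      rw [← hm, smul_sylow_eq]
      exact map_conj_mem (hR (Subgroup.mem_zpowers t))
    exact this
  obtain ⟨a', ha', n, hn, e2⟩ := Subgroup.mem_sup_of_normal_right.1 m.2
  have hnA : n * t * n⁻¹ ∈ F.A := by
    have h3 := F.A.mul_mem (F.A.mul_mem (F.A.inv_mem ha') hmA) ha'
    rwa [← e2, show a'⁻¹ * (a' * n * t * (a' * n)⁻¹) * a' = n * t * n⁻¹ by group] at h3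
  have heq : n * t * n⁻¹ = F.ι a := by
    have h4 : (F.ι a)⁻¹ * (n * t * n⁻¹) ∈ N := by
      have h5 : (QuotientGroup.mk' N) (n * t * n⁻¹) = (QuotientGroup.mk' N) (F.ι a) := by
        rw [map_mul, map_mul, map_inv, show (QuotientGroup.mk' N) n = 1 from (QuotientGroup.eq_one_iff n).2 hn,
          one_mul, inv_one, mul_one, e']
      exact QuotientGroup.eq.1 h5.symm
    have h6 : orderOf ((F.ι a)⁻¹ * (n * t * n⁻¹)) = 1 := by
      refine Nat.eq_one_of_dvd_coprimes (a := Nat.card N) (b := 16) ?_ (Subgroup.orderOf_dvd_natCard _ h4) ?_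
      · rw [show (16 : ℕ) = 2 ^ 4 by norm_num]
        exact Nat.Coprime.pow_right 4 (Nat.coprime_two_right.2 hN)
      · rw [← F.card_A]
        exact Subgroup.orderOf_dvd_natCard _ (F.A.mul_mem (F.A.inv_mem haA) hnA)
    exact (inv_mul_eq_one.1 (orderOf_eq_one_iff.1 h6)).symm
  have hz := h (n * g) (F.ι y) ⟨y, hy, rfl⟩ (by
    rw [show n * g * F.ι y * (n * g)⁻¹ = n * t * n⁻¹ by rw [ht]; group]; exact hnA)
  rw [show n * g * F.ι y * (n * g)⁻¹ = n * t * n⁻¹ by rw [ht]; group, heq] at hz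
  obtain ⟨b, hb, eb⟩ := hz
  exact ⟨b, hb, by
    show (QuotientGroup.mk' N) (F.ι b) = _
    rw [eb, e', map_mul, map_mul, map_inv]
    rfl⟩

/-- In a group without odd core and with `S` normal, `C(S) = Z`. -/
theorem mem_Z_of_centralizes (hO : Cfsg.oddCore G = ⊥) (hn : (F.S : Subgroup G).Normal) {y : G}
    (hy : ∀ s ∈ (F.S : Subgroup G), y * s = s * y) : y ∈ F.Z := by
  haveI : Fact (Nat.Prime 2) := ⟨Nat.prime_two⟩
  haveI := hn
  set C := Subgroup.centralizer ((F.S : Subgroup G) : Set G)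
  obtain ⟨Q, hQ⟩ := Cores.sylow_inf_isSubnormal F.S (inferInstance : C.Normal).isSubnormal
  have hOC : Cfsg.oddCore C = ⊥ := by
    refine (Subgroup.map_eq_bot_iff_of_injective _ C.subtype_injective).1 ?_
    rw [Cores.pPrimeCore_map_subtype, show Cfsg.pPrimeCore 2 G = ⊥ from hO, bot_inf_eq]
  have htop := eq_top_of_central hOC Q (by
    intro x hx
    rw [hQ, Subgroup.mem_subgroupOf] at hx
    exact Subgroup.mem_center_iff.2 fun u => Subtype.ext (Subgroup.mem_centralizer_iff.1 u.2 _ hx).symm)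
  have hyC : y ∈ C := Subgroup.mem_centralizer_iff.2 fun s hs => (hy s hs).symm
  have hyS : y ∈ (F.S : Subgroup G) := by
    have := htop.ge (Subgroup.mem_top (⟨y, hyC⟩ : C))
    rw [hQ] at this
    exact this
  by_contra hyZ
  obtain ⟨s, hs, hne, -⟩ := F.exists_commutator hyS hyZ
  exact hne (by rw [hy s hs]; group)

/-- The centraliser of an element of `Z`. -/
theorem S_le_centralizer {z : G} (hz : z ∈ F.Z) : (F.S : Subgroup G) ≤ Subgroup.centralizer ({z} : Set G) :=
  fun _ hs => Subgroup.mem_centralizer_singleton_iff.2 (F.comm_Z hz hs).symm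

/-- `A` is small in the centraliser of an element of `Z`. -/
theorem small_centralizer (hA : ¬ F.Small) {z : G} (hz : z ∈ F.Z) (hz1 : z ≠ 1) :
    (F.restrict _ (F.S_le_centralizer hz)).Small := by
  set F₀ := F.restrict _ (F.S_le_centralizer hz)
  intro g y hy hg
  obtain ⟨n, hn, e⟩ := F₀.control (F₀.Z_le_A hy) hg
  rw [← e]
  obtain ⟨μ, -, hl⟩ := F.exists_linear hA
  set F' := F.comp (H3.shear μ)
  have hnA : (n : G) ∈ Subgroup.normalizer (F'.A : Set G) := by
    rw [F.shear_A μ]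
    have hSC := F.S_le_centralizer hz
    refine Subgroup.mem_normalizer_iff.2 fun x => ⟨fun hx => ?_, fun hx => ?_⟩
    · exact F.mem_restrict_A.1 ((Subgroup.mem_normalizer_iff.1 hn ⟨x, hSC (F.A_le hx)⟩).1
        (F.mem_restrict_A.2 hx))
    · have hxC : x ∈ Subgroup.centralizer ({z} : Set G) := by
        have := Subgroup.mul_mem _ (Subgroup.mul_mem _ (Subgroup.inv_mem _ n.2) (hSC (F.A_le hx))) n.2
        rwa [show (n : G)⁻¹ * ((n : G) * x * (n : G)⁻¹) * (n : G) = x by group] at this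
      exact F.mem_restrict_A.1 ((Subgroup.mem_normalizer_iff.1 hn ⟨x, hxC⟩).2 (F.mem_restrict_A.2 hx))
  have hZ' : F'.Z = F.Z := F.shear_Z μ
  obtain ⟨v, hv⟩ := F'.exists_pA (F'.Z_le_A (hZ'.symm ▸ hz))
  obtain ⟨w, hw⟩ := F'.exists_pA (F'.Z_le_A (hZ'.symm ▸ F.mem_restrict_Z.1 hy))
  set f := F'.act ⟨n, hnA⟩
  have hf : f ∈ F'.X := ⟨_, rfl⟩
  have hfv : f v = v := by
    refine (F'.act_eq_iff _ _ _).2 ?_
    rw [hv, Subgroup.mem_centralizer_singleton_iff.1 n.2, mul_inv_cancel_right]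
  have hv2 : v.2 = 0 := F'.pA_mem_Z.1 (hv ▸ hZ'.symm ▸ hz)
  have hw2 : w.2 = 0 := F'.pA_mem_Z.1 (hw ▸ hZ'.symm ▸ F.mem_restrict_Z.1 hy)
  have hv1 : v.1 ≠ 0 := fun h => hz1 (by
    rw [← hv, show v = 0 from Prod.ext h hv2, F'.pA_zero])
  have hq : (f (1, 0)).2 = 0 := by
    have e1 := (hl.lin f hf).eq_mk (F'.X_add hf) v
    rw [hfv] at e1
    have e2 := congrArg Prod.snd e1
    simp only [mat, hv2, mul_zero, add_zero] at e2
    exact (mul_eq_zero.1 e2.symm).resolve_right hv1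
  refine F.mem_restrict_Z.2 ?_
  show (n : G) * (y : G) * (n : G)⁻¹ ∈ F.Z
  rw [← hw, ← hZ', ← F'.pA_act ⟨n, hnA⟩, F'.pA_mem_Z, show w = (w.1, 0) from Prod.ext rfl hw2]
  exact hl.stab hf hq _

/-- Centralisers of elements of `Z` are solvable. -/
theorem solvable_centralizer (hA : ¬ F.Small) (hB : ¬ F.swap.Small) {z : G} (hz : z ∈ F.Z) (hz1 : z ≠ 1) :
    Group.IsSolvable (Subgroup.centralizer ({z} : Set G)) := by
  haveI : Fact (Nat.Prime 2) := ⟨Nat.prime_two⟩
  set C := Subgroup.centralizer ({z} : Set G)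
  have hSC := F.S_le_centralizer hz
  have h1 := F.small_centralizer hA hz hz1
  have h2 : (F.restrict C hSC).swap.Small :=
    F.swap_restrict C hSC ▸ F.swap.small_centralizer hB (F.swap_Z.symm ▸ hz) hz1
  haveI := Cores.pPrimeCore_normal 2 C
  set O := Cfsg.pPrimeCore 2 C
  have hO : Odd (Nat.card O) := Nat.coprime_two_right.1 (Cores.coprime_card_pPrimeCore 2)
  set F₁ := (F.restrict C hSC).quot O hO
  have hn := F₁.S_normal_of_small ((F.restrict C hSC).quot_small hO h1)
    ((F.restrict C hSC).swap_quot O hO ▸ (F.restrict C hSC).swap.quot_small hO h2)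
    (Cores.pPrimeCore_quotient_self 2)
  haveI : Group.IsSolvable O := MinNonCA.isSolvable_of_odd_card hO
  haveI : Group.IsSolvable (C ⧸ O) := by
    haveI := hn
    haveI : Group.IsNilpotent (F₁.S : Subgroup (C ⧸ O)) := F₁.S.isPGroup'.isNilpotent
    haveI : Group.IsSolvable ((C ⧸ O) ⧸ (F₁.S : Subgroup (C ⧸ O))) :=
      MinNonCA.isSolvable_of_odd_card (Nat.not_even_iff_odd.1 fun he => F₁.S.not_dvd_index
        (by rw [Subgroup.index_eq_card]; exact even_iff_two_dvd.1 he))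
    exact solvable_of_ker_le_range (Subgroup.subtype _) (QuotientGroup.mk' (F₁.S : Subgroup (C ⧸ O)))
      (by rw [QuotientGroup.ker_mk', Subgroup.range_subtype])
  exact solvable_of_ker_le_range (Subgroup.subtype O) (QuotientGroup.mk' O)
    (by rw [QuotientGroup.ker_mk', Subgroup.range_subtype])

/-- One class of involutions. -/
theorem one_class_of_big (hA : ¬ F.Small) (hB : ¬ F.swap.Small) {z t : G} (hz : z ∈ F.Z) (hz1 : z ≠ 1)
    (ht : orderOf t = 2) : ∃ g : G, g * z * g⁻¹ = t := by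
  obtain ⟨g, hg⟩ := Involution.exists_conj_mem_sylow F.S ht
  have ho : orderOf (g * t * g⁻¹) = 2 := by rw [Involution.orderOf_conj, ht]
  have h1 : g * t * g⁻¹ ≠ 1 := Involution.ne_one ho
  have h2 : g * t * g⁻¹ * (g * t * g⁻¹) = 1 := Involution.mul_self ho
  obtain ⟨n, -, hn⟩ : ∃ n : G, True ∧ n * z * n⁻¹ = g * t * g⁻¹ := by
    rcases F.mem_or hg h2 with h | h
    · obtain ⟨n, -, e⟩ := F.exists_conj_of_big hA (F.Z_le_A hz) hz1 h h1
      exact ⟨n, trivial, e⟩
    · obtain ⟨n, -, e⟩ := F.swap.exists_conj_of_big hB (F.swap.Z_le_A (F.swap_Z.symm ▸ hz)) hz1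
        (F.swap_A.symm ▸ h) h1
      exact ⟨n, trivial, e⟩
  exact ⟨g⁻¹ * n, by
    rw [show g⁻¹ * n * z * (g⁻¹ * n)⁻¹ = g⁻¹ * (n * z * n⁻¹) * g by group, hn]
    group⟩

section

variable (hO : Cfsg.oddCore G = ⊥) (hA : ¬ F.Small) (hB : ¬ F.swap.Small)
include hO hA hB

theorem core_centralizer {z : G} (hz : z ∈ F.Z) (hz1 : z ≠ 1) :
    Cfsg.oddCore (Subgroup.centralizer ({z} : Set G)) = ⊥ := by
  have h := CoreKilling.core_eq_bot_of_solvable (fun H hH => Bender.oddCore_le Bender.rankOneHalf hH) hO F.S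
    F.A F.A_le
    ⟨fun x hx s => F.conj_mem_A s.2 hx⟩ F.isMulCommutative_A
    (fun h => by
      have := h ⊤ ⟨⟨fun a b => Subtype.ext (Subtype.ext (F.comm_A a.1.2 b.1.2))⟩⟩
        (fun a _ => Subtype.ext (by rw [SubgroupClass.coe_pow, pow_two]; exact F.sq_A a.2))
      rw [Subgroup.card_top, F.card_A] at this
      norm_num at this)
    (fun t ht => by
      obtain ⟨g, rfl⟩ := F.one_class_of_big hA hB hz hz1 ht
      haveI := F.solvable_centralizer hA hB hz hz1
      rw [← centralizer_map_conj]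
      exact solvable_of_surjective ((MulAut.conj g).toMonoidHom.subgroupMap_surjective _))
    z (F.orderOf_Z hz hz1)
  exact (Subgroup.map_eq_bot_iff_of_injective _ (Subgroup.subtype_injective _)).1 h

/-- `S` is normal in the centraliser of an element of `Z`. -/
theorem S_normal_centralizer {z : G} (hz : z ∈ F.Z) (hz1 : z ≠ 1) :
    ((F.restrict _ (F.S_le_centralizer hz)).S : Subgroup (Subgroup.centralizer ({z} : Set G))).Normal :=
  (F.restrict _ (F.S_le_centralizer hz)).S_normal_of_small (F.small_centralizer hA hz hz1)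
    (F.swap_restrict _ _ ▸ F.swap.small_centralizer hB (F.swap_Z.symm ▸ hz) hz1)
    (F.core_centralizer hO hA hB hz hz1)

theorem le_S_of_centralizer {z : G} (hz : z ∈ F.Z) (hz1 : z ≠ 1) {P : Subgroup G} (hP : IsPGroup 2 P)
    (hle : P ≤ Subgroup.centralizer ({z} : Set G)) : P ≤ (F.S : Subgroup G) := by
  haveI : Fact (Nat.Prime 2) := ⟨Nat.prime_two⟩
  set C := Subgroup.centralizer ({z} : Set G)
  haveI hn := F.S_normal_centralizer hO hA hB hz hz1
  obtain ⟨R, hR⟩ := (hP.comap_subtype (K := C)).exists_le_sylow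
  haveI := Sylow.unique_of_normal (F.restrict C (F.S_le_centralizer hz)).S hn
  rw [Subsingleton.elim R (F.restrict C (F.S_le_centralizer hz)).S] at hR
  intro x hx
  exact hR (show (⟨x, hle hx⟩ : C) ∈ P.subgroupOf C from hx)

/-- In the centraliser of an involution, no nontrivial element of odd order is inverted. -/
theorem eq_one_of_inverted {t x g : G} (ht : orderOf t = 2) (hx : x * t = t * x) (hg : g * t = t * g)
    (hodd : Odd (orderOf x)) (hinv : g * x * g⁻¹ = x⁻¹) : x = 1 := by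
  haveI : Fact (Nat.Prime 2) := ⟨Nat.prime_two⟩
  obtain ⟨z, hz, hz1⟩ : ∃ z ∈ F.Z, z ≠ 1 :=
    ⟨F.pA (1, 0), F.pA_mem_Z.2 rfl, fun e => by
      rw [← F.pA_zero] at e
      exact absurd (F.pA_injective e) (by decide)⟩
  obtain ⟨m, hm⟩ := F.one_class_of_big hA hB hz hz1 ht
  set C := Subgroup.centralizer ({z} : Set G)
  have hmem : ∀ a : G, a * t = t * a → m⁻¹ * a * m ∈ C := fun a ha =>
    mem_map_conj.1 ((centralizer_map_conj m z).ge (hm ▸ Subgroup.mem_centralizer_singleton_iff.2 ha))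
  set x' : C := ⟨_, hmem x hx⟩
  set g' : C := ⟨_, hmem g hg⟩
  have hinv' : g' * x' * g'⁻¹ = x'⁻¹ := Subtype.ext (by
    show m⁻¹ * g * m * (m⁻¹ * x * m) * (m⁻¹ * g * m)⁻¹ = (m⁻¹ * x * m)⁻¹
    rw [show m⁻¹ * g * m * (m⁻¹ * x * m) * (m⁻¹ * g * m)⁻¹ = m⁻¹ * (g * x * g⁻¹) * m by group, hinv]
    group)
  have hxo : orderOf x' = orderOf x := by
    rw [← Subgroup.orderOf_coe]
    show orderOf (m⁻¹ * x * m) = _
    have h := Involution.orderOf_conj m⁻¹ x
    rwa [inv_inv] at h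
  haveI hn := F.S_normal_centralizer hO hA hB hz hz1
  set Q : Sylow 2 C := (F.restrict C (F.S_le_centralizer hz)).S
  have hQodd : Odd (Q : Subgroup C).index := Nat.not_even_iff_odd.1 fun he => Q.not_dvd_index (even_iff_two_dvd.1 he)
  have hpow : ∀ j : ℕ, g' ^ (2 * j + 1) * x' * (g' ^ (2 * j + 1))⁻¹ = x'⁻¹ := by
    intro j
    induction j with
    | zero => simpa using hinv'
    | succ j ih =>
      calc g' ^ (2 * (j + 1) + 1) * x' * (g' ^ (2 * (j + 1) + 1))⁻¹
          = g' * (g' * (g' ^ (2 * j + 1) * x' * (g' ^ (2 * j + 1))⁻¹) * g'⁻¹) * g'⁻¹ := by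
            rw [show 2 * (j + 1) + 1 = (2 * j + 1) + 1 + 1 by ring, pow_succ', pow_succ']; group
        _ = g' * (g' * x' * g'⁻¹)⁻¹ * g'⁻¹ := by rw [ih]; group
        _ = g' * x' * g'⁻¹ := by rw [hinv', inv_inv, hinv']
        _ = x'⁻¹ := hinv'
  obtain ⟨j, hj⟩ := hQodd
  have hgQ : g' ^ (2 * j + 1) ∈ (Q : Subgroup C) := hj ▸ Subgroup.pow_index_mem (Q : Subgroup C) g'
  have hsq : x' * x' ∈ (Q : Subgroup C) := by
    have h1 := (Q : Subgroup C).mul_mem hgQ (hn.conj_mem _ ((Q : Subgroup C).inv_mem hgQ) x')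
    rw [show g' ^ (2 * j + 1) * (x' * (g' ^ (2 * j + 1))⁻¹ * x'⁻¹) =
      g' ^ (2 * j + 1) * x' * (g' ^ (2 * j + 1))⁻¹ * x'⁻¹ by group, hpow, ← mul_inv_rev] at h1
    simpa using (Q : Subgroup C).inv_mem h1
  obtain ⟨k, hk⟩ := (IsPGroup.iff_orderOf (p := 2)).1 Q.isPGroup' ⟨_, hsq⟩
  rw [Subgroup.orderOf_mk, ← pow_two,
    Nat.Coprime.orderOf_pow (hxo ▸ Nat.coprime_two_right.2 hodd), hxo] at hk
  rw [← orderOf_eq_one_iff, hk]
  rcases k with _ | k
  · rfl
  · rw [hk, pow_succ'] at hodd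
    exact absurd hodd (Nat.not_odd_iff_even.2 (even_two_mul _))

/-- `A` contains its centraliser. -/
theorem centralizer_A_le : Subgroup.centralizer (F.A : Set G) ≤ F.A := by
  haveI : Fact (Nat.Prime 2) := ⟨Nat.prime_two⟩
  obtain ⟨z, hz, hz1⟩ : ∃ z ∈ F.Z, z ≠ 1 :=
    ⟨F.pA (1, 0), F.pA_mem_Z.2 rfl, fun e => by
      rw [← F.pA_zero] at e
      exact absurd (F.pA_injective e) (by decide)⟩
  have hCC : Subgroup.centralizer (F.A : Set G) ≤ Subgroup.centralizer ({z} : Set G) := fun y hy =>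
    Subgroup.mem_centralizer_singleton_iff.2 (Subgroup.mem_centralizer_iff.1 hy z (F.Z_le_A hz)).symm
  set C := Subgroup.centralizer ({z} : Set G)
  set F₀ := F.restrict C (F.S_le_centralizer hz)
  have hn := F.S_normal_centralizer hO hA hB hz hz1
  have hp : IsPGroup 2 (Subgroup.centralizer (F.A : Set G)) := by
    refine Cfsg.Agent.CharP.isPGroup_of_coprime_eq_one fun y hy hco => ?_
    have hodd : Odd (orderOf y) := Nat.coprime_two_right.1 hco
    have hyc : ∀ a ∈ F.A, y * a = a * y := fun a ha => (Subgroup.mem_centralizer_iff.1 hy a ha).symm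
    have hS : ∀ s ∈ (F.S : Subgroup G), y * s * y⁻¹ ∈ (F.S : Subgroup G) := fun s hs =>
      hn.conj_mem ⟨s, F.S_le_centralizer hz hs⟩ hs ⟨y, hCC hy⟩
    have hcent : ∀ s ∈ (F.S : Subgroup G), y * s = s * y := by
      intro s hs
      set a := y * s * y⁻¹ * s⁻¹ with ha
      have haA : a ∈ F.A := by
        refine F.mem_A_of_forall_comm ((F.S : Subgroup G).mul_mem (hS s hs) ((F.S : Subgroup G).inv_mem hs))
          fun b hb => ?_
        have hb' : s⁻¹ * b * s ∈ F.A := by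
          have := F.conj_mem_A ((F.S : Subgroup G).inv_mem hs) hb
          rwa [inv_inv] at this
        have h1 : y⁻¹ * b = b * y⁻¹ := by
          rw [inv_mul_eq_iff_eq_mul, ← mul_assoc, hyc b hb, mul_inv_cancel_right]
        calc a * b = y * s * y⁻¹ * (s⁻¹ * b * s) * s⁻¹ := by rw [ha]; group
          _ = y * s * (s⁻¹ * b * s) * y⁻¹ * s⁻¹ := by
            rw [mul_assoc (y * s) y⁻¹, show y⁻¹ * (s⁻¹ * b * s) = s⁻¹ * b * s * y⁻¹ by
              rw [inv_mul_eq_iff_eq_mul, ← mul_assoc, hyc _ hb', mul_inv_cancel_right], ← mul_assoc]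
          _ = (y * b) * (s * y⁻¹ * s⁻¹) := by group
          _ = b * a := by rw [hyc b hb, ha]; group
      have hpow : ∀ i : ℕ, y ^ i * s * (y ^ i)⁻¹ = a ^ i * s := by
        intro i
        induction i with
        | zero => simp
        | succ i ih =>
          calc y ^ (i + 1) * s * (y ^ (i + 1))⁻¹ = y * (y ^ i * s * (y ^ i)⁻¹) * y⁻¹ := by
                rw [pow_succ']; group
            _ = y * a ^ i * (s * y⁻¹) := by rw [ih]; group
            _ = a ^ i * y * (s * y⁻¹) := by rw [hyc _ (F.A.pow_mem haA i)]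
            _ = a ^ (i + 1) * s := by rw [pow_succ, ha]; group
      have h := hpow (orderOf y)
      rw [pow_orderOf_eq_one, one_mul, inv_one, mul_one] at h
      obtain ⟨j, hj⟩ := hodd
      rw [hj, pow_succ, pow_mul, pow_two, F.sq_A haA, one_pow, one_mul, eq_comm, mul_eq_right] at h
      rw [h, eq_comm, mul_inv_eq_one, mul_inv_eq_iff_eq_mul] at ha
      exact ha
    have hyZ : (⟨y, hCC hy⟩ : C) ∈ F₀.Z := F₀.mem_Z_of_centralizes (F.core_centralizer hO hA hB hz hz1) hn
      fun s hs => Subtype.ext (hcent s hs)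
    have h2 : y * y = 1 := F.sq_A (F.Z_le_A (F.mem_restrict_Z.1 hyZ))
    obtain ⟨j, hj⟩ := hodd
    have := pow_orderOf_eq_one y
    rwa [hj, pow_succ, pow_mul, pow_two, h2, one_pow, one_mul] at this
  intro y hy
  exact F.mem_A_of_forall_comm (F.le_S_of_centralizer hO hA hB hz hz1 hp hCC hy)
    fun a ha => (Subgroup.mem_centralizer_iff.1 hy a ha).symm

end

end Frm

end Cfsg.Agent.L34Sylow
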