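import Cfsg.Agent.EqLemmas
import Cfsg.Agent.Lib.L34Sylow.Centralizer
import Cfsg.Agent.Lib.L34Sylow.Plane.Model
import Mathlib.GroupTheory.Perm.Cycle.Type
import Mathlib.GroupTheory.SpecificGroups.Cyclic

/-!
# Simple groups with such a Sylow 2-subgroup (S3198)

* `Frm.bound` : the bound for the count in the plane
* `Frm.nonempty_psl` : the group is `PSL₃(4)`
-/

set_option autoImplicit false

open Cfsg

namespace Cfsg.Agent.L34Sylow

open Cfsg.Agent.SU32 (K4)

universe u

/-- The involutions of a group of even order have odd number. -/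
theorem odd_card_involutions {C : Type*} [Group C] [Finite C] (h : 2 ∣ Nat.card C) :
    Odd (Nat.card {g : C // orderOf g = 2}) := by
  classical
  haveI : Fact (Nat.Prime 2) := ⟨Nat.prime_two⟩
  haveI := Fintype.ofFinite C
  have hpair : 2 ∣ Fintype.card {g : C // g⁻¹ ≠ g} := by
    by_contra hn
    let σ : Equiv.Perm {g : C // g⁻¹ ≠ g} :=
      { toFun := fun g => ⟨g.1⁻¹, fun e => g.2 (inv_injective e)⟩
        invFun := fun g => ⟨g.1⁻¹, fun e => g.2 (inv_injective e)⟩
        left_inv := fun g => Subtype.ext (inv_inv _)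
        right_inv := fun g => Subtype.ext (inv_inv _) }
    obtain ⟨a, ha⟩ := Equiv.Perm.exists_fixed_point_of_prime (p := 2) (n := 1) hn (σ := σ)
      (Equiv.ext fun g => Subtype.ext (by rw [pow_one, pow_two]; exact inv_inv _))
    exact a.2 (congrArg Subtype.val ha)
  rw [← Nat.card_eq_fintype_card] at hpair
  have h1 := Nat.card_congr (Equiv.sumCompl fun g : C => g⁻¹ = g)
  rw [Nat.card_sum] at h1
  have h2 : Nat.card {g : C // g⁻¹ = g} = Nat.card {g : C // orderOf g = 2} + 1 := by
    have e1 := Nat.card_congr (Equiv.sumCompl fun g : {g : C // g⁻¹ = g} => g.1 = 1)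
    rw [Nat.card_sum,
      Nat.card_congr (Equiv.subtypeSubtypeEquivSubtypeInter (fun g : C => g⁻¹ = g) (fun g => g = 1)),
      Nat.card_congr (Equiv.subtypeSubtypeEquivSubtypeInter (fun g : C => g⁻¹ = g) (fun g => ¬ g = 1))] at e1
    have e2 : Nat.card {g : C // g⁻¹ = g ∧ g = 1} = 1 :=
      Nat.card_eq_one_iff_unique.2 ⟨⟨fun a b => Subtype.ext (a.2.2.trans b.2.2.symm)⟩, ⟨⟨1, inv_one, rfl⟩⟩⟩
    have e3 : Nat.card {g : C // g⁻¹ = g ∧ ¬ g = 1} = Nat.card {g : C // orderOf g = 2} :=
      Nat.card_congr (Equiv.subtypeEquivRight fun g => by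
        constructor
        · rintro ⟨hi, h1⟩
          exact orderOf_eq_prime (by rw [pow_two]; nth_rw 1 [← hi]; rw [inv_mul_cancel]) h1
        · intro ho
          refine ⟨inv_eq_of_mul_eq_one_right (by rw [← pow_two, ← ho, pow_orderOf_eq_one]), fun e => ?_⟩
          rw [e, orderOf_one] at ho
          omega)
    omega
  rw [Nat.odd_iff]
  obtain ⟨a, ha⟩ := hpair
  obtain ⟨b, hb⟩ := h
  have ha' : Nat.card {g : C // ¬ g⁻¹ = g} = 2 * a := ha
  omega

/-- The semilinear maps with trivial field automorphism. -/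
def linGroup : Subgroup (Equiv.Perm V2) where
  carrier := {f | Lin f ∧ ∀ v w, f (v + w) = f v + f w}
  one_mem' := ⟨fun _ => rfl, fun _ _ => rfl⟩
  mul_mem' := fun {f g} hf hg => ⟨hf.1.mul hg.1, fun v w => by
    rw [Equiv.Perm.mul_apply, hg.2, hf.2]; rfl⟩
  inv_mem' := fun {f} hf => ⟨hf.1.inv, fun v w => f.injective (by
    rw [hf.2, papply_inv, papply_inv, papply_inv])⟩

theorem mat_injective : ∀ p q r s : K4, p * s ≠ q * r → ∀ v, mat p q r s v = 0 → v = 0 := by decide +kernel

theorem det_of_injective : ∀ p q r s : K4, p * s = q * r → ∃ v : V2, v ≠ 0 ∧ mat p q r s v = 0 := by decide +kernel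

theorem card_det : Nat.card {m : K4 × K4 × K4 × K4 // m.1 * m.2.2.2 ≠ m.2.1 * m.2.2.1} = 180 := by
  rw [Nat.card_eq_fintype_card, Fintype.card_subtype]
  decide +kernel

theorem mat_add (p q r s : K4) (v w : V2) : mat p q r s (v + w) = mat p q r s v + mat p q r s w := by
  ext <;> simp [mat] <;> ring

theorem mat_om (p q r s : K4) (v : V2) : mat p q r s (om v) = om (mat p q r s v) := by
  ext <;> simp [mat, om] <;> ring

theorem card_linGroup : Nat.card linGroup = 180 := by
  rw [← card_det]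
  let f : linGroup → {m : K4 × K4 × K4 × K4 // m.1 * m.2.2.2 ≠ m.2.1 * m.2.2.1} := fun g =>
    ⟨((g.1 (1, 0)).1, (g.1 (1, 0)).2, (g.1 (0, 1)).1, (g.1 (0, 1)).2), fun e => by
      obtain ⟨v, hv, h0⟩ := det_of_injective _ _ _ _ e
      rw [← g.2.1.eq_mk g.2.2] at h0
      have hz : g.1 0 = 0 := by
        have h := g.2.2 0 0
        rw [add_zero] at h
        exact left_eq_add.1 h
      exact hv (g.1.injective (h0.trans hz.symm))⟩
  refine Nat.card_eq_of_bijective f ⟨fun g h e => ?_, fun m => ?_⟩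
  · have e' := congrArg Subtype.val e
    simp only [f, Prod.mk.injEq] at e'
    refine Subtype.ext (Equiv.ext fun v => ?_)
    rw [g.2.1.eq_mk g.2.2, h.2.1.eq_mk h.2.2, e'.1, e'.2.1, e'.2.2.1, e'.2.2.2]
  · obtain ⟨⟨p, q, r, s⟩, hm⟩ := m
    have hinj : Function.Injective (mat p q r s) := fun v w e => by
      have h2 : ∀ a b : V2, a + b = 0 ↔ a = b := by decide +kernel
      refine (h2 v w).1 (mat_injective p q r s hm _ ?_)
      rw [mat_add, e]
      exact (h2 _ _).2 rfl
    refine ⟨⟨Equiv.ofBijective _ (Finite.injective_iff_bijective.1 hinj), mat_om p q r s, mat_add p q r s⟩,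
      Subtype.ext ?_⟩
    simp [f, mat]

theorem five_moves : ∀ p q r s : K4, (∀ v, (mat p q r s)^[5] v = v) → (∃ v, mat p q r s v ≠ v) → q ≠ 0 := by
  decide +kernel

namespace Frm

variable {G : Type u} [Group G] [Finite G] (F : Frm G)
variable (hO : Cfsg.oddCore G = ⊥) (hA : ¬ F.Small) (hB : ¬ F.swap.Small)
include hO hA hB

/-- The bound for the count. -/
theorem bound (X : Subgroup G) (hX : X ≤ Subgroup.normalizer (F.A : Set G)) (hodd : Odd (Nat.card X))
    (u : G) (hu : orderOf u = 2) (hux : ∀ w ∈ X, u * w * u⁻¹ ∈ X) :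
    Nat.card {i : G // orderOf i = 2 ∧ u * i ∈ X} ≤ 14 := by
  classical
  haveI : Fact (Nat.Prime 5) := ⟨by norm_num⟩
  by_contra hbig
  push Not at hbig
  let j : {i : G // orderOf i = 2 ∧ u * i ∈ X} → X := fun i => ⟨u * i.1, i.2.2⟩
  have hj : Function.Injective j := fun a b e => Subtype.ext (mul_left_cancel (congrArg Subtype.val e))
  have hX15 : 15 ≤ Nat.card X := by
    have := Nat.card_le_card_of_injective j hj
    omega
  obtain ⟨μ, -, hl⟩ := F.exists_linear hA
  set F' := F.comp (H3.shear μ)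
  have hA' : F'.A = F.A := F.shear_A μ
  have hXN : X ≤ Subgroup.normalizer (F'.A : Set G) := by rw [hA']; exact hX
  set f : X →* Equiv.Perm V2 := F'.act.comp (Subgroup.inclusion hXN) with hfdef
  have hker : ∀ (n : Subgroup.normalizer (F'.A : Set G)), F'.act n = 1 → (n : G) ∈ F.A := by
    intro n hn
    refine F.centralizer_A_le hO hA hB (Subgroup.mem_centralizer_iff.2 fun a ha => ?_)
    obtain ⟨v, rfl⟩ := F'.exists_pA (hA'.symm ▸ ha : a ∈ F'.A)
    have h1 := (F'.act_eq_iff n v v).1 (by rw [hn]; rfl)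
    exact (mul_inv_eq_iff_eq_mul.1 h1).symm
  have hf : Function.Injective f := by
    rw [injective_iff_map_eq_one]
    intro x hx
    have h1 : (x : G) ∈ F.A := hker (Subgroup.inclusion hXN x) hx
    have h2 : orderOf x ∣ 2 := orderOf_dvd_of_pow_eq_one (Subtype.ext (by
      rw [SubgroupClass.coe_pow, pow_two]; exact F.sq_A h1))
    exact orderOf_eq_one_iff.1 (Nat.eq_one_of_dvd_coprimes (Nat.coprime_two_right.2 hodd)
      (orderOf_dvd_natCard x) h2)
  have hfX : ∀ x : X, f x ∈ F'.X := fun x => ⟨_, rfl⟩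
  have hfl : ∀ x : X, f x ∈ linGroup := fun x => ⟨hl.lin _ (hfX x), F'.X_add (hfX x)⟩
  have hd45 : Nat.card X ∣ 45 := by
    have h1 : Nat.card X ∣ 2 ^ 2 * 45 := by
      rw [Nat.card_congr (MonoidHom.ofInjective hf).toEquiv, show 2 ^ 2 * 45 = 180 by norm_num, ← card_linGroup]
      exact Subgroup.card_dvd_of_le (by rintro _ ⟨x, rfl⟩; exact hfl x)
    exact (Nat.Coprime.pow_right 2 (Nat.coprime_two_right.2 hodd)).dvd_of_dvd_mul_left h1
  have h5 : 5 ∣ Nat.card X := by
    have := Nat.le_of_dvd (by norm_num) hd45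
    interval_cases h : Nat.card X <;> omega
  obtain ⟨y, hy⟩ := exists_prime_orderOf_dvd_card' 5 h5
  obtain ⟨P⟩ : Nonempty (Sylow 5 X) := inferInstance
  have hPn : (P : Subgroup X).Normal := by
    have h1 := P.card_dvd_index
    have h2 := card_sylow_modEq_one 5 X
    have hidx : (P : Subgroup X).index ∣ 45 := (Subgroup.index_dvd_card _).trans hd45
    have hnd : ¬ 5 ∣ (P : Subgroup X).index := P.not_dvd_index
    have h9 : (P : Subgroup X).index ∣ 9 :=
      ((Nat.prime_five.coprime_iff_not_dvd.2 hnd).symm).dvd_of_dvd_mul_left (show (P : Subgroup X).index ∣ 5 * 9 from hidx)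
    have hle := Nat.le_of_dvd (by norm_num) (h1.trans h9)
    have h1' : Nat.card (Sylow 5 X) = 1 := by
      have h9' := h1.trans h9
      unfold Nat.ModEq at h2
      interval_cases h : Nat.card (Sylow 5 X) <;> omega
    haveI := (Nat.card_eq_one_iff_unique.1 h1').1
    exact P.normal_of_subsingleton
  have hyP : y ∈ (P : Subgroup X) := by
    obtain ⟨R, hR⟩ := (IsPGroup.of_card (n := 1) (by rw [Nat.card_zpowers, hy, pow_one]) :
      IsPGroup 5 (Subgroup.zpowers y)).exists_le_sylow
    haveI := Sylow.unique_of_normal P hPn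
    rw [Subsingleton.elim P R]
    exact hR (Subgroup.mem_zpowers y)
  have hP5 : Nat.card (P : Subgroup X) = 5 := by
    obtain ⟨k, hk⟩ := IsPGroup.iff_card.1 P.isPGroup'
    have h1 : 5 ∣ Nat.card (P : Subgroup X) := by
      have := Subgroup.orderOf_dvd_natCard _ hyP
      rwa [hy] at this
    have h2 : Nat.card (P : Subgroup X) ∣ 45 := (Subgroup.card_subgroup_dvd_card _).trans hd45
    have h25 : ¬ 25 ∣ Nat.card (P : Subgroup X) := fun h => by have := h.trans h2; norm_num at this
    rcases k with _ | _ | k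
    · rw [hk] at h1; norm_num at h1
    · simpa using hk
    · exact absurd (hk ▸ (⟨5 ^ k, by ring⟩ : 25 ∣ 5 ^ (k + 1 + 1))) h25
  have hcomm : ∀ x : X, x * y = y * x := by
    intro x
    haveI : IsCyclic (P : Subgroup X) := isCyclic_of_prime_card hP5
    set α : MulAut (P : Subgroup X) := MulAut.conjNormal x
    have h4 : orderOf α ∣ 4 := by
      haveI : Finite (MulAut (P : Subgroup X)) :=
        Finite.of_injective (fun f : MulAut (P : Subgroup X) => ⇑f)
          DFunLike.coe_injective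
      have := orderOf_dvd_natCard α
      rwa [IsCyclic.card_mulAut, hP5, Nat.totient_prime Nat.prime_five] at this
    have h45 : orderOf α ∣ 45 := ((orderOf_map_dvd MulAut.conjNormal x).trans (orderOf_dvd_natCard x)).trans hd45
    have h1 : α = 1 := orderOf_eq_one_iff.1 (Nat.eq_one_of_dvd_coprimes (by norm_num) h4 h45)
    have e := congrArg Subtype.val (DFunLike.congr_fun h1 ⟨y, hyP⟩)
    rw [MulAut.conjNormal_apply] at e
    exact mul_inv_eq_iff_eq_mul.1 e
  -- the action of `y`
  have hy5 : ∀ v, (⇑(f y))^[5] v = v := fun v => by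
    rw [← Equiv.Perm.coe_pow, ← map_pow, ← hy, pow_orderOf_eq_one, map_one]
    rfl
  have hymk := (hl.lin _ (hfX y)).eq_mk (F'.X_add (hfX y))
  have hq : (f y (1, 0)).2 ≠ 0 := by
    refine five_moves (f y (1, 0)).1 _ (f y (0, 1)).1 (f y (0, 1)).2 (fun v => ?_) ?_
    · have e : (⇑(f y)) = mat (f y (1, 0)).1 (f y (1, 0)).2 (f y (0, 1)).1 (f y (0, 1)).2 := funext hymk
      rw [← e]
      exact hy5 v
    · by_contra hcon
      push Not at hcon
      have : f y = 1 := Equiv.ext fun v => (hymk v).trans (hcon v)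
      rw [← map_one f] at this
      rw [hf this, orderOf_one] at hy
      omega
  have hext : ∀ g ∈ linGroup, ∀ h ∈ linGroup, (∀ v, g (f y v) = f y (g v)) → (∀ v, h (f y v) = f y (h v)) →
      g (1, 0) = h (1, 0) → g = h := by
    intro g hg h hh hgc hhc e
    refine Equiv.ext fun v => ?_
    have key : ∀ p q : K4, q ≠ 0 → ∀ v : V2, ∃ a b : K4, v = ((a + b * p, b * q) : V2) := by decide +kernel
    obtain ⟨a, b, rfl⟩ := key (f y (1, 0)).1 (f y (1, 0)).2 hq v
    have hsplit : ∀ k ∈ linGroup, k ((a + b * (f y (1, 0)).1, b * (f y (1, 0)).2) : V2) =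
        ((a * (k (1, 0)).1 + b * (k (f y (1, 0))).1, a * (k (1, 0)).2 + b * (k (f y (1, 0))).2) : V2) := by
      intro k hk
      rw [hk.1.eq_mk hk.2, hk.1.eq_mk hk.2 (f y (1, 0))]
      ext <;> simp [mat] <;> ring
    rw [hsplit g hg, hsplit h hh, hgc, hhc, e]
  let ψ : X → {v : V2 // v ≠ 0} := fun x => ⟨f x (1, 0), fun e => by
    have := (f x).injective (e.trans (F'.X_zero (hfX x)).symm)
    exact absurd this (by decide)⟩
  have hψc : ∀ x : X, ∀ v, f x (f y v) = f y (f x v) := fun x v => by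
    rw [← Equiv.Perm.mul_apply, ← map_mul, hcomm, map_mul, Equiv.Perm.mul_apply]
  have hψ : Function.Injective ψ := fun a b e =>
    hf (hext _ (hfl a) _ (hfl b) (hψc a) (hψc b) (congrArg Subtype.val e))
  have h15 : Nat.card {v : V2 // v ≠ 0} = 15 := by
    rw [Nat.card_eq_fintype_card]
    decide +kernel
  have hXeq : Nat.card X = 15 := by
    have := Nat.card_le_card_of_injective ψ hψ
    omega
  have hψs : Function.Surjective ψ :=
    ((Nat.bijective_iff_injective_and_card ψ).2 ⟨hψ, by rw [hXeq, h15]⟩).2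
  -- a scalar element
  obtain ⟨x, hx⟩ := hψs ⟨(K4.w, 0), by decide⟩
  have hx' : f x (1, 0) = (K4.w, 0) := congrArg Subtype.val hx
  have homl : (⟨om, fun v => om (om v), (by decide +kernel : ∀ v, om (om (om v)) = v),
      (by decide +kernel : ∀ v, om (om (om v)) = v)⟩ : Equiv.Perm V2) ∈ linGroup :=
    ⟨fun v => rfl, (by decide +kernel : ∀ v w, om (v + w) = om v + om w)⟩
  have hxom : ∀ v, f x v = om v := fun v => DFunLike.congr_fun (hext _ (hfl x) _ homl (hψc x)
    (fun v => (hl.lin _ (hfX y) v).symm) (hx'.trans (by decide))) v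
  -- it is inverted
  have hjs : Function.Surjective j :=
    ((Nat.bijective_iff_injective_and_card j).2 ⟨hj, by
      have := Nat.card_le_card_of_injective j hj
      omega⟩).2
  obtain ⟨⟨i, hi, hiX⟩, hji⟩ := hjs x
  have hxi : (x : G) = u * i := (congrArg Subtype.val hji).symm
  have hu2 : u * u = 1 := by rw [← pow_two, ← hu, pow_orderOf_eq_one]
  have hi2 : i * i = 1 := by rw [← pow_two, ← hi, pow_orderOf_eq_one]
  have hinv : u * (x : G) * u⁻¹ = (x : G)⁻¹ := by
    rw [hxi, mul_inv_rev, inv_eq_of_mul_eq_one_right hi2, inv_eq_of_mul_eq_one_right hu2, ← mul_assoc, hu2, one_mul]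
  have hxodd : Odd (orderOf (x : G)) := by
    rw [Subgroup.orderOf_coe]
    exact hodd.of_dvd_nat (orderOf_dvd_natCard x)
  -- an involution centralising it
  set xN : Subgroup.normalizer (F'.A : Set G) := Subgroup.inclusion hXN x
  have hxN : ∀ v, F'.act xN v = om v := hxom
  set b := F'.bEl 1
  have hcA : ((xN * b * xN⁻¹ * b⁻¹ : Subgroup.normalizer (F'.A : Set G)) : G) ∈ F.A := by
    refine hker _ (Equiv.ext fun v => ?_)
    rw [map_mul, map_mul, map_mul, map_inv, map_inv, F'.act_bEl]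
    simp only [Equiv.Perm.mul_apply, hxN, tauPerm_apply]
    rw [inv_eq_of_mul_eq_one_right (T0_sq ⟨1, rfl⟩), tauPerm_apply, ← hxN]
    have e1 : ∀ v : V2, tau 1 (om v) = om (tau 1 v) := by decide +kernel
    rw [show tau 1 ((F'.act xN)⁻¹ (tau 1 v)) = (F'.act xN)⁻¹ (tau 1 (tau 1 v)) by
      apply (F'.act xN).injective
      rw [papply_inv, hxN, ← e1, ← hxN, papply_inv]]
    rw [papply_inv, tau_tau, H3.add_self, tau_zero]
    rfl
  obtain ⟨v, hv⟩ := F'.exists_pA (hA'.symm ▸ hcA)
  set t := F'.pA (om v) * (b : G)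
  have hxt : (x : G) * t = t * x := by
    have e1 : (x : G) * F'.pA (om v) * (x : G)⁻¹ = F'.pA (om (om v)) := by
      have := F'.pA_act xN (om v)
      rw [hxN] at this
      exact this.symm
    have e2 : (x : G) * (b : G) * (x : G)⁻¹ = F'.pA v * (b : G) := by
      rw [hv]
      simp only [Subgroup.coe_mul, Subgroup.coe_inv]
      show _ = (x : G) * (b : G) * (x : G)⁻¹ * (b : G)⁻¹ * (b : G)
      group
    have e3 : ∀ v : V2, om (om v) + v = om v := by decide +kernel
    rw [← mul_inv_eq_iff_eq_mul]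
    calc (x : G) * (F'.pA (om v) * (b : G)) * (x : G)⁻¹
        = ((x : G) * F'.pA (om v) * (x : G)⁻¹) * ((x : G) * (b : G) * (x : G)⁻¹) := by group
      _ = F'.pA (om v) * (b : G) := by rw [e1, e2, ← mul_assoc, ← F'.pA_add, e3]
  have ht2 : t * t = 1 := by
    have h1 : t * t ∈ F'.A := by
      have hbb : (b : G) * b = 1 := by
        show F'.ι _ * F'.ι _ = 1
        rw [← map_mul, (H3.sq_iff _).2 (Or.inl rfl), map_one]
      have hbi : (b : G)⁻¹ = b := inv_eq_of_mul_eq_one_right hbb
      rw [show t * t = F'.pA (om v) * ((b : G) * F'.pA (om v) * (b : G)) by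
        show F'.pA (om v) * (b : G) * (F'.pA (om v) * (b : G)) = _
        group]
      refine F'.A.mul_mem (F'.pA_mem _) ?_
      have := F'.conj_mem_of_normalizer b.2 (F'.pA_mem (om v))
      rwa [hbi] at this
    obtain ⟨w, hw⟩ := F'.exists_pA h1
    have h2 : F'.act xN w = w := by
      refine (F'.act_eq_iff _ _ _).2 ?_
      rw [hw]
      show (x : G) * (t * t) * (x : G)⁻¹ = t * t
      rw [← mul_assoc, hxt, mul_assoc t, hxt, ← mul_assoc, mul_inv_cancel_right]
    rw [hxN] at h2
    have e : ∀ v : V2, om v = v → v = 0 := by decide +kernel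
    rw [← hw, e w h2, F'.pA_zero]
  have ht1 : t ≠ 1 := fun e => by
    have h1 : (b : G) ∈ F'.A := by
      have : (b : G) = (F'.pA (om v))⁻¹ := eq_inv_of_mul_eq_one_right e
      rw [this]
      exact F'.A.inv_mem (F'.pA_mem _)
    exact one_ne_zero (F'.ι_mem_A.1 h1)
  set C := Subgroup.centralizer ({(x : G)} : Set G)
  have htC : t ∈ C := Subgroup.mem_centralizer_singleton_iff.2 hxt.symm
  have h2C : 2 ∣ Nat.card C := by
    have := Subgroup.orderOf_dvd_natCard C htC
    rwa [Involution.orderOf_of_sq ht2 ht1] at this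
  haveI : Fact (Nat.Prime 2) := ⟨Nat.prime_two⟩
  haveI := Fintype.ofFinite C
  have huC : ∀ c ∈ C, u * c * u⁻¹ ∈ C := fun c hc => by
    have hc' := Subgroup.mem_centralizer_singleton_iff.1 hc
    refine Subgroup.mem_centralizer_singleton_iff.2 ?_
    have hinv' : (x : G) = u * (x : G)⁻¹ * u⁻¹ := by
      calc (x : G) = (u * (x : G) * u⁻¹)⁻¹ := by rw [hinv, inv_inv]
        _ = _ := by group
    have hc'' : c * (x : G)⁻¹ = (x : G)⁻¹ * c := by
      rw [eq_inv_mul_iff_mul_eq, ← mul_assoc, ← hc', mul_inv_cancel_right]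
    rw [hinv']
    calc u * c * u⁻¹ * (u * (x : G)⁻¹ * u⁻¹) = u * (c * (x : G)⁻¹) * u⁻¹ := by group
      _ = _ := by rw [hc'']; group
  let σ : Equiv.Perm {g : C // orderOf g = 2} :=
    { toFun := fun g => ⟨⟨u * g.1 * u⁻¹, huC _ g.1.2⟩, by
        rw [← Subgroup.orderOf_coe]
        show orderOf (u * (g.1 : G) * u⁻¹) = 2
        rw [Involution.orderOf_conj, Subgroup.orderOf_coe, g.2]⟩
      invFun := fun g => ⟨⟨u * g.1 * u⁻¹, huC _ g.1.2⟩, by
        rw [← Subgroup.orderOf_coe]
        show orderOf (u * (g.1 : G) * u⁻¹) = 2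
        rw [Involution.orderOf_conj, Subgroup.orderOf_coe, g.2]⟩
      left_inv := fun g => Subtype.ext (Subtype.ext (by
        show u * (u * (g.1 : G) * u⁻¹) * u⁻¹ = g.1
        rw [show u * (u * (g.1 : G) * u⁻¹) * u⁻¹ = (u * u) * g.1 * (u * u)⁻¹ by group, hu2]
        simp))
      right_inv := fun g => Subtype.ext (Subtype.ext (by
        show u * (u * (g.1 : G) * u⁻¹) * u⁻¹ = g.1
        rw [show u * (u * (g.1 : G) * u⁻¹) * u⁻¹ = (u * u) * g.1 * (u * u)⁻¹ by group, hu2]
        simp)) }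
  obtain ⟨⟨t', ht'o⟩, ht'⟩ := Equiv.Perm.exists_fixed_point_of_prime (p := 2) (n := 1)
    (α := {g : C // orderOf g = 2})
    (by rw [← Nat.card_eq_fintype_card]; exact (odd_card_involutions h2C).not_two_dvd_nat) (σ := σ)
    (Equiv.ext fun g => by rw [pow_one, pow_two]; exact σ.left_inv g)
  have hfix : u * (t' : G) * u⁻¹ = t' := congrArg (fun g : {g : C // orderOf g = 2} => (g.1 : G)) ht'
  have hx1 : (x : G) = 1 := F.eq_one_of_inverted hO hA hB (t := (t' : G))
    (by rw [Subgroup.orderOf_coe]; exact ht'o)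
    (Subgroup.mem_centralizer_singleton_iff.1 t'.2).symm (mul_inv_eq_iff_eq_mul.1 hfix) hxodd hinv
  have := hxom (1, 0)
  rw [show x = 1 from Subtype.ext hx1, map_one] at this
  exact absurd this (by decide)

omit hO hA hB in
/-- The order of the point stabiliser. -/
theorem le_card_normalizer (h : ¬ F.Small) : 960 ≤ Nat.card (Subgroup.normalizer (F.A : Set G)) := by
  classical
  obtain ⟨μ, -, hl⟩ := F.exists_linear h
  set F' := F.comp (H3.shear μ)
  rw [← F.shear_A μ]
  have hX : 60 ≤ Nat.card F'.X := by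
    have hc : Nat.card ({v : V2 // v ≠ 0} × K4) = 60 := by
      rw [Nat.card_eq_fintype_card]
      decide +kernel
    rw [← hc]
    have htau : ∀ β : K4, tau β (1, 0) = (1, 0) := by decide
    refine Nat.card_le_card_of_injective (fun p =>
      (⟨(hl.trans p.1.2).choose * tauPerm p.2,
        F'.X.mul_mem (hl.trans p.1.2).choose_spec.1 (F'.tauPerm_mem _)⟩ : F'.X)) ?_
    rintro ⟨v, β⟩ ⟨v', β'⟩ e
    have e' := congrArg Subtype.val e
    simp only at e'
    have h1 := DFunLike.congr_fun e' (1, 0)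
    simp only [Equiv.Perm.mul_apply, tauPerm_apply, htau, (hl.trans v.2).choose_spec.2,
      (hl.trans v'.2).choose_spec.2] at h1
    obtain rfl : v = v' := Subtype.ext h1
    exact Prod.ext rfl (tauPerm_injective (mul_left_cancel e'))
  have hker : F'.A.subgroupOf (Subgroup.normalizer (F'.A : Set G)) ≤ F'.act.ker := by
    intro a ha
    refine MonoidHom.mem_ker.2 (Equiv.ext fun v => (F'.act_eq_iff _ _ _).2 ?_)
    rw [show (1 : Equiv.Perm V2) v = v from rfl, F'.comm_A (Subgroup.mem_subgroupOf.1 ha) (F'.pA_mem v),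
      mul_inv_cancel_right]
  have h16 : 16 ≤ Nat.card F'.act.ker := by
    refine le_trans (le_of_eq ?_) (Subgroup.card_le_of_le hker)
    rw [Nat.card_congr (Subgroup.subgroupOfEquivOfLe Subgroup.le_normalizer).toEquiv, F'.card_A]
  rw [← F'.act.ker.card_mul_index, Subgroup.index_ker]
  exact Nat.mul_le_mul h16 hX

omit hO hA hB in
/-- A simple group has neither subgroup small. -/
theorem big_of_simple [IsSimpleGroup G] (hO : Cfsg.oddCore G = ⊥) : ¬ F.Small ∧ ¬ F.swap.Small := by
  have htop : ∀ H : Subgroup G, H.Normal → Nat.card H < Nat.card G → H ≠ ⊥ → False := fun H hH hlt hne => by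
    rcases hH.eq_bot_or_eq_top with e | e
    · exact hne e
    · rw [e, Subgroup.card_top] at hlt
      omega
  have hSG : (F.S : Subgroup G) ≠ ⊤ → Nat.card (F.S : Subgroup G) < Nat.card G := fun h =>
    lt_of_not_ge fun hc => h ((Subgroup.card_eq_iff_eq_top _).1
      (le_antisymm (Subgroup.card_le_card_group _) hc))
  have hStop : (F.S : Subgroup G) ≠ ⊤ := fun e => by
    have hn : F.A.Normal := ⟨fun x hx g => F.conj_mem_A (e.ge (Subgroup.mem_top g)) hx⟩
    refine htop F.A hn ?_ fun hb => ?_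
    · rw [F.card_A, ← Subgroup.card_top (G := G), ← e, F.card_S]
      norm_num
    · have := F.card_A
      rw [hb, Subgroup.card_bot] at this
      omega
  have hAlt : Nat.card F.A < Nat.card G := lt_of_le_of_lt (by rw [F.card_A, F.card_S]; norm_num) (hSG hStop)
  have hBlt : Nat.card F.swap.A < Nat.card G := by rw [F.swap.card_A, ← F.card_A]; exact hAlt
  have hne : ∀ F' : Frm G, F'.A ≠ ⊥ := fun F' hb => by
    have := F'.card_A
    rw [hb, Subgroup.card_bot] at this
    omega
  have hswsw : F.swap.swap.Small ↔ F.Small := by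
    unfold Small
    rw [F.swap.swap_A, F.swap.swap_Z, F.swap_B, F.swap_Z]
  by_cases h1 : F.Small <;> by_cases h2 : F.swap.Small
  · exact (htop _ (F.S_normal_of_small h1 h2 hO) (hSG hStop) (fun hb => hne F (le_bot_iff.1 (hb ▸ F.A_le)))).elim
  · exact (htop _ (F.swap.normal_of_big_small hO h2 (hswsw.2 h1)).1 hBlt (hne _)).elim
  · exact (htop _ (F.normal_of_big_small hO h1 h2).1 hAlt (hne F)).elim
  · exact ⟨h1, h2⟩

omit hO hA hB in
include F in
/-- A simple group with such a Sylow 2-subgroup is `PSL₃(4)`. -/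
theorem nonempty_psl [IsSimpleGroup G] (hO : Cfsg.oddCore G = ⊥) :
    Nonempty (G ≃* Matrix.ProjectiveSpecialLinearGroup (Fin 3) K4) := by
  obtain ⟨hA, hB⟩ := F.big_of_simple hO
  have hsB : ¬ F.swap.swap.Small := by
    unfold Small at hA ⊢
    rw [F.swap.swap_A, F.swap.swap_Z, F.swap_B, F.swap_Z]
    exact hA
  obtain ⟨z, hz, hz1⟩ : ∃ z ∈ F.Z, z ≠ 1 :=
    ⟨F.pA (1, 0), F.pA_mem_Z.2 rfl, fun e => by
      rw [← F.pA_zero] at e
      exact absurd (F.pA_injective e) (by decide)⟩
  have htr : ∀ F' : Frm G, ¬ F'.Small → F'.Z = F.Z → ∀ d ∈ F'.A, d ≠ 1 →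
      ∃ g ∈ Subgroup.normalizer (F'.A : Set G), g⁻¹ * d * g ∈ F'.A ⊓ F'.B := by
    intro F' h hZ d hd hd1
    obtain ⟨n, hn, e⟩ := F'.exists_conj_of_big h (F'.Z_le_A (hZ.symm ▸ hz)) hz1 hd hd1
    refine ⟨n, hn, ?_⟩
    rw [← e, show n⁻¹ * (n * z * n⁻¹) * n = z by group, ← F'.Z_eq, hZ]
    exact hz
  let P : Plane.Frame G :=
    { D := F.A
      E := F.B
      T := F.S
      loc := fun z h1 h2 h3 Q hQ hle =>
        F.le_S_of_centralizer hO hA hB (F.Z_eq ▸ ⟨h1, h2⟩ : z ∈ F.Z) h3 hQ hle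
      sylow := ⟨F.S, rfl⟩
      card_D := F.card_A
      card_E := F.card_B
      card_T := F.card_S
      card_inf := by rw [← F.Z_eq]; exact F.card_Z
      sq_D := fun x hx => F.sq_A hx
      sq_E := fun x hx => F.swap.sq_A (F.swap_A.symm ▸ hx)
      D_le := F.A_le
      E_le := F.B_le
      T_le_D := F.S_le_normalizer
      T_le_E := F.swap_A ▸ F.swap.S_le_normalizer
      fix_D := fun a ha haA d hd h => by
        by_contra hdB
        exact haA (F.mem_A_of_comm hd (fun hz => hdB (F.Z_le_B hz)) ha h)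
      fix_E := fun a ha haB e he h => by
        by_contra heA
        refine haB (F.swap_A ▸ F.swap.mem_A_of_comm (F.swap_A.symm ▸ he)
          (fun hz => heA (F.Z_le_A (F.swap_Z ▸ hz))) ha h)
      comm := fun z h1 h2 t ht => (F.comm_Z (F.Z_eq ▸ ⟨h1, h2⟩ : z ∈ F.Z) ht).symm
      cent_D := F.centralizer_A_le hO hA hB
      cent_E := F.swap_A ▸ F.swap.centralizer_A_le hO hB hsB
      trans_D := htr F hA rfl
      trans_E := by
        have := htr F.swap hB F.swap_Z
        rw [F.swap_A, F.swap_B] at this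
        exact this
      bound_D := F.bound hO hA hB
      bound_E := F.swap_A ▸ F.swap.bound hO hB hsB }
  exact P.nonempty_psl (F.le_card_normalizer hA)

end Frm

end Cfsg.Agent.L34Sylow
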