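import Cfsg.Agent.EqLemmas
import Cfsg.Agent.Lib.L34Sylow.Basic

/-!
# Automorphisms of odd order of the model (S3198)

* `torus` : `(a, b, c) ↦ (λ a, μ b, λ μ c)`
* `exists_conj_torus` : a group of automorphisms of odd order is conjugate into the torus
-/

set_option autoImplicit false

namespace Cfsg.Agent.L34Sylow

open Cfsg.Agent.SU32 (K4)

/-- A diagonal automorphism. -/
def torusAut (u : K4ˣ × K4ˣ) : MulAut H3 where
  toFun x := ⟨(u.1 : K4) * x.a, (u.2 : K4) * x.b, (u.1 : K4) * (u.2 : K4) * x.c⟩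
  invFun x := ⟨((u.1⁻¹ : K4ˣ) : K4) * x.a, ((u.2⁻¹ : K4ˣ) : K4) * x.b,
    ((u.1⁻¹ : K4ˣ) : K4) * ((u.2⁻¹ : K4ˣ) : K4) * x.c⟩
  left_inv x := by
    obtain ⟨a, b, c⟩ := x
    ext <;> simp only
    · rw [← mul_assoc, Units.inv_mul, one_mul]
    · rw [← mul_assoc, Units.inv_mul, one_mul]
    · rw [show ((u.1⁻¹ : K4ˣ) : K4) * ((u.2⁻¹ : K4ˣ) : K4) * ((u.1 : K4) * (u.2 : K4) * c) =
        (((u.1⁻¹ : K4ˣ) : K4) * (u.1 : K4)) * (((u.2⁻¹ : K4ˣ) : K4) * (u.2 : K4)) * c by ring,
        Units.inv_mul, Units.inv_mul, one_mul, one_mul]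
  right_inv x := by
    obtain ⟨a, b, c⟩ := x
    ext <;> simp only
    · rw [← mul_assoc, Units.mul_inv, one_mul]
    · rw [← mul_assoc, Units.mul_inv, one_mul]
    · rw [show (u.1 : K4) * (u.2 : K4) * (((u.1⁻¹ : K4ˣ) : K4) * ((u.2⁻¹ : K4ˣ) : K4) * c) =
        ((u.1 : K4) * ((u.1⁻¹ : K4ˣ) : K4)) * ((u.2 : K4) * ((u.2⁻¹ : K4ˣ) : K4)) * c by ring,
        Units.mul_inv, Units.mul_inv, one_mul, one_mul]
  map_mul' x y := by
    ext <;> simp only [H3.mul_a, H3.mul_b, H3.mul_c] <;> ring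

/-- The torus. -/
def torus : K4ˣ × K4ˣ →* MulAut H3 where
  toFun := torusAut
  map_one' := by
    apply MulEquiv.ext
    intro x
    ext <;> simp [torusAut]
  map_mul' u v := by
    apply MulEquiv.ext
    intro x
    ext <;> simp [torusAut] <;> ring

theorem torus_apply (u : K4ˣ × K4ˣ) (x : H3) :
    torus u x = ⟨(u.1 : K4) * x.a, (u.2 : K4) * x.b, (u.1 : K4) * (u.2 : K4) * x.c⟩ := rfl

theorem card_units : Nat.card K4ˣ = 3 := by
  rw [Nat.card_units, Nat.card_eq_fintype_card, K4.card_eq]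

theorem torus_injective : Function.Injective torus := by
  intro u v h
  have h1 := congrArg H3.a (DFunLike.congr_fun h ⟨1, 0, 0⟩)
  have h2 := congrArg H3.b (DFunLike.congr_fun h ⟨0, 1, 0⟩)
  simp only [torus_apply, mul_one] at h1 h2
  exact Prod.ext (Units.ext h1) (Units.ext h2)

theorem card_torus : Nat.card torus.range = 9 := by
  rw [← Nat.card_congr (MonoidHom.ofInjective torus_injective).toEquiv, Nat.card_prod, card_units]

/-- Coordinates on the model itself. -/
def idFrm : Frm H3 where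
  S := (IsPGroup.of_card (n := 6) (by rw [Subgroup.card_top, H3.card_eq]; norm_num) :
    IsPGroup 2 (⊤ : Subgroup H3)).toSylow (by rw [Subgroup.index_top]; norm_num)
  ι := MonoidHom.id H3
  inj := Function.injective_id
  range_eq := MonoidHom.range_eq_top.2 Function.surjective_id

theorem center_pres (w : MulAut H3) {x : H3} (h : x.a = 0 ∧ x.b = 0) : (w x).a = 0 ∧ (w x).b = 0 := by
  rw [← H3.mem_center_iff] at h ⊢
  rw [Subgroup.mem_center_iff] at h ⊢
  intro y
  apply w.symm.injective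
  simp [h (w.symm y)]

theorem subA_pres {w : MulAut H3} (hodd : Odd (orderOf w)) {x : H3} (hx : x.b = 0) : (w x).b = 0 := by
  have hor : ∀ K : Subgroup H3, (∀ y ∈ K, y * y = 1) → Nat.card K = 16 → K = H3.subA ∨ K = H3.subB := by
    intro K h2 hc
    rcases idFrm.eq_or (fun y _ => idFrm.mem_S.2 ⟨y, rfl⟩) h2 hc with h | h
    · exact Or.inl (h.trans (Subgroup.map_id _))
    · exact Or.inr (h.trans (Subgroup.map_id _))
  have hB16 : Nat.card H3.subB = 16 := by
    have := idFrm.card_B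
    rwa [Frm.B, show idFrm.ι = MonoidHom.id H3 from rfl, Subgroup.map_id] at this
  have himg : ∀ v : MulAut H3, H3.subA.map v.toMonoidHom = H3.subA ∨ H3.subA.map v.toMonoidHom = H3.subB := by
    intro v
    refine hor _ ?_ ((Subgroup.card_map_of_injective v.injective).trans H3.card_subA)
    rintro _ ⟨y, hy, rfl⟩
    rw [← map_mul, (H3.sq_iff y).2 (Or.inr hy), map_one]
  rcases himg w with h | h
  · have hm : w x ∈ H3.subA.map w.toMonoidHom := ⟨x, hx, rfl⟩
    rw [h] at hm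
    exact hm
  exfalso
  have hB : H3.subB.map w.toMonoidHom = H3.subA := by
    refine (hor _ ?_ ((Subgroup.card_map_of_injective w.injective).trans hB16)).resolve_right fun e => ?_
    · rintro _ ⟨y, hy, rfl⟩
      rw [← map_mul, (H3.sq_iff y).2 (Or.inl hy), map_one]
    · have := Subgroup.map_injective (f := w.toMonoidHom) w.injective (e.trans h.symm)
      have h1 : (⟨0, 1, 0⟩ : H3) ∈ H3.subA := this ▸ (rfl : (⟨0, 1, 0⟩ : H3).a = 0)
      exact one_ne_zero (show (1 : K4) = 0 from h1)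
  have key : ∀ i : ℕ, H3.subA.map (w ^ i : MulAut H3).toMonoidHom = if Even i then H3.subA else H3.subB := by
    intro i
    induction i with
    | zero => rw [pow_zero, if_pos Even.zero]; exact Subgroup.map_id _
    | succ i ih =>
      rw [pow_succ', show (w * w ^ i : MulAut H3).toMonoidHom = w.toMonoidHom.comp (w ^ i : MulAut H3).toMonoidHom
        from rfl, ← Subgroup.map_map, ih]
      by_cases hi : Even i
      · rw [if_pos hi, if_neg (fun h => Nat.even_add_one.1 h hi), h]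
      · rw [if_neg hi, if_pos (Nat.even_add_one.2 hi), hB]
  have := key (orderOf w)
  rw [pow_orderOf_eq_one, if_neg (Nat.not_even_iff_odd.2 hodd)] at this
  have h1 : (⟨1, 0, 0⟩ : H3) ∈ H3.subB := this.le ⟨⟨1, 0, 0⟩, rfl, rfl⟩
  exact one_ne_zero (show (1 : K4) = 0 from h1)

theorem subB_pres {w : MulAut H3} (hodd : Odd (orderOf w)) {x : H3} (hx : x.a = 0) : (w x).a = 0 := by
  set v : MulAut H3 := (H3.swap.trans w).trans H3.swap with hv
  have hss : ∀ y, H3.swap (H3.swap y) = y := fun y => H3.swap.left_inv y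
  have hvv : v = MulAut.conj (H3.swap : MulAut H3) w := by
    apply MulEquiv.ext
    intro y
    show H3.swap (w (H3.swap y)) = H3.swap (w (H3.swap.symm y))
    rfl
  have ho : orderOf v = orderOf w := by rw [hvv, MulEquiv.orderOf_eq]
  have := subA_pres (w := v) (ho ▸ hodd) (x := H3.swap x) hx
  rw [show v (H3.swap x) = H3.swap (w (H3.swap (H3.swap x))) from rfl, hss] at this
  exact this

/-- The action on the two lines. -/
theorem card_dvd_nine (W : Subgroup (MulAut H3)) (hW : Odd (Nat.card W)) : Nat.card W ∣ 9 := by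
  classical
  have hodd : ∀ w : W, Odd (orderOf (w : MulAut H3)) := fun w => by
    rw [Subgroup.orderOf_coe]; exact hW.of_dvd_nat (orderOf_dvd_natCard w)
  -- the two actions
  have hA : ∀ (w v : W) (a : K4), ((w : MulAut H3) ((v : MulAut H3) ⟨a, 0, 0⟩)).a =
      ((w : MulAut H3) ⟨((v : MulAut H3) ⟨a, 0, 0⟩).a, 0, 0⟩).a := by
    intro w v a
    set y := (v : MulAut H3) ⟨a, 0, 0⟩
    have hy : y.b = 0 := subA_pres (hodd v) rfl
    have e : y = (⟨y.a, 0, 0⟩ : H3) * ⟨0, 0, y.c⟩ := by ext <;> simp [hy]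
    conv_lhs => rw [e, map_mul, H3.mul_a, (center_pres (w : MulAut H3) (x := ⟨0, 0, y.c⟩) ⟨rfl, rfl⟩).1, add_zero]
  have hB : ∀ (w v : W) (b : K4), ((w : MulAut H3) ((v : MulAut H3) ⟨0, b, 0⟩)).b =
      ((w : MulAut H3) ⟨0, ((v : MulAut H3) ⟨0, b, 0⟩).b, 0⟩).b := by
    intro w v b
    set y := (v : MulAut H3) ⟨0, b, 0⟩
    have hy : y.a = 0 := subB_pres (hodd v) rfl
    have e : y = (⟨0, y.b, 0⟩ : H3) * ⟨0, 0, y.c⟩ := by ext <;> simp [hy]
    conv_lhs => rw [e, map_mul, H3.mul_b, (center_pres (w : MulAut H3) (x := ⟨0, 0, y.c⟩) ⟨rfl, rfl⟩).2, add_zero]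
  let fA : W → Equiv.Perm K4 := fun w =>
    { toFun := fun a => ((w : MulAut H3) ⟨a, 0, 0⟩).a
      invFun := fun a => (((w⁻¹ : W) : MulAut H3) ⟨a, 0, 0⟩).a
      left_inv := fun a => by
        simp only
        rw [← hA, ← MulAut.mul_apply, ← Subgroup.coe_mul, inv_mul_cancel]
        rfl
      right_inv := fun a => by
        simp only
        rw [← hA, ← MulAut.mul_apply, ← Subgroup.coe_mul, mul_inv_cancel]
        rfl }
  let fB : W → Equiv.Perm K4 := fun w =>
    { toFun := fun a => ((w : MulAut H3) ⟨0, a, 0⟩).b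
      invFun := fun a => (((w⁻¹ : W) : MulAut H3) ⟨0, a, 0⟩).b
      left_inv := fun a => by
        simp only
        rw [← hB, ← MulAut.mul_apply, ← Subgroup.coe_mul, inv_mul_cancel]
        rfl
      right_inv := fun a => by
        simp only
        rw [← hB, ← MulAut.mul_apply, ← Subgroup.coe_mul, mul_inv_cancel]
        rfl }
  let φ : W →* Equiv.Perm K4 × Equiv.Perm K4 := MonoidHom.mk' (fun w => (fA w, fB w)) fun w v =>
    Prod.ext (Equiv.ext fun a => hA w v a) (Equiv.ext fun b => hB w v b)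
  have hφ : Function.Injective φ := by
    rw [injective_iff_map_eq_one]
    intro w hw
    have h1 : ∀ a, ((w : MulAut H3) ⟨a, 0, 0⟩).a = a := fun a =>
      DFunLike.congr_fun (congrArg Prod.fst hw) a
    have h2 : ∀ b, ((w : MulAut H3) ⟨0, b, 0⟩).b = b := fun b =>
      DFunLike.congr_fun (congrArg Prod.snd hw) b
    have hmod : ∀ y : H3, ∃ z : H3, z.a = 0 ∧ z.b = 0 ∧ (w : MulAut H3) y = y * z := by
      intro y
      refine ⟨y⁻¹ * (w : MulAut H3) y, ?_, ?_, by group⟩
      · have e : y = (⟨y.a, 0, y.c + y.a * y.b⟩ : H3) * ⟨0, y.b, 0⟩ := by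
          ext <;> simp [add_assoc, H3.add_self]
        have e2 : (⟨y.a, 0, y.c + y.a * y.b⟩ : H3) = (⟨y.a, 0, 0⟩ : H3) * ⟨0, 0, y.c + y.a * y.b⟩ := by
          ext <;> simp
        have : ((w : MulAut H3) y).a = y.a := by
          conv_lhs => rw [e, map_mul, H3.mul_a, e2, map_mul, H3.mul_a, h1,
            subB_pres (hodd w) (x := ⟨0, y.b, 0⟩) rfl, (center_pres _ (x := ⟨0, 0, _⟩) ⟨rfl, rfl⟩).1, add_zero,
            add_zero]
        simp [this, H3.add_self]
      · have e : y = (⟨y.a, 0, y.c + y.a * y.b⟩ : H3) * ⟨0, y.b, 0⟩ := by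
          ext <;> simp [add_assoc, H3.add_self]
        have : ((w : MulAut H3) y).b = y.b := by
          conv_lhs => rw [e, map_mul, H3.mul_b, h2, subA_pres (hodd w) (x := ⟨y.a, 0, y.c + y.a * y.b⟩) rfl, zero_add]
        simp [this, H3.add_self]
    have hZ : ∀ c : K4, (w : MulAut H3) ⟨0, 0, c⟩ = ⟨0, 0, c⟩ := by
      intro c
      obtain ⟨z, hza, hzb, hz⟩ := hmod ⟨1, 0, 0⟩
      obtain ⟨z', hza', hzb', hz'⟩ := hmod ⟨0, c, 0⟩
      have e : (⟨0, 0, c⟩ : H3) = ⟨1, 0, 0⟩ * ⟨0, c, 0⟩ * (⟨1, 0, 0⟩ : H3)⁻¹ * (⟨0, c, 0⟩ : H3)⁻¹ := by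
        ext <;> simp [H3.add_self]
      rw [e, map_mul, map_mul, map_mul, map_inv, map_inv, hz, hz']
      ext <;> simp [hza, hzb, hza', hzb', H3.add_self]
      ring_nf
      rw [show z.c * 2 = z.c + z.c by ring, show z'.c * 2 = z'.c + z'.c by ring, H3.add_self, H3.add_self]
      ring_nf
    apply Subtype.ext
    refine MulEquiv.ext fun y => ?_
    obtain ⟨z, hza, hzb, hz⟩ := hmod y
    have hzz : (w : MulAut H3) z = z := by
      rw [show z = ⟨0, 0, z.c⟩ from H3.ext hza hzb rfl]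
      exact hZ _
    have hpow : ∀ i : ℕ, ((w : MulAut H3) ^ i) y = y * z ^ i := by
      intro i
      induction i with
      | zero => simp
      | succ i ih => rw [pow_succ', MulAut.mul_apply, ih, map_mul, map_pow, hzz, hz, mul_assoc, ← pow_succ']
    have h := hpow (orderOf (w : MulAut H3))
    obtain ⟨j, hj⟩ := hodd w
    rw [pow_orderOf_eq_one, MulAut.one_apply, hj, pow_succ, pow_mul, pow_two, (H3.sq_iff z).2 (Or.inl hza),
      one_pow, one_mul, left_eq_mul] at h
    rw [hz, h, mul_one]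
    rfl
  set P0 := MulAction.stabilizer (Equiv.Perm K4) (0 : K4)
  have hle : φ.range ≤ P0.prod P0 := by
    rintro _ ⟨w, rfl⟩
    exact ⟨(center_pres (w : MulAut H3) (x := ⟨0, 0, 0⟩) ⟨rfl, rfl⟩).1,
      (center_pres (w : MulAut H3) (x := ⟨0, 0, 0⟩) ⟨rfl, rfl⟩).2⟩
  have hP0 : Nat.card P0 = 6 := by
    refine (Nat.card_congr (Equiv.subtypeEquivRight (q := fun σ : Equiv.Perm K4 => σ 0 = 0)
      fun σ => (Iff.rfl : σ ∈ P0 ↔ σ 0 = 0))).trans ?_
    rw [Nat.card_eq_fintype_card]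
    decide +kernel
  have h36 : Nat.card W ∣ 2 ^ 2 * 9 := by
    rw [Nat.card_congr (MonoidHom.ofInjective hφ).toEquiv]
    refine (Subgroup.card_dvd_of_le hle).trans (dvd_of_eq ?_)
    rw [Nat.card_congr (P0.prodEquiv P0).toEquiv, Nat.card_prod, hP0]
    norm_num
  exact (Nat.Coprime.pow_right 2 (Nat.coprime_two_right.2 hW)).dvd_of_dvd_mul_left h36

/-- Odd groups of automorphisms are conjugate into the torus. -/
theorem exists_conj_torus (W : Subgroup (MulAut H3)) (hW : Odd (Nat.card W)) :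
    ∃ σ : MulAut H3, ∀ w ∈ W, σ⁻¹ * w * σ ∈ torus.range := by
  haveI : Finite (MulAut H3) :=
    Finite.of_injective (fun f : MulAut H3 => (f : H3 → H3)) DFunLike.coe_injective
  haveI : Fact (Nat.Prime 3) := ⟨Nat.prime_three⟩
  have hT : IsPGroup 3 torus.range := IsPGroup.of_card (n := 2) (by rw [card_torus]; norm_num)
  obtain ⟨R, hR⟩ := hT.exists_le_sylow
  have hR9 : (R : Subgroup (MulAut H3)) = torus.range := by
    refine (Subgroup.eq_of_le_of_card_ge hR ?_).symm
    obtain ⟨k, hk⟩ := IsPGroup.iff_card.1 R.isPGroup'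
    rw [card_torus]
    exact Nat.le_of_dvd (by norm_num) (card_dvd_nine _ (by rw [hk]; exact Odd.pow (by decide)))
  obtain ⟨j, -, hj⟩ := (Nat.dvd_prime_pow Nat.prime_three).1
    (show Nat.card W ∣ 3 ^ 2 from card_dvd_nine W hW)
  obtain ⟨Q, hQ⟩ := (IsPGroup.of_card hj : IsPGroup 3 W).exists_le_sylow
  obtain ⟨σ, hσ⟩ := MulAction.exists_smul_eq (MulAut H3) R Q
  refine ⟨σ, fun w hw => ?_⟩
  have := hQ hw
  rw [← hσ, smul_sylow_eq, mem_map_conj] at this
  rwa [← hR9]

end Cfsg.Agent.L34Sylow
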