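import Cfsg.Agent.EqLemmas
import Cfsg.Agent.S0051
import Cfsg.Agent.S0813
import Cfsg.Agent.Lib.AutPSL.Count
import Cfsg.Agent.Lib.L34Sylow.Simple
import Cfsg.Agent.Lib.L34Sylow.Torus

/-!
# The embedding into `PGL₃(4)` (S3198)

* `Frm.embed_small` : both small: `S` is normal, the group is in the Borel subgroup
* `Frm.embed_big_small` : one big: `A` is normal, the group is in the stabiliser of a line
* `Frm.embed_big_big` : both big: the group is between `PSL₃(4)` and its automorphism group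
* `Frm.exists_embed` : the three together
-/

set_option autoImplicit false

open Cfsg Matrix

namespace Cfsg.Agent.L34Sylow

open Cfsg.Agent.SU32 (K4)

universe u

/-- `PGL₃(4)`. -/
abbrev P3 : Type := GL (Fin 3) K4 ⧸ Subgroup.center (GL (Fin 3) K4)

/-- A homomorphism into matrices with no scalar value but at `1` gives an embedding into `PGL₃(4)`. -/
theorem exists_injective_of_matrix {G : Type*} [Group G] (θ : G →* Matrix (Fin 3) (Fin 3) K4)
    (h : ∀ g : G, (∃ k : K4, θ g = Matrix.scalar (Fin 3) k) → g = 1) :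
    ∃ f : G →* P3, Function.Injective f := by
  refine ⟨(QuotientGroup.mk' _).comp θ.toHomUnits, (injective_iff_map_eq_one _).2 fun g hg => ?_⟩
  have hc : θ.toHomUnits g ∈ Subgroup.center (GL (Fin 3) K4) :=
    (QuotientGroup.eq_one_iff _).1 hg
  rw [GeneralLinearGroup.center_eq_range_scalar] at hc
  obtain ⟨u, hu⟩ := hc
  exact h g ⟨(u : K4), (congrArg Units.val hu).symm⟩

/-- The unitriangular matrix with coordinates `x`. -/
def uMat (x : H3) : Matrix (Fin 3) (Fin 3) K4 := !![1, x.a, x.c; 0, 1, x.b; 0, 0, 1]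

theorem uMat_mul (x y : H3) : uMat x * uMat y = uMat (x * y) := by
  ext i j
  fin_cases i <;> fin_cases j <;> simp [uMat, Matrix.mul_apply, Fin.sum_univ_three] <;> ring

/-- The diagonal matrix inducing a torus element. -/
def dMat (u : K4ˣ × K4ˣ) : Matrix (Fin 3) (Fin 3) K4 :=
  !![(u.1 : K4) * (u.2 : K4), 0, 0; 0, (u.2 : K4), 0; 0, 0, 1]

theorem dMat_mul (u v : K4ˣ × K4ˣ) : dMat u * dMat v = dMat (u * v) := by
  ext i j
  fin_cases i <;> fin_cases j <;> simp [dMat, Matrix.mul_apply, Fin.sum_univ_three]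
  ring

theorem uMat_one : uMat 1 = 1 := by
  ext i j
  fin_cases i <;> fin_cases j <;> simp [uMat]

theorem dMat_one : dMat 1 = 1 := by
  ext i j
  fin_cases i <;> fin_cases j <;> simp [dMat]

theorem dMat_uMat (u : K4ˣ × K4ˣ) (x : H3) : dMat u * uMat x = uMat (torus u x) * dMat u := by
  ext i j
  fin_cases i <;> fin_cases j <;>
    simp [dMat, uMat, torus_apply, Matrix.mul_apply, Fin.sum_univ_three] <;> ring

/-- The matrix of an affine map of the coordinates of `A`. -/
def affMat (f : Equiv.Perm V2) (v : V2) : Matrix (Fin 3) (Fin 3) K4 :=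
  !![(f (1, 0)).1, (f (0, 1)).1, v.1; (f (1, 0)).2, (f (0, 1)).2, v.2; 0, 0, 1]

theorem affMat_mul {f : Equiv.Perm V2}
    (hf : ∀ w, f w = mat (f (1, 0)).1 (f (1, 0)).2 (f (0, 1)).1 (f (0, 1)).2 w) (g : Equiv.Perm V2) (v w : V2) :
    affMat f v * affMat g w = affMat (f * g) (v + f w) := by
  ext i j
  simp only [affMat, Equiv.Perm.mul_apply]
  rw [hf (g (1, 0)), hf (g (0, 1)), hf w]
  fin_cases i <;> fin_cases j <;> simp [mat, Matrix.mul_apply, Fin.sum_univ_three] <;> ring

namespace Frm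

variable {G : Type u} [Group G] [Finite G] (F : Frm G) (hO : Cfsg.oddCore G = ⊥)
include F hO

/-- Both small. -/
theorem embed_small (hA : F.Small) (hB : F.swap.Small) : ∃ f : G →* P3, Function.Injective f := by
  haveI : Fact (Nat.Prime 2) := ⟨Nat.prime_two⟩
  haveI hn : (F.S : Subgroup G).Normal := F.S_normal_of_small hA hB hO
  have hidx : Odd (F.S : Subgroup G).index :=
    Nat.not_even_iff_odd.1 fun he => F.S.not_dvd_index (even_iff_two_dvd.1 he)
  obtain ⟨W, hW⟩ := Subgroup.exists_right_complement'_of_coprime (N := (F.S : Subgroup G)) (by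
    rw [F.card_S, show (64 : ℕ) = 2 ^ 6 by norm_num]
    exact Nat.Coprime.pow_left 6 (Nat.coprime_two_left.2 hidx))
  have hWodd : Odd (Nat.card W) := hW.symm.index_eq_card ▸ hidx
  let eS : H3 ≃* (F.S : Subgroup G) :=
    (MonoidHom.ofInjective F.inj).trans (MulEquiv.subgroupCongr F.range_eq)
  let α₀ : W →* MulAut H3 :=
    (MulAut.congr eS.symm).toMonoidHom.comp ((MulAut.conjNormal (H := (F.S : Subgroup G))).comp W.subtype)
  have hα : ∀ (w : W) (x : H3), F.ι (α₀ w x) = (w : G) * F.ι x * (w : G)⁻¹ := by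
    intro w x
    show ((eS (eS.symm (MulAut.conjNormal (w : G) (eS x))) : (F.S : Subgroup G)) : G) = _
    rw [MulEquiv.apply_symm_apply, MulAut.conjNormal_apply]
    rfl
  have hinj : Function.Injective α₀ := by
    rw [injective_iff_map_eq_one]
    intro w hw
    have hwS : ∀ s ∈ (F.S : Subgroup G), (w : G) * s = s * (w : G) := by
      intro s hs
      obtain ⟨x, rfl⟩ := F.mem_S.1 hs
      have := hα w x
      rw [hw, MulAut.one_apply] at this
      exact mul_inv_eq_iff_eq_mul.1 this.symm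
    have h1 : (w : G) ∈ (F.S : Subgroup G) ⊓ W :=
      ⟨F.A_le (F.Z_le_A (F.mem_Z_of_centralizes hO hn hwS)), w.2⟩
    rw [hW.disjoint.eq_bot] at h1
    exact Subtype.ext (Subgroup.mem_bot.1 h1)
  obtain ⟨σ, hσ⟩ := exists_conj_torus α₀.range (by
    rwa [← Nat.card_congr (MonoidHom.ofInjective hinj).toEquiv])
  have hex : ∀ w : W, ∃ u, torus u = σ⁻¹ * α₀ w * σ := fun w => hσ _ ⟨w, rfl⟩
  choose u hu using hex
  have hu1 : u 1 = 1 := torus_injective (by rw [hu, map_one, map_one, mul_one, inv_mul_cancel])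
  have hu_mul : ∀ v w : W, u (v * w) = u v * u w := fun v w =>
    torus_injective (by rw [map_mul, hu, hu, hu, map_mul]; group)
  have hu_inj : ∀ w : W, u w = 1 → w = 1 := fun w h => by
    refine hinj ?_
    have := hu w
    rw [h, map_one] at this
    rw [map_one, show α₀ w = σ * (σ⁻¹ * α₀ w * σ) * σ⁻¹ by group, ← this, mul_one, mul_inv_cancel]
  set F₁ := F.comp σ
  have hconj : ∀ (w : W) (x : H3), (w : G) * F₁.ι x * (w : G)⁻¹ = F₁.ι (torus (u w) x) := fun w x => by
    rw [comp_ι, comp_ι, ← hα, hu, MulAut.mul_apply, MulAut.mul_apply]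
    rw [show σ (σ⁻¹ (α₀ w (σ x))) = α₀ w (σ x) from σ.apply_symm_apply _]
  have hbij : Function.Bijective (fun p : H3 × W => F₁.ι p.1 * (p.2 : G)) := by
    refine (Nat.bijective_iff_injective_and_card _).2 ⟨?_, ?_⟩
    · rintro ⟨x, w⟩ ⟨y, v⟩ e
      simp only at e
      have h1 : (F₁.ι y)⁻¹ * F₁.ι x ∈ (F.S : Subgroup G) ⊓ W := by
        refine ⟨(F.S : Subgroup G).mul_mem ((F.S : Subgroup G).inv_mem (F₁.ι_mem _)) (F₁.ι_mem _), ?_⟩
        rw [show (F₁.ι y)⁻¹ * F₁.ι x = (v : G) * (w : G)⁻¹ by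
          rw [inv_mul_eq_iff_eq_mul, ← mul_assoc, ← e, mul_inv_cancel_right]]
        exact W.mul_mem v.2 (W.inv_mem w.2)
      rw [hW.disjoint.eq_bot, Subgroup.mem_bot, inv_mul_eq_one] at h1
      obtain rfl := F₁.inj h1
      exact Prod.ext rfl (Subtype.ext (mul_left_cancel e))
    · rw [Nat.card_prod, H3.card_eq, ← F.card_S, hW.card_mul]
  let e := Equiv.ofBijective _ hbij
  have he : ∀ g, F₁.ι (e.symm g).1 * ((e.symm g).2 : G) = g := fun g => e.apply_symm_apply g
  have hmul : ∀ g g', e.symm (g * g') =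
      ((e.symm g).1 * torus (u (e.symm g).2) (e.symm g').1, (e.symm g).2 * (e.symm g').2) := by
    intro g g'
    rw [Equiv.symm_apply_eq]
    show g * g' = F₁.ι _ * ((_ : W) : G)
    conv_lhs => rw [← he g, ← he g']
    rw [map_mul, ← hconj, Subgroup.coe_mul]
    group
  let θ : G →* Matrix (Fin 3) (Fin 3) K4 :=
    { toFun := fun g => uMat (e.symm g).1 * dMat (u (e.symm g).2)
      map_one' := by
        have h1 : e.symm 1 = (1, 1) := by
          rw [Equiv.symm_apply_eq]
          show (1 : G) = F₁.ι 1 * ((1 : W) : G)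
          rw [map_one, Subgroup.coe_one, mul_one]
        rw [h1, uMat_one, hu1, dMat_one, mul_one]
      map_mul' := fun g g' => by
        rw [hmul, ← uMat_mul, hu_mul, ← dMat_mul]
        simp only [mul_assoc]
        rw [← mul_assoc (dMat _) (uMat _), dMat_uMat, mul_assoc] }
  refine exists_injective_of_matrix θ fun g ⟨k, hk⟩ => ?_
  have hx : ∀ i j, (uMat (e.symm g).1 * dMat (u (e.symm g).2)) i j = Matrix.scalar (Fin 3) k i j :=
    fun i j => congrFun (congrFun hk i) j
  have h22 := hx 2 2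
  have h00 := hx 0 0
  have h11 := hx 1 1
  have h01 := hx 0 1
  have h02 := hx 0 2
  have h12 := hx 1 2
  simp [uMat, dMat, Matrix.mul_apply, Fin.sum_univ_three] at h22 h00 h11 h01 h02 h12
  subst h22
  have h2 : (u (e.symm g).2).2 = 1 := Units.ext h11
  have h1 : (u (e.symm g).2).1 = 1 := Units.ext (by rwa [h11, mul_one] at h00)
  rw [← he g, hu_inj _ (Prod.ext h1 h2), show (e.symm g).1 = 1 from H3.ext h01 h12 h02, map_one,
    Subgroup.coe_one, mul_one]

/-- `A` big, `B` small. -/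
theorem embed_big_small (hA : ¬ F.Small) (hB : F.swap.Small) : ∃ f : G →* P3, Function.Injective f := by
  haveI : Fact (Nat.Prime 2) := ⟨Nat.prime_two⟩
  obtain ⟨hn, hc⟩ := F.normal_of_big_small hO hA hB
  obtain ⟨μ, -, hl⟩ := F.exists_linear hA
  set F' := F.comp (H3.shear μ)
  rw [← F.shear_A μ] at hn hc
  haveI := hn
  haveI := F'.isMulCommutative_A
  have hidx : Odd (F'.S : Subgroup G).index :=
    Nat.not_even_iff_odd.1 fun he => F'.S.not_dvd_index (even_iff_two_dvd.1 he)
  let B₀ : Subgroup H3 :=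
    { carrier := {x | x.a = 0 ∧ x.c = 0}
      one_mem' := ⟨rfl, rfl⟩
      mul_mem' := fun {x y} hx hy => ⟨by simp [hx.1, hy.1], by simp [hx.1, hx.2, hy.2]⟩
      inv_mem' := fun {x} hx => ⟨by simp [hx.1], by simp [hx.1, hx.2]⟩ }
  obtain ⟨H, hH⟩ := Cfsg.Agent.S0051.result F'.A (F'.S : Subgroup G) F'.A_le (by
      rw [F'.card_A, show (16 : ℕ) = 2 ^ 4 by norm_num]
      exact Nat.Coprime.pow_left 4 (Nat.coprime_two_left.2 hidx))
    (B₀.map F'.ι) (by rintro _ ⟨x, -, rfl⟩; exact F'.ι_mem x) (by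
      refine (Subgroup.eq_bot_iff_forall _).2 fun g ⟨⟨x, hx, hxg⟩, hgA⟩ => ?_
      have hgA : x.b = 0 := F'.ι_mem_A.1 (hxg ▸ hgA)
      rw [← hxg, show x = 1 from H3.ext hx.1 hgA hx.2, map_one]) (by
      refine le_antisymm (sup_le F'.A_le (by rintro _ ⟨x, -, rfl⟩; exact F'.ι_mem x)) fun g hg => ?_
      obtain ⟨x, rfl⟩ := F'.mem_S.1 hg
      rw [show x = (⟨x.a, 0, x.c + x.a * x.b⟩ : H3) * ⟨0, x.b, 0⟩ by
        ext <;> simp [add_assoc, H3.add_self], map_mul]
      exact Subgroup.mul_mem_sup (F'.ι_mem_A.2 rfl) ⟨_, ⟨rfl, rfl⟩, rfl⟩)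
  have htop : ∀ g : G, g ∈ Subgroup.normalizer (F'.A : Set G) := fun g =>
    Subgroup.mem_normalizer_iff.2 fun x => ⟨fun hx => hn.conj_mem x hx g, fun hx => by
      have := hn.conj_mem _ hx g⁻¹
      rwa [show g⁻¹ * (g * x * g⁻¹) * g⁻¹⁻¹ = x by group] at this⟩
  let act : G →* Equiv.Perm V2 := F'.act.comp ((MonoidHom.id G).codRestrict _ htop)
  have hact : ∀ g v, F'.pA (act g v) = g * F'.pA v * g⁻¹ := fun g v => F'.pA_act ⟨g, htop g⟩ v
  have hX : ∀ g, act g ∈ F'.X := fun g => ⟨⟨g, htop g⟩, rfl⟩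
  have hlin : ∀ g w, act g w = mat (act g (1, 0)).1 (act g (1, 0)).2 (act g (0, 1)).1 (act g (0, 1)).2 w :=
    fun g => (hl.lin _ (hX g)).eq_mk (F'.X_add (hX g))
  have hker : ∀ g, act g = 1 → g ∈ F'.A := fun g hg => hc.le (Subgroup.mem_centralizer_iff.2 fun a ha => by
    obtain ⟨v, rfl⟩ := F'.exists_pA ha
    have := hact g v
    rw [hg, Equiv.Perm.one_apply] at this
    exact (mul_inv_eq_iff_eq_mul.1 this.symm).symm)
  have hbij : Function.Bijective (fun p : V2 × H => F'.pA p.1 * (p.2 : G)) := by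
    refine (Nat.bijective_iff_injective_and_card _).2 ⟨?_, ?_⟩
    · rintro ⟨x, w⟩ ⟨y, v⟩ e
      simp only at e
      have h1 : (F'.pA y)⁻¹ * F'.pA x ∈ F'.A ⊓ H := by
        refine ⟨F'.A.mul_mem (F'.A.inv_mem (F'.pA_mem _)) (F'.pA_mem _), ?_⟩
        rw [show (F'.pA y)⁻¹ * F'.pA x = (v : G) * (w : G)⁻¹ by
          rw [inv_mul_eq_iff_eq_mul, ← mul_assoc, ← e, mul_inv_cancel_right]]
        exact H.mul_mem v.2 (H.inv_mem w.2)
      rw [hH.disjoint.eq_bot, Subgroup.mem_bot, inv_mul_eq_one] at h1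
      obtain rfl := F'.pA_injective h1
      exact Prod.ext rfl (Subtype.ext (mul_left_cancel e))
    · rw [Nat.card_prod, ← hH.card_mul, F'.card_A]
      congr 1
      rw [Nat.card_eq_fintype_card]
      rfl
  let e := Equiv.ofBijective _ hbij
  have he : ∀ g, F'.pA (e.symm g).1 * ((e.symm g).2 : G) = g := fun g => e.apply_symm_apply g
  have hmul : ∀ g g', e.symm (g * g') =
      ((e.symm g).1 + act ((e.symm g).2 : G) (e.symm g').1, (e.symm g).2 * (e.symm g').2) := by
    intro g g'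
    rw [Equiv.symm_apply_eq]
    show g * g' = F'.pA _ * ((_ : H) : G)
    conv_lhs => rw [← he g, ← he g']
    rw [F'.pA_add, hact, Subgroup.coe_mul]
    group
  have hone : e.symm 1 = (0, 1) := by
    rw [Equiv.symm_apply_eq]
    show (1 : G) = F'.pA 0 * ((1 : H) : G)
    rw [F'.pA_zero, Subgroup.coe_one, mul_one]
  let θ : G →* Matrix (Fin 3) (Fin 3) K4 :=
    { toFun := fun g => affMat (act ((e.symm g).2 : G)) (e.symm g).1
      map_one' := by
        rw [hone]
        ext i j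
        fin_cases i <;> fin_cases j <;> simp [affMat]
      map_mul' := fun g g' => by
        rw [affMat_mul (hlin _), hmul, Subgroup.coe_mul, map_mul] }
  refine exists_injective_of_matrix θ fun g ⟨k, hk⟩ => ?_
  have hx : ∀ i j, affMat (act ((e.symm g).2 : G)) (e.symm g).1 i j = Matrix.scalar (Fin 3) k i j :=
    fun i j => congrFun (congrFun hk i) j
  have h22 := hx 2 2
  have h00 := hx 0 0
  have h10 := hx 1 0
  have h01 := hx 0 1
  have h11 := hx 1 1
  have h02 := hx 0 2
  have h12 := hx 1 2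
  simp [affMat] at h22 h00 h10 h01 h11 h02 h12
  subst h22
  have h1 : act ((e.symm g).2 : G) = 1 := Equiv.ext fun w => by
    rw [hlin, h00, h10, h01, h11]
    ext <;> simp [mat]
  have h2 : ((e.symm g).2 : G) ∈ F'.A ⊓ H := ⟨hker _ h1, (e.symm g).2.2⟩
  rw [hH.disjoint.eq_bot, Subgroup.mem_bot] at h2
  rw [← he g, h2, show (e.symm g).1 = 0 from Prod.ext h02 h12, F'.pA_zero, mul_one]

/-- Both big. -/
theorem embed_big_big (hA : ¬ F.Small) (hB : ¬ F.swap.Small) : ∃ f : G →* P3, Function.Injective f := by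
  classical
  haveI : Fact (Nat.Prime 2) := ⟨Nat.prime_two⟩
  haveI : Fact (Nat.Prime 3) := ⟨Nat.prime_three⟩
  obtain ⟨K, hKn, hfac, hSK, hC⟩ := F.simple_of_big_big hO hA hB
  haveI := hKn
  haveI := hfac.simple
  have hOK : Cfsg.oddCore K = ⊥ := by
    refine (Subgroup.map_eq_bot_iff_of_injective _ K.subtype_injective).1 ?_
    rw [Cores.pPrimeCore_map_subtype, show Cfsg.pPrimeCore 2 G = ⊥ from hO, bot_inf_eq]
  obtain ⟨e⟩ := (F.restrict K hSK).nonempty_psl hOK
  let Φ : G →* MulAut (Matrix.ProjectiveSpecialLinearGroup (Fin 3) K4) :=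
    (MulAut.congr e).toMonoidHom.comp (MulAut.conjNormal (H := K))
  have hΦ : ∀ g p, Φ g p = e (MulAut.conjNormal g (e.symm p)) := fun g p => rfl
  have hΦinj : Function.Injective Φ := by
    rw [injective_iff_map_eq_one]
    intro g hg
    rw [← Subgroup.mem_bot, ← hC, Subgroup.mem_centralizer_iff]
    intro k hk
    have h1 := hΦ g (e ⟨k, hk⟩)
    rw [hg, MulAut.one_apply, e.symm_apply_apply] at h1
    have h2 := congrArg Subtype.val (e.injective h1)
    rw [MulAut.conjNormal_apply] at h2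
    exact (mul_inv_eq_iff_eq_mul.1 h2.symm).symm
  set M := MulAut (Matrix.ProjectiveSpecialLinearGroup (Fin 3) K4)
  set I : Subgroup M := (MulAut.conj (G := Matrix.ProjectiveSpecialLinearGroup (Fin 3) K4)).range
  let ω : GL (Fin 3) K4 →* M :=
    MonoidHom.mk' (fun g => AutPSL.semi g (RingEquiv.refl K4)) fun g h => (AutPSL.semi_refl_mul (m := 1) g h).symm
  set J : Subgroup M := ω.range
  have hker : ω.ker = Subgroup.center (GL (Fin 3) K4) := by
    ext g
    rw [MonoidHom.mem_ker]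
    exact (AutPSL.semi_eq_one_iff (m := 1)).trans ⟨fun h => h.2, fun h => ⟨rfl, h⟩⟩
  have eJ : P3 ≃* J :=
    (QuotientGroup.quotientMulEquivOfEq hker.symm).trans (QuotientGroup.quotientKerEquivRange ω)
  have hSL : Nat.card (Matrix.SpecialLinearGroup (Fin 3) K4) = 60480 := by
    rw [GLOrder.card_SL, Nat.card_eq_fintype_card, SU32.K4.card_eq]
    simp only [Fintype.card_fin, show Finset.Ico 1 3 = {1, 2} from rfl]
    decide
  have hP : Nat.card (Matrix.ProjectiveSpecialLinearGroup (Fin 3) K4) = 20160 := by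
    rw [GLOrder.card_PSL, GLOrder.card_SL, Nat.card_eq_fintype_card, SU32.K4.card_eq]
    simp only [Fintype.card_fin, show Finset.Ico 1 3 = {1, 2} from rfl]
    decide
  have hPGL : Nat.card (Matrix.ProjGenLinGroup (Fin 3) K4) = 60480 := by rw [GLOrder.card_PGL, hSL]
  have hJ : Nat.card J = 60480 := by
    rw [← hPGL, ← Nat.card_congr eJ.toEquiv]
    rfl
  have hM : Nat.card M = 241920 := by
    rw [Cfsg.Agent.S0813.result (F := K4) 2 2 (by norm_num) (by rw [SU32.K4.card_eq]; norm_num) 3 (by norm_num)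
      (by norm_num), hPGL]
    norm_num
  have hI : Nat.card I = 20160 := by
    rw [← hP]
    refine (Nat.card_congr (MonoidHom.ofInjective ?_).toEquiv).symm
    haveI : IsSimpleGroup (Matrix.ProjectiveSpecialLinearGroup (Fin 3) K4) := IsSimpleGroup.isSimpleGroup_of_surjective e.toMonoidHom e.surjective
    refine (MonoidHom.ker_eq_bot_iff _).1 ((IsSimpleGroup.eq_bot_or_eq_top_of_normal _ inferInstance).resolve_right fun h => ?_)
    refine hfac.nonab ⟨⟨fun a b => e.injective ?_⟩⟩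
    have h1 : MulAut.conj (e a) = 1 := MonoidHom.mem_ker.1 (h ▸ Subgroup.mem_top _)
    have h2 := DFunLike.congr_fun h1 (e b)
    rw [MulAut.conj_apply, MulAut.one_apply, mul_inv_eq_iff_eq_mul] at h2
    rw [map_mul, map_mul, h2]
  have hIn : ∀ (m : M), I.map (MulAut.conj m).toMonoidHom ≤ I := by
    rintro m _ ⟨_, ⟨x, rfl⟩, rfl⟩
    refine ⟨m x, MulEquiv.ext fun p => ?_⟩
    show m x * p * (m x)⁻¹ = m (x * (m⁻¹ p) * x⁻¹)
    rw [map_mul, map_mul, map_inv, show m (m⁻¹ p) = p from m.apply_symm_apply p]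
  have hIJ : I ≤ J := by
    rintro _ ⟨x, rfl⟩
    obtain ⟨s, rfl⟩ := AutPSL.proj_surjective (n := Fin 3) (F := K4) x
    refine ⟨Matrix.SpecialLinearGroup.toGL s, MulEquiv.ext fun p => ?_⟩
    obtain ⟨t, rfl⟩ := AutPSL.proj_surjective (n := Fin 3) (F := K4) p
    show AutPSL.semi _ _ (AutPSL.proj _ _ t) = _
    rw [MulAut.conj_apply, ← map_inv, ← map_mul, ← map_mul]
    refine AutPSL.semi_proj_eq _ _ ?_
    simp [Matrix.inv_def]
  have hIH : I ≤ Φ.range := by
    rintro _ ⟨x, rfl⟩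
    refine ⟨((e.symm x : K) : G), MulEquiv.ext fun p => ?_⟩
    rw [hΦ, MulAut.conj_apply]
    apply e.symm.injective
    rw [e.symm_apply_apply, map_mul, map_mul, map_inv]
    exact Subtype.ext (MulAut.conjNormal_apply _ _)
  set H := Φ.range
  have hHG : Nat.card H = Nat.card G := (Nat.card_congr (MonoidHom.ofInjective hΦinj).toEquiv).symm
  have hK : Nat.card K = 20160 := (Nat.card_congr e.toEquiv).trans hP
  have hcase : Nat.card H = 20160 ∨ Nat.card H = 60480 := by
    have h1 : Nat.card H ∣ 241920 := hM ▸ Subgroup.card_subgroup_dvd_card H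
    have h2 : Nat.card K * K.index = Nat.card H := by rw [hHG]; exact K.card_mul_index
    have h3 : Odd K.index := by
      rw [Nat.odd_iff]
      by_contra h
      exact F.S.not_dvd_index ((show 2 ∣ K.index by omega).trans (Subgroup.index_dvd_of_le hSK))
    rw [← h2, hK] at h1 ⊢
    have h4 : K.index ∣ 12 := by
      rw [show 241920 = 20160 * 12 by norm_num] at h1
      exact Nat.dvd_of_mul_dvd_mul_left (by norm_num) h1
    have h5 := Nat.le_of_dvd (by norm_num) h4
    rw [Nat.odd_iff] at h3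
    interval_cases h : K.index <;> omega
  have hconj : ∃ m : M, H.map (MulAut.conj m).toMonoidHom ≤ J := by
    rcases hcase with h | h
    · refine ⟨1, ?_⟩
      rw [map_conj_one, ← Subgroup.eq_of_le_of_card_ge hIH (by rw [h, hI])]
      exact hIJ
    -- a Sylow 3-subgroup of both
    have hsyl : ∀ L : Subgroup M, Nat.card L = 60480 → ∃ R : Sylow 3 M, (R : Subgroup M) ≤ L ∧ Nat.card R = 27 := by
      intro L hL
      obtain ⟨R₀, hR₀⟩ := Sylow.exists_subgroup_card_pow_prime (G := L) 3 (n := 3) (by rw [hL]; norm_num)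
      have hR : Nat.card (R₀.map L.subtype) = 27 := by
        rw [Subgroup.card_map_of_injective L.subtype_injective, hR₀]; norm_num
      refine ⟨(IsPGroup.of_card (n := 3) (by rw [hR]; norm_num) : IsPGroup 3 (R₀.map L.subtype)).toSylow ?_,
        Subgroup.map_subtype_le _, hR⟩
      intro h3
      have hmul := (R₀.map L.subtype).card_mul_index
      rw [hR, hM] at hmul
      omega
    obtain ⟨RH, hRH, hcH⟩ := hsyl H h
    obtain ⟨RJ, hRJ, hcJ⟩ := hsyl J hJ
    haveI : Finite M := Nat.finite_of_card_ne_zero (by rw [hM]; norm_num)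
    have hHeq : I ⊔ (RH : Subgroup M) = H := by
      refine Subgroup.eq_of_le_of_card_ge (sup_le hIH hRH) ?_
      have h1 : 20160 ∣ Nat.card ↥(I ⊔ (RH : Subgroup M)) := hI ▸ Subgroup.card_dvd_of_le le_sup_left
      have h2 : 27 ∣ Nat.card ↥(I ⊔ (RH : Subgroup M)) := hcH ▸ Subgroup.card_dvd_of_le le_sup_right
      rw [h]
      refine Nat.le_of_dvd Nat.card_pos ?_
      exact Nat.Coprime.mul_dvd_of_dvd_of_dvd (by norm_num : Nat.Coprime 2240 27)
        ((by norm_num : 2240 ∣ 20160).trans h1) h2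
    obtain ⟨m, hm⟩ := MulAction.exists_smul_eq M RH RJ
    refine ⟨m, ?_⟩
    rw [← hHeq, Subgroup.map_sup]
    refine sup_le ((hIn m).trans hIJ) ?_
    rw [← smul_sylow_eq, hm]
    exact hRJ
  obtain ⟨m, hm⟩ := hconj
  refine ⟨eJ.symm.toMonoidHom.comp (((MulAut.conj m).toMonoidHom.comp Φ).codRestrict J fun g =>
    hm ⟨Φ g, ⟨g, rfl⟩, rfl⟩), eJ.symm.injective.comp fun a b h => ?_⟩
  exact hΦinj ((MulAut.conj m).injective (congrArg Subtype.val h))

/-- The embedding. -/
theorem exists_embed : ∃ f : G →* P3, Function.Injective f := by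
  by_cases hA : F.Small <;> by_cases hB : F.swap.Small
  · exact F.embed_small hO hA hB
  · refine F.swap.embed_big_small hO hB ?_
    unfold Small at hA ⊢
    rw [F.swap.swap_A, F.swap.swap_Z, F.swap_B, F.swap_Z]
    exact hA
  · exact F.embed_big_small hO hA hB
  · exact F.embed_big_big hO hA hB

end Frm

end Cfsg.Agent.L34Sylow
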